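import Cfsg.Agent.H774.BicyclicC

/-!
# A subgroup `Q` with an automorphism `b` of order three inverted by `t` (helper774)
-/

set_option autoImplicit false

namespace Cfsg.Agent.H774

open Subgroup Cfsg.Agent.OddOrderLocal.Metacyclic

/-- A commutative finite 2-group with at most one involution is cyclic. -/
theorem isCyclic_of_unique_involution {A : Type*} [Group A] [Finite A] (hA : IsPGroup 2 A)
    (hc : ∀ a b : A, a * b = b * a)
    (hu : ∀ a b : A, a ^ 2 = 1 → b ^ 2 = 1 → a ≠ 1 → b ≠ 1 → a = b) : IsCyclic A := by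
  refine isCyclic_of_index_le hA ?_
  let f : A →* A :=
    { toFun := fun a => a ^ 2
      map_one' := one_pow 2
      map_mul' := fun a b => (show Commute a b from hc a b).mul_pow 2 }
  have h1 : f.range ≤ Sq ⊤ := by
    rintro _ ⟨a, rfl⟩
    exact sq_mem_Sq (mem_top a)
  have h2 : (Sq (⊤ : Subgroup A)).index ∣ f.range.index := index_dvd_of_le h1
  have h3 : f.range.index = Nat.card f.ker := by
    have e1 := f.range.card_mul_index
    have e2 := f.ker.card_mul_index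
    rw [index_ker] at e2
    have e3 : Nat.card f.range * f.range.index = Nat.card f.range * Nat.card f.ker := by
      rw [e1, ← e2, mul_comm]
    exact Nat.eq_of_mul_eq_mul_left Nat.card_pos e3
  have h4 : Nat.card f.ker ≤ 2 := by
    by_contra hlt
    push Not at hlt
    have : Nontrivial f.ker := Finite.one_lt_card_iff_nontrivial.1 (by omega)
    obtain ⟨a, ha⟩ := exists_ne (1 : f.ker)
    have hsub : ∀ b : f.ker, b = 1 ∨ b = a := by
      intro b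
      by_cases hb : b = 1
      · exact Or.inl hb
      · refine Or.inr (Subtype.ext (hu b a b.2 a.2 ?_ ?_))
        · exact fun h => hb (Subtype.ext h)
        · exact fun h => ha (Subtype.ext h)
    have h5 : Nat.card f.ker ≤ Nat.card (Fin 2) := by
      refine Nat.card_le_card_of_surjective (fun i : Fin 2 => if i = 0 then (1 : f.ker) else a) ?_
      intro b
      rcases hsub b with h | h
      · exact ⟨0, by simp [h]⟩
      · exact ⟨1, by simp [h]⟩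
    have h6 : Nat.card (Fin 2) = 2 := by simp
    omega
  rw [h3] at h2
  exact (Nat.le_of_dvd Nat.card_pos h2).trans h4

/-- The facts on the bicyclic group. -/
structure Amb (G : Type*) [Group G] : Prop where
  two : IsPGroup 2 G
  met : Cfsg.IsMetacyclic (Sq (⊤ : Subgroup G))
  idx : (Sq (⊤ : Subgroup G)).index = 4
  rel : ∀ H : Subgroup G, H ≠ ⊤ → (Sq (⊤ : Subgroup G)).relIndex H ≤ 2
  com : ∀ a ∈ _root_.commutator G, ∀ b ∈ _root_.commutator G, a * b = b * a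
  nab : ¬ ∀ a b : G, a * b = b * a

theorem amb_of_bicyclic {G : Type*} [Group G] [Finite G] (hG : IsPGroup 2 G) {x y : G}
    (hb : ∀ g : G, ∃ i j : ℤ, g = x ^ i * y ^ j) (hm : ¬ Cfsg.IsMetacyclic G) : Amb G where
  two := hG
  met := isMetacyclic_Sq hG hb hm
  idx := index_Sq hG hb hm
  rel := fun _ hH => relIndex_Sq_le hG hb hm hH
  com := fun _ ha _ hb' => commutator_comm hb ha hb'
  nab := fun h => hm (isMetacyclic_of_comm_mem x y (fun a b => by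
    rw [h a b]; simp) (closure_eq_top_of_bicyclic hb))

/-- The data `Q`, `t`, `b`. -/
structure Dat {G : Type*} [Group G] (Q : Subgroup G) (t : G) (b : G → G) : Prop where
  bQ : ∀ q ∈ Q, b q ∈ Q
  bmul : ∀ p ∈ Q, ∀ q ∈ Q, b (p * q) = b p * b q
  b3 : ∀ q ∈ Q, b (b (b q)) = q
  bne : ∃ q ∈ Q, b q ≠ q
  cen : ∀ g, (∀ q ∈ Q, g * q = q * g) → g ∈ Q
  tQ : t ∉ Q
  tN : ∀ q ∈ Q, t * q * t⁻¹ ∈ Q
  norm : ∀ g, (∀ q ∈ Q, g * q * g⁻¹ ∈ Q) → g ∈ Q ∨ t⁻¹ * g ∈ Q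
  bt : ∀ q ∈ Q, t * b (t⁻¹ * q * t) * t⁻¹ = b (b q)

theorem conj_eq_of_le {G : Type*} [Group G] [Finite G] {Q : Subgroup G} {g : G}
    (h : ∀ q ∈ Q, g * q * g⁻¹ ∈ Q) {q : G} (hq : q ∈ Q) : g⁻¹ * q * g ∈ Q := by
  have h1 := mem_normalizer_iff.1 (inv_mem (mem_normalizer_of_conj h)) q
  rw [inv_inv] at h1
  exact h1.1 hq

/-- The subgroup generated by the `q⁻¹ * b q`. -/
def Rr {G : Type*} [Group G] (Q : Subgroup G) (b : G → G) : Subgroup G :=
  Subgroup.closure {g | ∃ q ∈ Q, g = q⁻¹ * b q}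

namespace Dat

variable {G : Type*} [Group G] {Q : Subgroup G} {t : G} {b : G → G}

theorem b1 (D : Dat Q t b) : b 1 = 1 := by
  have := D.bmul 1 (one_mem _) 1 (one_mem _)
  rw [mul_one] at this
  exact left_eq_mul.1 this

theorem binv (D : Dat Q t b) {q : G} (hq : q ∈ Q) : b q⁻¹ = (b q)⁻¹ := by
  have := D.bmul q⁻¹ (inv_mem hq) q hq
  rw [inv_mul_cancel, D.b1] at this
  exact eq_inv_of_mul_eq_one_left this.symm

theorem binj (D : Dat Q t b) {p q : G} (hp : p ∈ Q) (hq : q ∈ Q) (h : b p = b q) : p = q := by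
  rw [← D.b3 p hp, h, D.b3 q hq]

/-- `b` as an endomorphism of `Q`. -/
def hom (D : Dat Q t b) : Q →* Q where
  toFun q := ⟨b q, D.bQ q q.2⟩
  map_one' := Subtype.ext D.b1
  map_mul' p q := Subtype.ext (D.bmul p p.2 q q.2)

theorem hom_apply (D : Dat Q t b) (q : Q) : ((D.hom q : Q) : G) = b q := rfl

theorem R_le (D : Dat Q t b) : Rr Q b ≤ Q := by
  rw [Rr, closure_le]
  rintro _ ⟨q, hq, rfl⟩
  exact mul_mem (inv_mem hq) (D.bQ q hq)

theorem mem_R (_ : Dat Q t b) {q : G} (hq : q ∈ Q) : q⁻¹ * b q ∈ Rr Q b :=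
  subset_closure ⟨q, hq, rfl⟩

theorem bR (D : Dat Q t b) {r : G} (hr : r ∈ Rr Q b) : b r ∈ Rr Q b := by
  have key : r ∈ Q ∧ b r ∈ Rr Q b := by
    refine Subgroup.closure_induction (p := fun x _ => x ∈ Q ∧ b x ∈ Rr Q b) ?_ ?_ ?_ ?_ hr
    · rintro _ ⟨q, hq, rfl⟩
      refine ⟨mul_mem (inv_mem hq) (D.bQ q hq), ?_⟩
      rw [D.bmul _ (inv_mem hq) _ (D.bQ q hq), D.binv hq]
      exact D.mem_R (D.bQ q hq)
    · exact ⟨one_mem _, by rw [D.b1]; exact one_mem _⟩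
    · rintro a c - - ⟨ha, ha'⟩ ⟨hc, hc'⟩
      exact ⟨mul_mem ha hc, by rw [D.bmul a ha c hc]; exact mul_mem ha' hc'⟩
    · rintro a - ⟨ha, ha'⟩
      exact ⟨inv_mem ha, by rw [D.binv ha]; exact inv_mem ha'⟩
  exact key.2

theorem QR (D : Dat Q t b) {p r : G} (hp : p ∈ Q) (hr : r ∈ Rr Q b) : p * r * p⁻¹ ∈ Rr Q b := by
  have h1 : Rr Q b ≤ (Rr Q b).comap (MulAut.conj p).toMonoidHom := by
    rw [Rr, closure_le]
    rintro _ ⟨q, hq, rfl⟩
    show p * (q⁻¹ * b q) * p⁻¹ ∈ Rr Q b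
    have h2 : p * (q⁻¹ * b q) * p⁻¹ =
        ((q * p⁻¹)⁻¹ * b (q * p⁻¹)) * ((p⁻¹)⁻¹ * b p⁻¹)⁻¹ := by
      rw [D.bmul q hq p⁻¹ (inv_mem hp), D.binv hp]; group
    rw [h2]
    exact mul_mem (D.mem_R (mul_mem hq (inv_mem hp))) (inv_mem (D.mem_R (inv_mem hp)))
  exact h1 hr

theorem bt' (D : Dat Q t b) {q : G} (hq : q ∈ Q) : t * b q * t⁻¹ = b (b (t * q * t⁻¹)) := by
  have h := D.bt _ (D.tN q hq)
  rw [← h]
  congr 3; group

theorem tR (D : Dat Q t b) {r : G} (hr : r ∈ Rr Q b) : t * r * t⁻¹ ∈ Rr Q b := by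
  have h1 : Rr Q b ≤ (Rr Q b).comap (MulAut.conj t).toMonoidHom := by
    rw [Rr, closure_le]
    rintro _ ⟨q, hq, rfl⟩
    show t * (q⁻¹ * b q) * t⁻¹ ∈ Rr Q b
    have hq' := D.tN q hq
    have h2 : t * (q⁻¹ * b q) * t⁻¹ = (t * q * t⁻¹)⁻¹ * (t * b q * t⁻¹) := by group
    rw [h2, D.bt' hq]
    have h3 : (t * q * t⁻¹)⁻¹ * b (b (t * q * t⁻¹)) =
        ((t * q * t⁻¹)⁻¹ * b (t * q * t⁻¹)) * ((b (t * q * t⁻¹))⁻¹ * b (b (t * q * t⁻¹))) := by group
    rw [h3]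
    exact mul_mem (D.mem_R hq') (D.mem_R (D.bQ _ hq'))
  exact h1 hr

/-- lifting of fixed points -/
theorem lift [Finite G] (D : Dat Q t b) (hG : IsPGroup 2 G) {N : Subgroup G}
    (hN : ∀ n ∈ N, b n ∈ N) {q : G} (hq : q ∈ Q) (h : q⁻¹ * b q ∈ N) :
    ∃ c ∈ Q, b c = c ∧ q⁻¹ * c ∈ N := by
  have : Fact (Nat.Prime 3) := ⟨Nat.prime_three⟩
  obtain ⟨c, hc, hcq⟩ := exists_fixed_of_coset (r := 3) D.hom
    (fun q => Subtype.ext (D.b3 q q.2)) (N.subgroupOf Q)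
    (fun n hn => mem_subgroupOf.2 (hN n (mem_subgroupOf.1 hn)))
    (not_dvd_card (hG.to_subgroup Q) (by norm_num) _) ⟨q, hq⟩ (mem_subgroupOf.2 h)
  exact ⟨c, c.2, congrArg Subtype.val hc, mem_subgroupOf.1 hcq⟩

/-- `Q = C R`. -/
theorem exists_mul [Finite G] (D : Dat Q t b) (hG : IsPGroup 2 G) {q : G} (hq : q ∈ Q) :
    ∃ c ∈ Q, b c = c ∧ ∃ r ∈ Rr Q b, q = c * r := by
  obtain ⟨c, hc, hc1, hc2⟩ := D.lift hG (fun n hn => D.bR hn) hq (D.mem_R hq)
  exact ⟨c, hc, hc1, (q⁻¹ * c)⁻¹, inv_mem hc2, by group⟩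

/-- `R = [R, b]`. -/
theorem R_eq [Finite G] (D : Dat Q t b) (hG : IsPGroup 2 G) : Rr Q b = Rr (Rr Q b) b := by
  refine le_antisymm ?_ ?_
  · conv_lhs => rw [Rr]
    rw [closure_le]
    rintro _ ⟨q, hq, rfl⟩
    obtain ⟨c, hc, hc1, r, hr, rfl⟩ := D.exists_mul hG hq
    have h1 : (c * r)⁻¹ * b (c * r) = r⁻¹ * b r := by
      rw [D.bmul c hc r (D.R_le hr), hc1]; group
    rw [h1]
    exact subset_closure ⟨r, hr, rfl⟩
  · conv_lhs => rw [Rr]
    rw [closure_le]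
    rintro _ ⟨q, hq, rfl⟩
    exact mul_mem (inv_mem hq) (D.bR hq)

/-- the norm of an element of `R` is trivial modulo a subgroup with abelian quotient -/
theorem norm_mem [Finite G] (D : Dat Q t b) (hG : IsPGroup 2 G) {N : Subgroup G}
    (hN : ∀ x ∈ Rr Q b, ∀ y ∈ Rr Q b, x * y * x⁻¹ * y⁻¹ ∈ N) (hNn : ∀ r ∈ Rr Q b, ∀ n ∈ N, r * n * r⁻¹ ∈ N) {r : G}
    (hr : r ∈ Rr Q b) : r * b r * b (b r) ∈ N := by
  have key : ∀ x ∈ Rr (Rr Q b) b, x ∈ Rr Q b ∧ x * b x * b (b x) ∈ N := by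
    have hR : ∀ x ∈ Rr Q b, x ∈ Q := fun x hx => D.R_le hx
    -- work modulo `N` in `R`
    have hn : (N.subgroupOf (Rr Q b)).Normal :=
      ⟨fun n hn g => mem_subgroupOf.2 (hNn g g.2 n (mem_subgroupOf.1 hn))⟩
    let f := QuotientGroup.mk' (N.subgroupOf (Rr Q b))
    have hf1 : ∀ x : Rr Q b, f x = 1 ↔ (x : G) ∈ N := fun x =>
      (QuotientGroup.eq_one_iff x).trans mem_subgroupOf
    have hfc : ∀ x y : Rr Q b, f x * f y = f y * f x := by
      intro x y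
      have h1 : f (x * y * x⁻¹ * y⁻¹) = 1 := (hf1 _).2 (hN x x.2 y y.2)
      have h2 : f x * f y * (f x)⁻¹ * (f y)⁻¹ = 1 := by rw [← h1]; simp
      exact mul_inv_eq_iff_eq_mul.1 (mul_inv_eq_one.1 h2)
    let β : Rr Q b → Rr Q b := fun x => ⟨b x, D.bR x.2⟩
    have hβmul : ∀ x y, β (x * y) = β x * β y := fun x y =>
      Subtype.ext (D.bmul x (hR x x.2) y (hR y y.2))
    have hβinv : ∀ x, β x⁻¹ = (β x)⁻¹ := fun x => Subtype.ext (D.binv (hR x x.2))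
    have hβ3 : ∀ x, β (β (β x)) = x := fun x => Subtype.ext (D.b3 x (hR x x.2))
    have hfin : ∀ x : Rr Q b, f (x * β x * β (β x)) = 1 → (x : G) * b x * b (b x) ∈ N :=
      fun x hx => (hf1 _).1 hx
    have hcomm3 : ∀ x y : Rr Q b, f (x * y * β (x * y) * β (β (x * y))) =
        f (x * β x * β (β x)) * f (y * β y * β (β y)) := by
      intro x y
      rw [hβmul, hβmul]
      simp only [map_mul]
      have e1 := hfc y (β x)
      have e2 := hfc (β y) (β (β x))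
      have e3 := hfc y (β (β x))
      calc f x * f y * (f (β x) * f (β y)) * (f (β (β x)) * f (β (β y)))
          = f x * (f y * f (β x)) * (f (β y) * f (β (β x))) * f (β (β y)) := by
            simp only [mul_assoc]
        _ = f x * (f (β x) * f y) * (f (β (β x)) * f (β y)) * f (β (β y)) := by rw [e1, e2]
        _ = f x * f (β x) * (f y * f (β (β x))) * f (β y) * f (β (β y)) := by
            simp only [mul_assoc]
        _ = f x * f (β x) * (f (β (β x)) * f y) * f (β y) * f (β (β y)) := by rw [e3]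
        _ = _ := by simp only [mul_assoc]
    intro x hx
    have hgoal : ∃ h : x ∈ Rr Q b, f (⟨x, h⟩ * β ⟨x, h⟩ * β (β ⟨x, h⟩)) = 1 := by
      refine Subgroup.closure_induction
        (p := fun x _ => ∃ h : x ∈ Rr Q b, f (⟨x, h⟩ * β ⟨x, h⟩ * β (β ⟨x, h⟩)) = 1) ?_ ?_ ?_ ?_ hx
      · rintro _ ⟨q, hq, rfl⟩
        refine ⟨mul_mem (inv_mem hq) (D.bR hq), ?_⟩
        have e1 : (⟨q⁻¹ * b q, mul_mem (inv_mem hq) (D.bR hq)⟩ : Rr Q b) = (⟨q, hq⟩ : Rr Q b)⁻¹ * β ⟨q, hq⟩ := rfl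
        rw [e1, hcomm3]
        set y : Rr Q b := ⟨q, hq⟩
        rw [hβinv, hβinv, hβ3]
        simp only [map_mul, map_inv]
        have e2 := hfc (β (β y)) y
        calc (f y)⁻¹ * (f (β y))⁻¹ * (f (β (β y)))⁻¹ * (f (β y) * f (β (β y)) * f y)
            = (f y)⁻¹ * ((f (β y))⁻¹ * (f (β (β y)))⁻¹) * (f (β y) * f (β (β y))) * f y := by
              simp only [mul_assoc]
          _ = (f y)⁻¹ * ((f (β (β y)))⁻¹ * (f (β y))⁻¹) * (f (β y) * f (β (β y))) * f y := by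
              have e3 : (f (β y))⁻¹ * (f (β (β y)))⁻¹ = (f (β (β y)))⁻¹ * (f (β y))⁻¹ := by
                rw [← mul_inv_rev, ← mul_inv_rev, hfc]
              rw [e3]
          _ = 1 := by group
      · refine ⟨one_mem _, ?_⟩
        have e1 : (⟨1, one_mem _⟩ : Rr Q b) = 1 := rfl
        have e2 : β 1 = 1 := Subtype.ext D.b1
        rw [e1, e2, e2]; simp
      · rintro a c - - ⟨ha, ha'⟩ ⟨hc, hc'⟩
        refine ⟨mul_mem ha hc, ?_⟩
        have e1 : (⟨a * c, mul_mem ha hc⟩ : Rr Q b) = ⟨a, ha⟩ * ⟨c, hc⟩ := rfl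
        rw [e1, hcomm3, ha', hc', one_mul]
      · rintro a - ⟨ha, ha'⟩
        refine ⟨inv_mem ha, ?_⟩
        have h1 := hcomm3 ⟨a, ha⟩ (⟨a, ha⟩)⁻¹
        rw [ha', one_mul, mul_inv_cancel] at h1
        have e2 : β 1 = 1 := Subtype.ext D.b1
        rw [e2, e2] at h1
        have e1 : (⟨a⁻¹, inv_mem ha⟩ : Rr Q b) = (⟨a, ha⟩)⁻¹ := rfl
        rw [e1, ← h1]; simp
    obtain ⟨h, h'⟩ := hgoal
    exact ⟨h, hfin ⟨x, h⟩ h'⟩
  rw [D.R_eq hG] at hr
  exact (key r hr).2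

end Dat

end Cfsg.Agent.H774
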