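import Mathlib

/-!
# Extending homomorphisms along cyclic extensions (helper774)
-/

set_option autoImplicit false

namespace Cfsg.Agent.H774

open Subgroup

/-- Let `N ≤ M`, `x ∈ M` normalizing `N` with `M = N⟨x⟩`, `n` the order of `x` modulo `N`. A function multiplicative on
`N` extends to one multiplicative on `M`, with `x ↦ α`, if `α` satisfies the obvious relations. -/
theorem exists_extend {P Γ : Type*} [Group P] [Group Γ] {N M : Subgroup P} {f : P → Γ}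
    (hf : ∀ a ∈ N, ∀ b ∈ N, f (a * b) = f a * f b) {x : P}
    (hxN : ∀ a ∈ N, x * a * x⁻¹ ∈ N) (hxN' : ∀ a ∈ N, x⁻¹ * a * x ∈ N)
    (hgen : ∀ p ∈ M, ∃ i : ℤ, p * x ^ i ∈ N) {n : ℕ} (hn : x ^ n ∈ N)
    (hdiv : ∀ i : ℤ, x ^ i ∈ N → (n : ℤ) ∣ i) {α : Γ}
    (h1 : ∀ a ∈ N, f (x * a * x⁻¹) = α * f a * α⁻¹) (h2 : f (x ^ n) = α ^ n) :
    ∃ F : P → Γ, (∀ p ∈ M, ∀ q ∈ M, F (p * q) = F p * F q) ∧ (∀ a ∈ N, F a = f a) ∧
      ∀ a ∈ N, ∀ i : ℤ, F (a * x ^ i) = f a * α ^ i := by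
  classical
  have f1 : f 1 = 1 := by
    have := hf 1 (one_mem _) 1 (one_mem _)
    rw [mul_one] at this
    exact left_eq_mul.1 this
  have finv : ∀ a ∈ N, f a⁻¹ = (f a)⁻¹ := by
    intro a ha
    have := hf a⁻¹ (inv_mem ha) a ha
    rw [inv_mul_cancel, f1] at this
    exact eq_inv_of_mul_eq_one_left this.symm
  -- powers of `x`
  have hxz : ∀ i : ℤ, ∀ a ∈ N, x ^ i * a * (x ^ i)⁻¹ ∈ N ∧
      f (x ^ i * a * (x ^ i)⁻¹) = α ^ i * f a * (α ^ i)⁻¹ := by
    intro i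
    induction i with
    | zero => intro a ha; simp [ha]
    | succ i ih =>
      intro a ha
      obtain ⟨h3, h4⟩ := ih a ha
      have e1 : x ^ ((i : ℤ) + 1) * a * (x ^ ((i : ℤ) + 1))⁻¹ =
          x * (x ^ (i : ℤ) * a * (x ^ (i : ℤ))⁻¹) * x⁻¹ := by
        rw [add_comm, zpow_add, zpow_one]; group
      have e2 : α ^ ((i : ℤ) + 1) * f a * (α ^ ((i : ℤ) + 1))⁻¹ =
          α * (α ^ (i : ℤ) * f a * (α ^ (i : ℤ))⁻¹) * α⁻¹ := by
        rw [add_comm, zpow_add, zpow_one]; group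
      rw [e1, e2]
      exact ⟨hxN _ h3, by rw [h1 _ h3, h4]⟩
    | pred i ih =>
      intro a ha
      obtain ⟨h3, h4⟩ := ih a ha
      have e1 : x ^ (-(i : ℤ) - 1) * a * (x ^ (-(i : ℤ) - 1))⁻¹ =
          x⁻¹ * (x ^ (-(i : ℤ)) * a * (x ^ (-(i : ℤ)))⁻¹) * x := by
        have : -(i : ℤ) - 1 = -1 + -(i : ℤ) := by ring
        rw [this, zpow_add, zpow_neg_one]; group
      have e2 : α ^ (-(i : ℤ) - 1) * f a * (α ^ (-(i : ℤ) - 1))⁻¹ =
          α⁻¹ * (α ^ (-(i : ℤ)) * f a * (α ^ (-(i : ℤ)))⁻¹) * α := by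
        have : -(i : ℤ) - 1 = -1 + -(i : ℤ) := by ring
        rw [this, zpow_add, zpow_neg_one]; group
      rw [e1, e2]
      refine ⟨hxN' _ h3, ?_⟩
      have h5 := h1 _ (hxN' _ h3)
      have h6 : x * (x⁻¹ * (x ^ (-(i : ℤ)) * a * (x ^ (-(i : ℤ)))⁻¹) * x) * x⁻¹ =
          x ^ (-(i : ℤ)) * a * (x ^ (-(i : ℤ)))⁻¹ := by group
      rw [h6, h4] at h5
      rw [h5]; group
  -- powers of `x` in `N`
  have hxp : ∀ i : ℤ, x ^ i ∈ N → f (x ^ i) = α ^ i := by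
    intro i hi
    obtain ⟨q, rfl⟩ := hdiv i hi
    have key : ∀ q : ℤ, f ((x ^ n) ^ q) = (f (x ^ n)) ^ q := by
      have hnat : ∀ m : ℕ, f ((x ^ n) ^ m) = (f (x ^ n)) ^ m := by
        intro m
        induction m with
        | zero => simp [f1]
        | succ m ih => rw [pow_succ, hf _ (pow_mem hn m) _ hn, ih, pow_succ]
      intro q
      obtain ⟨m, rfl | rfl⟩ := q.eq_nat_or_neg
      · rw [zpow_natCast, zpow_natCast, hnat]
      · rw [zpow_neg, zpow_neg, zpow_natCast, zpow_natCast, finv _ (pow_mem hn m), hnat]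
    rw [zpow_mul, zpow_natCast, key, h2, zpow_mul, zpow_natCast]
  have hwd : ∀ a ∈ N, ∀ b ∈ N, ∀ i j : ℤ, a * x ^ i = b * x ^ j → f a * α ^ i = f b * α ^ j := by
    intro a ha b hb i j h
    have h3 : x ^ (i - j) = a⁻¹ * b := by
      rw [zpow_sub]
      calc x ^ i * (x ^ j)⁻¹ = a⁻¹ * (a * x ^ i) * (x ^ j)⁻¹ := by group
        _ = a⁻¹ * (b * x ^ j) * (x ^ j)⁻¹ := by rw [h]
        _ = _ := by group
    have h4 := hxp (i - j) (by rw [h3]; exact mul_mem (inv_mem ha) hb)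
    rw [h3, hf _ (inv_mem ha) _ hb, finv a ha] at h4
    have h5 : α ^ i = (f a)⁻¹ * f b * α ^ j := by
      rw [h4, ← zpow_add]; congr 1; ring
    rw [h5]; group
  let F : P → Γ := fun p => if h : ∃ ai : P × ℤ, ai.1 ∈ N ∧ p = ai.1 * x ^ ai.2 then
    f h.choose.1 * α ^ h.choose.2 else 1
  have hF : ∀ a ∈ N, ∀ i : ℤ, F (a * x ^ i) = f a * α ^ i := by
    intro a ha i
    have h : ∃ ai : P × ℤ, ai.1 ∈ N ∧ a * x ^ i = ai.1 * x ^ ai.2 := ⟨(a, i), ha, rfl⟩
    have h3 : F (a * x ^ i) = f h.choose.1 * α ^ h.choose.2 := dif_pos h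
    rw [h3]
    exact (hwd a ha _ h.choose_spec.1 _ _ h.choose_spec.2).symm
  refine ⟨F, ?_, ?_, hF⟩
  · intro p hp q hq
    obtain ⟨i, hi⟩ := hgen p hp
    obtain ⟨j, hj⟩ := hgen q hq
    have e1 : p = (p * x ^ i) * x ^ (-i) := by rw [mul_assoc, ← zpow_add, add_neg_cancel, zpow_zero, mul_one]
    have e2 : q = (q * x ^ j) * x ^ (-j) := by rw [mul_assoc, ← zpow_add, add_neg_cancel, zpow_zero, mul_one]
    set a := p * x ^ i with ha
    set b := q * x ^ j with hb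
    clear_value a b
    subst e1 e2
    obtain ⟨h3, h4⟩ := hxz (-i) b hj
    have e3 : a * x ^ (-i) * (b * x ^ (-j)) = (a * (x ^ (-i) * b * (x ^ (-i))⁻¹)) * x ^ (-i + -j) := by
      rw [zpow_add]; group
    rw [e3, hF _ (mul_mem hi h3), hF a hi, hF b hj, hf a hi _ h3, h4, zpow_add]
    group
  · intro a ha
    have := hF a ha 0
    rwa [zpow_zero, mul_one, zpow_zero, mul_one] at this

/-- two multiplicative functions agreeing on generators agree on the closure -/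
theorem eq_of_closure {P Γ : Type*} [Group P] [Group Γ] {s : Set P} {f g : P → Γ}
    (hf : ∀ a ∈ Subgroup.closure s, ∀ b ∈ Subgroup.closure s, f (a * b) = f a * f b)
    (hg : ∀ a ∈ Subgroup.closure s, ∀ b ∈ Subgroup.closure s, g (a * b) = g a * g b)
    (h : ∀ a ∈ s, f a = g a) : ∀ a ∈ Subgroup.closure s, f a = g a := by
  have f1 : f 1 = 1 := by
    have := hf 1 (one_mem _) 1 (one_mem _)
    rw [mul_one] at this
    exact left_eq_mul.1 this
  have g1 : g 1 = 1 := by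
    have := hg 1 (one_mem _) 1 (one_mem _)
    rw [mul_one] at this
    exact left_eq_mul.1 this
  intro a ha
  induction ha using Subgroup.closure_induction with
  | mem x hx => exact h x hx
  | one => rw [f1, g1]
  | mul x y hx hy hx' hy' => rw [hf x hx y hy, hg x hx y hy, hx', hy']
  | inv x hx hx' =>
    have h1 := hf x⁻¹ (inv_mem hx) x hx
    rw [inv_mul_cancel, f1] at h1
    have h2 := hg x⁻¹ (inv_mem hx) x hx
    rw [inv_mul_cancel, g1] at h2
    rw [eq_inv_of_mul_eq_one_left h1.symm, eq_inv_of_mul_eq_one_left h2.symm, hx']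

end Cfsg.Agent.H774
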