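import Cfsg.Agent.H781.QuatModels
import Cfsg.Agent.H774.Ext

/-!
# An amalgam `(L ⋊ P) / D` (helper774)
-/

set_option autoImplicit false

universe u v

namespace Cfsg.Agent.H774

open Subgroup Cfsg.Agent.H781

section amalg

variable {L : Type u} {P : Type v} [Group L] [Group P]

/-- The hypotheses: `P` acts on `L`, `π : D → P` multiplicative, equivariant, with `π d` acting as `d`. -/
structure Am (θ : P →* MulAut L) (D : Subgroup L) (π : L → P) : Prop where
  mul : ∀ a ∈ D, ∀ b ∈ D, π (a * b) = π a * π b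
  act : ∀ d ∈ D, ∀ l : L, θ (π d) l = d * l * d⁻¹
  inv : ∀ (g : P), ∀ d ∈ D, θ g d ∈ D ∧ π (θ g d) = g * π d * g⁻¹

variable {θ : P →* MulAut L} {D : Subgroup L} {π : L → P}

theorem Am.one (A : Am θ D π) : π 1 = 1 := by
  have := A.mul 1 (one_mem _) 1 (one_mem _)
  rw [mul_one] at this
  exact left_eq_mul.1 this

theorem Am.pinv (A : Am θ D π) {d : L} (hd : d ∈ D) : π d⁻¹ = (π d)⁻¹ := by
  have := A.mul d⁻¹ (inv_mem hd) d hd
  rw [inv_mul_cancel, A.one] at this
  exact eq_inv_of_mul_eq_one_left this.symm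

/-- The normal subgroup of the elements `(d⁻¹, π d)`. -/
def Am.N (A : Am θ D π) : Subgroup (L ⋊[θ] P) where
  carrier := {s | s.left ∈ D ∧ s.right = π s.left⁻¹}
  one_mem' := ⟨one_mem _, by
    show (1 : P) = π (1 : L)⁻¹
    rw [inv_one, A.one]⟩
  mul_mem' := by
    rintro ⟨a, p⟩ ⟨b, q⟩ ⟨ha, hp⟩ ⟨hb, hq⟩
    replace ha : a ∈ D := ha
    replace hb : b ∈ D := hb
    replace hp : p = π a⁻¹ := hp
    replace hq : q = π b⁻¹ := hq
    have h1 : a * θ p b = b * a := by
      rw [hp, A.act _ (inv_mem ha)]; group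
    refine ⟨?_, ?_⟩
    · show a * θ p b ∈ D
      rw [h1]; exact mul_mem hb ha
    · show p * q = π (a * θ p b)⁻¹
      rw [h1, hp, hq, mul_inv_rev, A.mul _ (inv_mem ha) _ (inv_mem hb)]
  inv_mem' := by
    rintro ⟨a, p⟩ ⟨ha, hp⟩
    replace ha : a ∈ D := ha
    replace hp : p = π a⁻¹ := hp
    have hp' : p⁻¹ = π a := by rw [hp, A.pinv ha, inv_inv]
    have h1 : θ p⁻¹ a⁻¹ = a⁻¹ := by
      rw [hp', A.act _ ha]; group
    refine ⟨?_, ?_⟩
    · show θ p⁻¹ a⁻¹ ∈ D
      rw [h1]; exact inv_mem ha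
    · show p⁻¹ = π (θ p⁻¹ a⁻¹)⁻¹
      rw [h1, inv_inv, hp']

theorem Am.mem_N (A : Am θ D π) {s : L ⋊[θ] P} : s ∈ A.N ↔ s.left ∈ D ∧ s.right = π s.left⁻¹ := Iff.rfl

theorem Am.N_normal (A : Am θ D π) : A.N.Normal := by
  have hr : ∀ (g : P) (s : L ⋊[θ] P), s ∈ A.N → SemidirectProduct.inr g * s * (SemidirectProduct.inr g)⁻¹ ∈ A.N := by
    rintro g ⟨a, p⟩ ⟨ha, hp⟩
    replace ha : a ∈ D := ha
    replace hp : p = π a⁻¹ := hp
    have h1 : (SemidirectProduct.inr g * ⟨a, p⟩ * (SemidirectProduct.inr g)⁻¹ : L ⋊[θ] P) =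
        ⟨θ g a, g * p * g⁻¹⟩ := by
      ext <;> simp
    rw [h1]
    refine ⟨(A.inv g a ha).1, ?_⟩
    show g * p * g⁻¹ = π (θ g a)⁻¹
    rw [← map_inv, (A.inv g _ (inv_mem ha)).2, hp]
  have hl : ∀ (l : L) (s : L ⋊[θ] P), s ∈ A.N → SemidirectProduct.inl l * s * (SemidirectProduct.inl l)⁻¹ ∈ A.N := by
    rintro l ⟨a, p⟩ ⟨ha, hp⟩
    replace ha : a ∈ D := ha
    replace hp : p = π a⁻¹ := hp
    have h1 : (SemidirectProduct.inl l * ⟨a, p⟩ * (SemidirectProduct.inl l)⁻¹ : L ⋊[θ] P) =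
        ⟨a, p⟩ := by
      ext
      · simp only [SemidirectProduct.mul_left, SemidirectProduct.left_inl, SemidirectProduct.right_inl,
          map_one, MulAut.one_apply, SemidirectProduct.mul_right, one_mul, SemidirectProduct.inv_left,
          inv_one]
        rw [hp, A.act _ (inv_mem ha)]
        group
      · simp
    rw [h1]
    exact ⟨ha, hp⟩
  refine ⟨fun s hs t => ?_⟩
  have h1 : t = SemidirectProduct.inl t.left * SemidirectProduct.inr t.right :=
    (SemidirectProduct.inl_left_mul_inr_right t).symm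
  rw [h1]
  have h2 := hl t.left _ (hr t.right s hs)
  have h3 : SemidirectProduct.inl t.left * SemidirectProduct.inr t.right * s *
      (SemidirectProduct.inl t.left * SemidirectProduct.inr t.right)⁻¹ =
      SemidirectProduct.inl t.left * (SemidirectProduct.inr t.right * s *
        (SemidirectProduct.inr t.right)⁻¹) * (SemidirectProduct.inl t.left)⁻¹ := by group
  rw [h3]
  exact h2

theorem Am.card_N (A : Am θ D π) : Nat.card A.N = Nat.card D := by
  refine Nat.card_congr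
    { toFun := fun s => ⟨s.1.left, s.2.1⟩
      invFun := fun d => ⟨⟨d, π (d : L)⁻¹⟩, d.2, rfl⟩
      left_inv := ?_
      right_inv := fun d => rfl }
  rintro ⟨⟨a, p⟩, ha, hp⟩
  apply Subtype.ext
  exact SemidirectProduct.ext rfl hp.symm

/-- **the amalgam** -/
theorem Am.exists_group [Finite L] [Finite P] (A : Am θ D π) (hP : IsPGroup 2 P) (hD : IsPGroup 2 D)
    (hodd : ¬ 2 ∣ D.index) (hL : HasTri L) :
    ∃ (G : Type (max u v)) (_ : Group G) (_ : Finite G) (ι : P →* G), Function.Injective ι ∧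
      (∃ T : Sylow 2 G, (T : Subgroup G) = ι.range) ∧ HasTri G := by
  have : Fact (Nat.Prime 2) := ⟨Nat.prime_two⟩
  have hn := A.N_normal
  have hfin : Finite (L ⋊[θ] P) := Finite.of_equiv _ (SemidirectProduct.equivProd).symm
  let ι : P →* (L ⋊[θ] P) ⧸ A.N := (QuotientGroup.mk' A.N).comp SemidirectProduct.inr
  let j : L →* (L ⋊[θ] P) ⧸ A.N := (QuotientGroup.mk' A.N).comp SemidirectProduct.inl
  have hι1 : ∀ p, ι p = 1 → p = 1 := by
    intro p hp
    have h1 : (SemidirectProduct.inr p : L ⋊[θ] P) ∈ A.N := (QuotientGroup.eq_one_iff _).1 hp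
    have h2 : p = π (1 : L)⁻¹ := h1.2
    rw [h2, inv_one, A.one]
  have hι : Function.Injective ι := (injective_iff_map_eq_one ι).2 hι1
  have hj1 : ∀ l, j l = 1 → l ∈ D ∧ ∀ m : L, l * m = m * l := by
    intro l hl
    have h1 : (SemidirectProduct.inl l : L ⋊[θ] P) ∈ A.N := (QuotientGroup.eq_one_iff _).1 hl
    have h2 : (1 : P) = π l⁻¹ := h1.2
    have h0 : l ∈ D := h1.1
    refine ⟨h0, fun m => ?_⟩
    have h3 : π l = 1 := by rw [← inv_inv (π l), ← A.pinv h0, ← h2, inv_one]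
    have h4 := A.act l h0 m
    rw [h3, map_one] at h4
    have h5 : m = l * m * l⁻¹ := h4
    nth_rewrite 2 [h5]
    group
  refine ⟨(L ⋊[θ] P) ⧸ A.N, inferInstance, inferInstance, ι, hι, ?_, ?_⟩
  · have h1 : IsPGroup 2 ι.range := hP.of_surjective ι.rangeRestrict ι.rangeRestrict_surjective
    have h2 : ι.range.index = D.index := by
      have e1 := ι.range.card_mul_index
      have e2 : Nat.card ι.range = Nat.card P :=
        Nat.card_congr (MonoidHom.ofInjective hι).symm.toEquiv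
      have e3 := A.N.card_mul_index
      have e4 : A.N.index = Nat.card ((L ⋊[θ] P) ⧸ A.N) := rfl
      have e5 := D.card_mul_index
      rw [SemidirectProduct.card, A.card_N, e4, ← e1, e2, ← e5] at e3
      have e6 : Nat.card P * Nat.card D * ι.range.index = Nat.card P * Nat.card D * D.index := by
        linarith
      exact Nat.eq_of_mul_eq_mul_left (Nat.mul_pos Nat.card_pos Nat.card_pos) e6
    exact ⟨h1.toSylow (by rwa [h2]), IsPGroup.toSylow_coe _ _⟩
  · obtain ⟨Q₀, w, h1, h2, h3, h4⟩ := hL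
    refine ⟨Q₀.map j, j w, h1.map j, ?_, ?_, by rw [← map_pow, h4, map_one]⟩
    · rw [mem_normalizer_iff] at h2 ⊢
      intro y
      constructor
      · rintro ⟨x, hx, rfl⟩
        exact ⟨w * x * w⁻¹, (h2 x).1 hx, by simp⟩
      · rintro ⟨x, hx, hxy⟩
        refine ⟨w⁻¹ * x * w, (h2 _).2 (by
          have : w * (w⁻¹ * x * w) * w⁻¹ = x := by group
          rwa [this]), ?_⟩
        rw [map_mul, map_mul, map_inv, hxy]
        group
    · intro hc
      apply h3
      rw [mem_centralizer_iff] at hc ⊢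
      intro q hq
      have h5 := hc (j q) ⟨q, hq, rfl⟩
      have h6 : j (w * q * w⁻¹ * q⁻¹) = 1 := by
        rw [map_mul, map_mul, map_mul, map_inv, map_inv, ← h5]; group
      set ζ := w * q * w⁻¹ * q⁻¹ with hζ
      obtain ⟨hζD, hζc⟩ := hj1 ζ h6
      have e1 : w * q * w⁻¹ = ζ * q := by rw [hζ]; group
      have e2 : w ^ 3 * q * (w ^ 3)⁻¹ = ζ ^ 3 * q := by
        have a1 : w * (ζ * q) * w⁻¹ = ζ * (ζ * q) := by
          calc w * (ζ * q) * w⁻¹ = (w * ζ) * q * w⁻¹ := by group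
            _ = (ζ * w) * q * w⁻¹ := by rw [hζc w]
            _ = ζ * (w * q * w⁻¹) := by group
            _ = _ := by rw [e1]
        have a2 : w * (ζ * (ζ * q)) * w⁻¹ = ζ * (ζ * (ζ * q)) := by
          calc w * (ζ * (ζ * q)) * w⁻¹ = (w * ζ) * (ζ * q) * w⁻¹ := by group
            _ = (ζ * w) * (ζ * q) * w⁻¹ := by rw [hζc w]
            _ = ζ * (w * (ζ * q) * w⁻¹) := by group
            _ = _ := by rw [a1]
        calc w ^ 3 * q * (w ^ 3)⁻¹ = w * (w * (w * q * w⁻¹) * w⁻¹) * w⁻¹ := by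
              simp only [pow_succ, pow_zero]; group
          _ = ζ * (ζ * (ζ * q)) := by rw [e1, a1, a2]
          _ = _ := by simp only [pow_succ, pow_zero]; group
      rw [h4] at e2
      have e3 : ζ ^ 3 = 1 := by
        have : ζ ^ 3 * q = 1 * q := by rw [← e2]; group
        exact mul_right_cancel this
      have e4 : ζ = 1 := by
        obtain ⟨k, hk⟩ := hD ⟨ζ, hζD⟩
        have hk' : ζ ^ 2 ^ k = 1 := congrArg Subtype.val hk
        have h7 : orderOf ζ ∣ 2 ^ k := orderOf_dvd_of_pow_eq_one hk'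
        have h8 : orderOf ζ ∣ 3 := orderOf_dvd_of_pow_eq_one e3
        have h9 : Nat.Coprime (2 ^ k) 3 := Nat.Coprime.pow_left k (by norm_num)
        have h10 := Nat.Coprime.eq_one_of_dvd (Nat.Coprime.coprime_dvd_left h7 h9) h8
        exact orderOf_eq_one_iff.1 h10
      rw [e4, one_mul] at e1
      exact (mul_inv_eq_iff_eq_mul.1 e1).symm

end amalg

end Cfsg.Agent.H774
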