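import Cfsg.Agent.H774.Blackburn

/-!
# Bicyclic non-metacyclic 2-groups: the quotient of class two (helper774)
-/

set_option autoImplicit false

namespace Cfsg.Agent.H774

open Subgroup Cfsg.Agent.OddOrderLocal.Metacyclic
open scoped commutatorElement

/-- If `x`, `y` generate and commute modulo the normal subgroup `N` then `N` contains all commutators. -/
theorem comm_mem_of_closure {G : Type*} [Group G] {N : Subgroup G} [N.Normal] {x y : G}
    (hgen : Subgroup.closure {x, y} = ⊤) (hxy : x * y * x⁻¹ * y⁻¹ ∈ N) (a b : G) :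
    a * b * a⁻¹ * b⁻¹ ∈ N := by
  let f := QuotientGroup.mk' N
  have h0 : Commute (f x) (f y) := by
    have h2 : f x * f y * (f x)⁻¹ * (f y)⁻¹ = 1 := by
      have h1 : f (x * y * x⁻¹ * y⁻¹) = 1 := (QuotientGroup.eq_one_iff _).2 hxy
      rw [← h1]; simp
    exact mul_inv_eq_iff_eq_mul.1 (mul_inv_eq_one.1 h2)
  have h1 : ∀ a : G, f a ∈ Subgroup.closure ({f x, f y} : Set (G ⧸ N)) := by
    intro a
    have h2 : (Subgroup.closure {x, y}).map f = Subgroup.closure {f x, f y} := by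
      rw [MonoidHom.map_closure, Set.image_pair]
    rw [← h2, hgen]
    exact mem_map_of_mem f (mem_top a)
  have hc : ∀ u ∈ Subgroup.closure ({f x, f y} : Set (G ⧸ N)), ∀ w ∈ Subgroup.closure ({f x, f y} : Set (G ⧸ N)),
      u * w = w * u := by
    have h3 : ∀ u ∈ ({f x, f y} : Set (G ⧸ N)), ∀ w ∈ ({f x, f y} : Set (G ⧸ N)), u * w = w * u := by
      rintro u (rfl | rfl) w (rfl | rfl)
      · rfl
      · exact h0
      · exact h0.symm
      · rfl
    intro u hu w hw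
    have h4 := Subgroup.isMulCommutative_closure h3
    have h5 := h4.is_comm.comm (⟨u, hu⟩ : Subgroup.closure ({f x, f y} : Set (G ⧸ N))) ⟨w, hw⟩
    exact congrArg Subtype.val h5
  rw [← QuotientGroup.eq_one_iff]
  show f (a * b * a⁻¹ * b⁻¹) = 1
  have h6 := hc _ (h1 a) _ (h1 b)
  rw [map_mul, map_mul, map_mul, map_inv, map_inv, h6]
  group

section classTwo

variable {H : Type*} [Group H] {x y z : H}

/-- calculus with `z = [x, y]` central -/
theorem zpow_mul_zpow (hz : z = x * y * x⁻¹ * y⁻¹) (hcen : ∀ c, Commute c z) (i j : ℤ) :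
    y ^ j * x ^ i = z ^ (-(i * j)) * (x ^ i * y ^ j) := by
  have h1 : y * x * y⁻¹ = z⁻¹ * x := by
    rw [hz]; group
  have h2 : ∀ n : ℕ, y ^ n * x * (y ^ n)⁻¹ = z ^ (-(n : ℤ)) * x := by
    intro n
    induction n with
    | zero => simp
    | succ n ih =>
      calc y ^ (n + 1) * x * (y ^ (n + 1))⁻¹ = y * (y ^ n * x * (y ^ n)⁻¹) * y⁻¹ := by
            rw [pow_succ']; group
        _ = y * (z ^ (-(n : ℤ)) * x) * y⁻¹ := by rw [ih]
        _ = z ^ (-(n : ℤ)) * (y * x * y⁻¹) := by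
            rw [← mul_assoc y, ((hcen y).zpow_right _).eq]; group
        _ = _ := by rw [h1]; push_cast; rw [← mul_assoc, ← zpow_sub_one]; congr 2; ring
  have h3 : ∀ j : ℤ, y ^ j * x * (y ^ j)⁻¹ = z ^ (-j) * x := by
    intro j
    obtain ⟨n, rfl | rfl⟩ := j.eq_nat_or_neg
    · have := h2 n
      simpa using this
    · have h4 := h2 n
      have h5 : x = (y ^ n)⁻¹ * (z ^ (-(n : ℤ)) * x) * y ^ n := by rw [← h4]; group
      have h6 : (y ^ n)⁻¹ * (z ^ (-(n : ℤ)) * x) * y ^ n =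
          z ^ (-(n : ℤ)) * ((y ^ n)⁻¹ * x * y ^ n) := by
        rw [← mul_assoc, ((hcen ((y ^ n)⁻¹)).zpow_right _).eq]; group
      rw [h6] at h5
      rw [zpow_neg, zpow_natCast, inv_inv, neg_neg]
      nth_rewrite 2 [h5]
      rw [← mul_assoc, ← zpow_add]; simp
  calc y ^ j * x ^ i = (y ^ j * x * (y ^ j)⁻¹) ^ i * y ^ j := by rw [conj_zpow]; group
    _ = (z ^ (-j) * x) ^ i * y ^ j := by rw [h3]
    _ = z ^ (-(i * j)) * (x ^ i * y ^ j) := by
      rw [(((hcen x).symm).zpow_left _).mul_zpow, ← zpow_mul, mul_assoc]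
      congr 2; ring

theorem sq_formula (hz : z = x * y * x⁻¹ * y⁻¹) (hcen : ∀ c, Commute c z) (i j : ℤ) :
    (x ^ i * y ^ j) ^ 2 = z ^ (-(i * j)) * (x ^ (2 * i) * y ^ (2 * j)) := by
  rw [pow_two]
  calc x ^ i * y ^ j * (x ^ i * y ^ j) = x ^ i * (y ^ j * x ^ i) * y ^ j := by group
    _ = x ^ i * (z ^ (-(i * j)) * (x ^ i * y ^ j)) * y ^ j := by rw [zpow_mul_zpow hz hcen]
    _ = z ^ (-(i * j)) * (x ^ i * x ^ i * (y ^ j * y ^ j)) := by
      rw [← mul_assoc (x ^ i) (z ^ _), ((hcen (x ^ i)).zpow_right _).eq]; group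
    _ = _ := by rw [← zpow_add, ← zpow_add]; congr 3 <;> ring

end classTwo

theorem mem_zpowers_zpow_of_odd {H : Type*} [Group H] (hH : IsPGroup 2 H) (g : H) {a : ℤ}
    (ha : Odd a) : g ∈ zpowers (g ^ a) := by
  obtain ⟨k, hk⟩ := hH g
  have hcop : IsCoprime a ((2 : ℤ) ^ k) := by
    refine IsCoprime.pow_right ?_
    obtain ⟨c, hc⟩ := ha
    exact ⟨1, -c, by rw [hc]; ring⟩
  obtain ⟨u, v, huv⟩ := hcop
  refine ⟨u, ?_⟩
  show (g ^ a) ^ u = g
  have h1 : g ^ ((2 : ℤ) ^ k) = 1 := by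
    have : ((2 : ℤ) ^ k) = ((2 ^ k : ℕ) : ℤ) := by push_cast; rfl
    rw [this, zpow_natCast, hk]
  calc (g ^ a) ^ u = g ^ (u * a) := by rw [← zpow_mul, mul_comm]
    _ = g ^ (u * a + v * 2 ^ k) := by rw [zpow_add, mul_comm v, zpow_mul g (2 ^ k), h1, one_zpow, mul_one]
    _ = g := by rw [huv, zpow_one]

theorem closure_eq_top_of_bicyclic {H : Type*} [Group H] {x y : H}
    (hb : ∀ g : H, ∃ i j : ℤ, g = x ^ i * y ^ j) : Subgroup.closure ({x, y} : Set H) = ⊤ := by
  rw [eq_top_iff]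
  intro g _
  obtain ⟨i, j, rfl⟩ := hb g
  exact mul_mem (zpow_mem (subset_closure (by simp)) i) (zpow_mem (subset_closure (by simp)) j)

theorem bicyclic_swap {H : Type*} [Group H] {x y : H}
    (hb : ∀ g : H, ∃ i j : ℤ, g = x ^ i * y ^ j) : ∀ g : H, ∃ i j : ℤ, g = y ^ i * x ^ j := by
  intro g
  obtain ⟨i, j, h⟩ := hb g⁻¹
  exact ⟨-j, -i, by rw [← inv_inv g, h]; group⟩

/-- The structure of bicyclic non-metacyclic 2-groups of class two with `[x, y]` of order two. -/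
theorem exists_odd {H : Type*} [Group H] [Finite H] {x y z : H} (hH : IsPGroup 2 H)
    (hb : ∀ g : H, ∃ i j : ℤ, g = x ^ i * y ^ j) (hm : ¬ Cfsg.IsMetacyclic H)
    (hz : z = x * y * x⁻¹ * y⁻¹) (hcen : ∀ c, Commute c z) (hsq : z ^ 2 = 1) :
    z ∉ zpowers x ∧ z ∉ zpowers y ∧ ∃ a b : ℤ, Odd a ∧ Odd b ∧ z = x ^ (2 * a) * y ^ (2 * b) ∧
      (x ^ a * y ^ b) ^ 2 = 1 := by
  classical
  have hgen := closure_eq_top_of_bicyclic hb
  have hzn : (zpowers z).Normal := by
    refine ⟨?_⟩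
    rintro _ ⟨k, rfl⟩ g
    show g * z ^ k * g⁻¹ ∈ zpowers z
    rw [((hcen g).zpow_right k).eq, mul_inv_cancel_right]
    exact ⟨k, rfl⟩
  have hcomm : ∀ a b : H, a * b * a⁻¹ * b⁻¹ ∈ zpowers z :=
    comm_mem_of_closure hgen (by rw [← hz]; exact mem_zpowers z)
  have hmeta : ∀ u w : H, Subgroup.closure {u, w} = ⊤ → z ∉ zpowers u := by
    intro u w huw hzu
    exact hm (isMetacyclic_of_comm_mem u w (fun a b => (zpowers_le.2 hzu) (hcomm a b)) huw)
  have hzx : z ∉ zpowers x := hmeta x y hgen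
  have hzy : z ∉ zpowers y := hmeta y x (by rw [Set.pair_comm]; exact hgen)
  have hz1 : z ≠ 1 := fun h => hzx (h ▸ one_mem _)
  have hzz : ∀ n : ℤ, z ^ (2 * n) = 1 := by
    intro n
    rw [zpow_mul]
    have : z ^ (2 : ℤ) = 1 := by exact_mod_cast hsq
    rw [this, one_zpow]
  -- generation
  have hga : ∀ a b : ℤ, Odd a → Subgroup.closure {x ^ a * y ^ b, y} = ⊤ := by
    intro a b ha
    rw [← top_le_iff, ← hgen, closure_le]
    have hy : y ∈ Subgroup.closure {x ^ a * y ^ b, y} := subset_closure (by simp)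
    have hv : x ^ a * y ^ b ∈ Subgroup.closure {x ^ a * y ^ b, y} := subset_closure (by simp)
    have hxa : x ^ a ∈ Subgroup.closure {x ^ a * y ^ b, y} := by
      have := mul_mem hv (inv_mem (zpow_mem hy b))
      rwa [mul_inv_cancel_right] at this
    rintro w (rfl | rfl)
    · exact (zpowers_le.2 hxa) (mem_zpowers_zpow_of_odd hH w ha)
    · exact hy
  have hgb : ∀ a b : ℤ, Odd b → Subgroup.closure {x ^ a * y ^ b, x} = ⊤ := by
    intro a b hb'
    rw [← top_le_iff, ← hgen, closure_le]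
    have hx : x ∈ Subgroup.closure {x ^ a * y ^ b, x} := subset_closure (by simp)
    have hv : x ^ a * y ^ b ∈ Subgroup.closure {x ^ a * y ^ b, x} := subset_closure (by simp)
    have hyb : y ^ b ∈ Subgroup.closure {x ^ a * y ^ b, x} := by
      have := mul_mem (inv_mem (zpow_mem hx a)) hv
      rwa [inv_mul_cancel_left] at this
    rintro w (rfl | rfl)
    · exact hx
    · exact (zpowers_le.2 hyb) (mem_zpowers_zpow_of_odd hH w hb')
  have hnot : ∀ a b : ℤ, (Odd a ∨ Odd b) → z ∉ zpowers (x ^ a * y ^ b) := by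
    rintro a b (h | h)
    · exact hmeta _ y (hga a b h)
    · exact hmeta _ x (hgb a b h)
  -- the maximal power of two
  let P : ℕ → Prop := fun n => ∃ a b : ℤ, z = x ^ (2 ^ n * a) * y ^ (2 ^ n * b)
  have hP0 : P 0 := by
    obtain ⟨i, j, h⟩ := hb z
    exact ⟨i, j, by simpa using h⟩
  have hPN : ∃ n, ¬ P n := by
    obtain ⟨N, hN⟩ := IsPGroup.iff_card.1 hH
    refine ⟨N, ?_⟩
    rintro ⟨a, b, h⟩
    apply hz1
    have h1 : ∀ g : H, g ^ ((2 : ℤ) ^ N) = 1 := by
      intro g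
      have : ((2 : ℤ) ^ N) = ((2 ^ N : ℕ) : ℤ) := by push_cast; rfl
      rw [this, zpow_natCast, ← hN]
      exact pow_card_eq_one'
    rw [h, zpow_mul, zpow_mul, h1, h1]
    simp
  have hfind := Nat.find_spec hPN
  obtain ⟨n, hn⟩ : ∃ n, Nat.find hPN = n + 1 := by
    refine Nat.exists_eq_succ_of_ne_zero ?_
    intro h0
    rw [h0] at hfind
    exact hfind hP0
  have hPn : P n := by
    by_contra h
    have := Nat.find_min' hPN h
    omega
  rw [hn] at hfind
  obtain ⟨a, b, hab⟩ := hPn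
  have hodd : Odd a ∨ Odd b := by
    by_contra h
    push Not at h
    rw [Int.not_odd_iff_even, Int.not_odd_iff_even] at h
    obtain ⟨⟨a', rfl⟩, ⟨b', rfl⟩⟩ := h
    apply hfind
    refine ⟨a', b', ?_⟩
    rw [hab]
    congr 2 <;> ring
  -- formulas
  have hx2y : Commute (x ^ 2) y := by
    have h := zpow_mul_zpow hz hcen 2 1
    have h2 : z ^ (-((2 : ℤ) * 1)) = 1 := by
      have := hzz (-1); simpa using this
    rw [h2, one_mul, zpow_one] at h
    have h3 : x ^ (2 : ℤ) = x ^ 2 := by norm_cast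
    rw [h3] at h
    exact h.symm
  have hxy2 : ∀ i j : ℤ, Commute (x ^ (2 * i)) (y ^ j) := by
    intro i j
    have h3 : x ^ (2 * i) = (x ^ 2) ^ i := by
      rw [zpow_mul]; norm_cast
    rw [h3]
    exact hx2y.zpow_zpow i j
  have hpow : n ≠ 1 → (x ^ a * y ^ b) ^ 2 ^ n = z := by
    intro hn1
    rcases Nat.eq_zero_or_pos n with h0 | h0
    · subst h0
      rw [hab]; simp
    · obtain ⟨m, rfl⟩ : ∃ m, n = m + 2 := ⟨n - 2, by omega⟩
      have h1 : (x ^ a * y ^ b) ^ 2 ^ (m + 2) = ((x ^ a * y ^ b) ^ 2) ^ 2 ^ (m + 1) := by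
        rw [← pow_mul]; congr 1; ring
      rw [h1, sq_formula hz hcen, (((hcen _).symm.zpow_left _)).mul_pow, (hxy2 a (2 * b)).mul_pow,
        ← zpow_natCast, ← zpow_natCast, ← zpow_natCast, ← zpow_mul, ← zpow_mul, ← zpow_mul]
      have h2 : z ^ (-(a * b) * ((2 ^ (m + 1) : ℕ) : ℤ)) = 1 := by
        have := hzz (-(a * b) * 2 ^ m)
        rw [← this]; congr 1; push_cast; ring
      rw [h2, one_mul, hab]
      congr 2 <;> (push_cast; ring)
  have hn1 : n = 1 := by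
    by_contra hne
    exact hnot a b hodd ⟨2 ^ n, by
      show (x ^ a * y ^ b) ^ ((2 : ℤ) ^ n) = z
      rw [← hpow hne]; norm_cast⟩
  subst hn1
  have hab' : z = x ^ (2 * a) * y ^ (2 * b) := by rw [hab]; norm_num
  have hv2 : (x ^ a * y ^ b) ^ 2 = z ^ (-(a * b)) * z := by
    rw [sq_formula hz hcen, ← hab']
  have hoab : Odd (a * b) := by
    by_contra he
    rw [Int.not_odd_iff_even] at he
    obtain ⟨c, hc⟩ := he
    apply hnot a b hodd
    refine ⟨2, ?_⟩
    show (x ^ a * y ^ b) ^ (2 : ℤ) = z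
    have h1 : z ^ (-(a * b)) = 1 := by
      have := hzz (-c); rw [← this, hc]; congr 1; ring
    rw [h1, one_mul] at hv2
    exact_mod_cast hv2
  rw [Int.odd_mul] at hoab
  refine ⟨hzx, hzy, a, b, hoab.1, hoab.2, hab', ?_⟩
  rw [hv2, ← zpow_add_one]
  obtain ⟨c, hc⟩ := Int.odd_mul.2 hoab
  have := hzz (-c)
  rw [← this, hc]; congr 1; ring

end Cfsg.Agent.H774
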