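import Cfsg.Agent.H774.BicyclicA

/-!
# Maximal subgroups of bicyclic 2-groups (helper774)

`isMetacyclic_of_index_two` : in a finite 2-group `G = ⟨x⟩⟨y⟩` the maximal subgroup containing `x` is metacyclic.
-/

set_option autoImplicit false

namespace Cfsg.Agent.H774

open Subgroup Cfsg.Agent.OddOrderLocal.Metacyclic
open scoped commutatorElement

theorem no_aut {H : Type*} [Group H] [Finite H] {x w z : H} (hH : IsPGroup 2 H)
    (hb : ∀ g : H, ∃ i j : ℤ, g = x ^ i * w ^ j) (hm : ¬ Cfsg.IsMetacyclic H)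
    (hz : z = x * w * x⁻¹ * w⁻¹) (hcen : ∀ c, Commute c z) (hsq : z ^ 2 = 1)
    (ψ : H →* H) (hw : ψ w = w) (hψ : ∀ h, ψ (ψ h) = w * h * w⁻¹) : False := by
  obtain ⟨hzx, hzw, a, b, ha, hb1, hab, hv2⟩ := exists_odd hH hb hm hz hcen hsq
  have hinj : Function.Injective ψ := by
    intro p q hpq
    have h1 := hψ p
    rw [hpq, hψ q] at h1
    exact (mul_left_cancel (mul_right_cancel h1)).symm
  have hzz : ∀ n : ℤ, z ^ (2 * n) = 1 := by
    intro n
    rw [zpow_mul]
    have : z ^ (2 : ℤ) = 1 := by exact_mod_cast hsq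
    rw [this, one_zpow]
  have hx2 : x ^ 2 ≠ 1 := by
    intro h
    apply hzw
    have h1 : x ^ (2 * a) = 1 := by
      rw [zpow_mul]
      have : x ^ (2 : ℤ) = 1 := by exact_mod_cast h
      rw [this, one_zpow]
    rw [hab, h1, one_mul]
    exact zpow_mem (mem_zpowers w) _
  have hw2 : w ^ 2 ≠ 1 := by
    intro h
    apply hzx
    have h1 : w ^ (2 * b) = 1 := by
      rw [zpow_mul]
      have : w ^ (2 : ℤ) = 1 := by exact_mod_cast h
      rw [this, one_zpow]
    rw [hab, h1, mul_one]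
    exact zpow_mem (mem_zpowers x) _
  have heven : ∀ g : H, g ^ 2 ≠ 1 → ∀ n : ℤ, g ^ (2 * n) = 1 → Even n := by
    intro g hg n hn
    by_contra hodd
    rw [Int.not_even_iff_odd] at hodd
    have h1 := mem_zpowers_zpow_of_odd hH (g ^ 2) hodd
    have h2 : (g ^ 2) ^ n = 1 := by
      rw [← hn, zpow_mul]; norm_cast
    rw [h2, zpowers_one_eq_bot, mem_bot] at h1
    exact hg h1
  have hzeven : ∀ n : ℤ, z ^ n ∈ zpowers x → Even n := by
    intro n hn
    by_contra hodd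
    rw [Int.not_even_iff_odd] at hodd
    exact hzx ((zpowers_le.2 hn) (mem_zpowers_zpow_of_odd hH z hodd))
  -- `w ^ 2`
  obtain ⟨s, t, hs, ht, hwst⟩ : ∃ s t : ℤ, Odd s ∧ Odd t ∧ w ^ 2 = z ^ s * x ^ (2 * t) := by
    obtain ⟨b', hb'⟩ := mem_zpowers_zpow_of_odd hH (w ^ 2) hb1
    have hb'' : ((w ^ 2) ^ b) ^ b' = w ^ 2 := hb'
    have h1 : w ^ (2 * (b * b' - 1)) = 1 := by
      have h2 : w ^ (2 * (b * b' - 1)) = ((w ^ 2) ^ b) ^ b' * (w ^ 2)⁻¹ := by
        rw [← zpow_mul, ← zpow_natCast, ← zpow_mul, ← zpow_neg, ← zpow_add]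
        congr 1; push_cast; ring
      rw [h2, hb'', mul_inv_cancel]
    have h3 := heven w hw2 _ h1
    have h4 : Odd (b * b') := by
      have := h3.add_odd (odd_one : Odd (1 : ℤ))
      simpa using this
    have hb'o : Odd b' := (Int.odd_mul.1 h4).2
    refine ⟨b', -a * b', hb'o, (ha.neg).mul hb'o, ?_⟩
    have h5 : (w ^ 2) ^ b = z * x ^ (-(2 * a)) := by
      have h6 : (w ^ 2) ^ b = w ^ (2 * b) := by rw [zpow_mul]; norm_cast
      have h7 : w ^ (2 * b) = x ^ (-(2 * a)) * z := by rw [hab, zpow_neg]; group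
      rw [h6, h7, (hcen _).eq]
    rw [← hb'', h5, ((hcen _).symm).mul_zpow, ← zpow_mul]
    congr 2; ring
  have hwj : ∀ j : ℤ, w ^ (2 * j) = z ^ (s * j) * x ^ (2 * t * j) := by
    intro j
    have h1 : w ^ (2 * j) = (w ^ 2) ^ j := by rw [zpow_mul]; norm_cast
    rw [h1, hwst, ((hcen _).symm.zpow_left s).mul_zpow, ← zpow_mul, ← zpow_mul]
  -- the image of `v`
  obtain ⟨i, j, hu⟩ := hb (ψ (x ^ a * w ^ b))
  have hu2 : (x ^ i * w ^ j) ^ 2 = 1 := by rw [← hu, ← map_pow, hv2, map_one]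
  have hu3 : z ^ (s * j - i * j) * x ^ (2 * (i + t * j)) = 1 := by
    rw [← hu2, sq_formula hz hcen, hwj, sub_eq_add_neg, zpow_add, mul_add, zpow_add]
    have h1 : Commute (z ^ (-(i * j))) (x ^ (2 * i)) := ((hcen _).symm.zpow_left _)
    have h2 : Commute (z ^ (s * j)) (x ^ (2 * i)) := ((hcen _).symm.zpow_left _)
    have h3 : x ^ (2 * (t * j)) = x ^ (2 * t * j) := by congr 1; ring
    rw [h3]
    calc z ^ (s * j) * z ^ (-(i * j)) * (x ^ (2 * i) * x ^ (2 * t * j))
        = z ^ (-(i * j)) * (z ^ (s * j) * x ^ (2 * i)) * x ^ (2 * t * j) := by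
          rw [← zpow_add, add_comm, zpow_add]; group
      _ = _ := by rw [h2.eq]; group
  have hje : Even (s * j - i * j) := by
    refine hzeven _ ?_
    rw [eq_inv_of_mul_eq_one_left hu3]
    exact inv_mem (zpow_mem (mem_zpowers x) _)
  have hie : Even (i + t * j) := by
    refine heven x hx2 _ ?_
    obtain ⟨r, hr⟩ := hje
    have h1 : z ^ (s * j - i * j) = 1 := by rw [← hzz r, hr]; congr 1; ring
    rw [h1, one_mul] at hu3
    exact hu3
  have hij : Even (i + j) := by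
    have h1 : i + j = (i + t * j) - (t - 1) * j := by ring
    rw [h1]
    exact hie.sub ((ht.sub_odd odd_one).mul_right _)
  have hxgen : Subgroup.closure {x ^ a * w ^ b, x} = ⊤ := by
    rw [← top_le_iff, ← closure_eq_top_of_bicyclic hb, closure_le]
    have hx : x ∈ Subgroup.closure {x ^ a * w ^ b, x} := subset_closure (by simp)
    have hv : x ^ a * w ^ b ∈ Subgroup.closure {x ^ a * w ^ b, x} := subset_closure (by simp)
    have hyb : w ^ b ∈ Subgroup.closure {x ^ a * w ^ b, x} := by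
      have := mul_mem (inv_mem (zpow_mem hx a)) hv
      rwa [inv_mul_cancel_left] at this
    rintro q (rfl | rfl)
    · exact hx
    · exact (zpowers_le.2 hyb) (mem_zpowers_zpow_of_odd hH q hb1)
  have hcomm : ∀ i j : ℤ, w ^ j * x ^ i = z ^ (-(i * j)) * (x ^ i * w ^ j) := zpow_mul_zpow hz hcen
  have hx2w : ∀ i j : ℤ, Commute (x ^ (2 * i)) (w ^ j) := by
    intro i j
    have h := hcomm (2 * i) j
    have h1 : z ^ (-(2 * i * j)) = 1 := by rw [← hzz (-(i * j))]; congr 1; ring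
    rw [h1, one_mul] at h
    exact h.symm
  have hxw2 : ∀ i j : ℤ, Commute (x ^ i) (w ^ (2 * j)) := by
    intro i j
    have h := hcomm i (2 * j)
    have h1 : z ^ (-(i * (2 * j))) = 1 := by rw [← hzz (-(i * j))]; congr 1; ring
    rw [h1, one_mul] at h
    exact h.symm
  have hiodd : ¬ Even i := by
    intro hie
    have hjev : Even j := by
      have := hij.sub hie
      simpa using this
    obtain ⟨i', rfl⟩ := hie
    obtain ⟨j', rfl⟩ := hjev
    -- the image of `v` is central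
    have hucen : ∀ g : H, Commute g (ψ (x ^ a * w ^ b)) := by
      intro g
      obtain ⟨k, l, rfl⟩ := hb g
      rw [hu, ← two_mul, ← two_mul]
      refine Commute.mul_left (Commute.mul_right ((Commute.refl x).zpow_zpow _ _) (hxw2 _ _))
        (Commute.mul_right (hx2w _ _).symm ((Commute.refl w).zpow_zpow _ _))
    have hvx : Commute (x ^ a * w ^ b) x := by
      apply hinj
      rw [map_mul ψ _ x, map_mul ψ x _]
      exact (hucen (ψ x)).symm.eq
    have hall : x * w * x⁻¹ * w⁻¹ ∈ (⊥ : Subgroup H) := by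
      refine comm_mem_of_closure hxgen ?_ x w
      rw [mem_bot, hvx.eq]
      group
    rw [mem_bot, ← hz] at hall
    exact hzx (hall ▸ one_mem _)
  have hjodd : Odd j := by
    rw [Int.not_even_iff_odd] at hiodd
    by_contra h
    rw [Int.not_odd_iff_even] at h
    have := hij.sub h
    rw [add_sub_cancel_right] at this
    exact (Int.not_even_iff_odd.2 hiodd) this
  -- the image of `x`
  obtain ⟨m, k, hmk⟩ : ∃ m k : ℤ, ψ x = x ^ m * z ^ k := by
    obtain ⟨r, hr⟩ := hjodd.sub_odd hb1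
    have h1 : (ψ x) ^ a = x ^ (i + 2 * t * r) * z ^ (s * r) := by
      have h2 : ψ x ^ a * w ^ b = x ^ i * w ^ j := by rw [← hu, map_mul, map_zpow, map_zpow, hw]
      have h3 : ψ x ^ a = x ^ i * w ^ (2 * r) := by
        have h4 : ψ x ^ a = x ^ i * w ^ j * w ^ (-b) := by rw [← h2]; group
        rw [h4, mul_assoc, ← zpow_add]; congr 2; rw [two_mul, ← hr]; ring
      rw [h3, hwj, ← (((hcen (x ^ (2 * t * r))).zpow_right (s * r))).eq, ← mul_assoc, ← zpow_add]
    obtain ⟨a', ha'⟩ := mem_zpowers_zpow_of_odd hH (ψ x) ha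
    have ha'' : ((ψ x) ^ a) ^ a' = ψ x := ha'
    refine ⟨(i + 2 * t * r) * a', s * r * a', ?_⟩
    rw [← ha'', h1, ((hcen _).zpow_right _).mul_zpow, ← zpow_mul, ← zpow_mul]
  have hψz : ψ z = z ^ m := by
    have h1 : ψ z = ψ x * w * (ψ x)⁻¹ * w⁻¹ := by
      rw [hz]; simp [hw]
    have h2 := hcomm (-m) 1
    rw [h1, hmk]
    have h3 : x ^ m * z ^ k * w * (x ^ m * z ^ k)⁻¹ * w⁻¹ = x ^ m * (w * x ^ (-m)) * w⁻¹ := by
      have h4 : Commute (z ^ k) (w * (x ^ m)⁻¹) := ((hcen _).symm.zpow_left _)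
      calc x ^ m * z ^ k * w * (x ^ m * z ^ k)⁻¹ * w⁻¹
          = x ^ m * z ^ k * w * ((z ^ k)⁻¹ * (x ^ m)⁻¹) * w⁻¹ := by rw [mul_inv_rev]
        _ = x ^ m * (z ^ k * w) * (z ^ k)⁻¹ * (x ^ m)⁻¹ * w⁻¹ := by group
        _ = x ^ m * (w * z ^ k) * (z ^ k)⁻¹ * (x ^ m)⁻¹ * w⁻¹ := by
          rw [((hcen w).symm.zpow_left k).eq]
        _ = _ := by rw [zpow_neg]; group
    rw [h3]
    rw [zpow_one, mul_one] at h2
    rw [h2, neg_neg]
    have h5 : Commute (x ^ m) (z ^ m) := (hcen _).zpow_right _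
    calc x ^ m * (z ^ m * (x ^ (-m) * w)) * w⁻¹ = x ^ m * z ^ m * (x ^ m)⁻¹ := by
          rw [zpow_neg]; group
      _ = z ^ m := by rw [h5.eq]; group
  have h1 := hψ x
  have h2 : ψ (ψ x) = x ^ (m * m) := by
    rw [hmk, map_mul, map_zpow, map_zpow, hmk, hψz, ((hcen _).zpow_right _).mul_zpow, ← zpow_mul,
      ← zpow_mul, ← zpow_mul, mul_assoc, ← zpow_add]
    have : z ^ (k * m + m * k) = 1 := by rw [← hzz (k * m)]; congr 1; ring
    rw [this, mul_one]
  have h3 : w * x * w⁻¹ = z⁻¹ * x := by rw [hz]; group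
  rw [h2, h3] at h1
  apply hzx
  have h4 : z = (x ^ (m * m) * x⁻¹)⁻¹ := by rw [h1]; group
  rw [h4]
  exact inv_mem (mul_mem (zpow_mem (mem_zpowers x) _) (inv_mem (mem_zpowers x)))

/-- **The maximal subgroup containing `x` is metacyclic.** -/
theorem isMetacyclic_of_index_two {G : Type*} [Group G] [Finite G] (hG : IsPGroup 2 G) {x y : G}
    (hb : ∀ g : G, ∃ i j : ℤ, g = x ^ i * y ^ j) {M : Subgroup G} (hM : M.index = 2) (hx : x ∈ M) :
    Cfsg.IsMetacyclic M := by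
  by_contra hm
  have hMn : M.Normal := normal_of_index_eq_two hM
  have hy : y ∉ M := by
    intro hy
    have h1 : M = ⊤ := by
      rw [← top_le_iff, ← closure_eq_top_of_bicyclic hb, closure_le]
      rintro w (rfl | rfl)
      · exact hx
      · exact hy
    rw [h1, index_top] at hM
    omega
  have hy2 : y ^ 2 ∈ M := by
    have := M.pow_index_mem y
    rwa [hM] at this
  have hMp : IsPGroup 2 M := hG.to_subgroup M
  set X : M := ⟨x, hx⟩ with hX
  set W : M := ⟨y ^ 2, hy2⟩ with hW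
  have hbM : ∀ g : M, ∃ i j : ℤ, g = X ^ i * W ^ j := by
    rintro ⟨g, hg⟩
    obtain ⟨i, j, rfl⟩ := hb g
    have hyj : y ^ j ∈ M := by
      have := M.mul_mem (M.inv_mem (M.zpow_mem hx i)) hg
      rwa [inv_mul_cancel_left] at this
    have hj : Even j := by
      by_contra hodd
      rw [Int.not_even_iff_odd] at hodd
      exact hy ((zpowers_le.2 hyj) (mem_zpowers_zpow_of_odd hG y hodd))
    obtain ⟨k, rfl⟩ := hj
    refine ⟨i, k, Subtype.ext ?_⟩
    show x ^ i * y ^ (k + k) = x ^ i * (y ^ 2) ^ k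
    rw [← zpow_natCast, ← zpow_mul]; congr 2; push_cast; ring
  let f := QuotientGroup.mk' (KK M)
  have hf : Function.Surjective f := QuotientGroup.mk'_surjective _
  let φ : M →* M := (MulAut.conjNormal y : MulAut M).toMonoidHom
  have hφv : ∀ g : M, ((φ g : M) : G) = y * g * y⁻¹ := fun g => MulAut.conjNormal_apply y g
  have hφs : Function.Surjective φ := (MulAut.conjNormal y : MulAut M).surjective
  have hφK : KK M ≤ (KK M).comap φ := by
    rw [← map_le_iff_le_comap, map_KK φ hφs]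
  let ψ : M ⧸ KK M →* M ⧸ KK M := QuotientGroup.map (KK M) (KK M) φ hφK
  have hψf : ∀ g : M, ψ (f g) = f (φ g) := fun g => rfl
  refine no_aut (x := f X) (w := f W) (z := f X * f W * (f X)⁻¹ * (f W)⁻¹) (hMp.to_quotient _)
    ?_ (fun h => hm (isMetacyclic_of_quotient_KK hMp h)) rfl ?_ ?_ ψ ?_ ?_
  · intro g
    obtain ⟨g, rfl⟩ := hf g
    obtain ⟨i, j, rfl⟩ := hbM g
    exact ⟨i, j, by simp⟩
  · intro c
    obtain ⟨c, rfl⟩ := hf c
    have h1 := conj_mem_KK (comm_mem_commutator X W) c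
    have h2 : f (c * (X * W * X⁻¹ * W⁻¹) * c⁻¹ * (X * W * X⁻¹ * W⁻¹)⁻¹) = 1 :=
      (QuotientGroup.eq_one_iff _).2 h1
    have h3 : f c * (f X * f W * (f X)⁻¹ * (f W)⁻¹) * (f c)⁻¹ * (f X * f W * (f X)⁻¹ * (f W)⁻¹)⁻¹ = 1 := by
      rw [← h2]; simp only [map_mul, map_inv]
    exact mul_inv_eq_iff_eq_mul.1 (mul_inv_eq_one.1 h3)
  · have h1 := sq_mem_KK (comm_mem_commutator X W)
    have h2 : f ((X * W * X⁻¹ * W⁻¹) ^ 2) = 1 := (QuotientGroup.eq_one_iff _).2 h1
    rw [← h2]; simp only [map_mul, map_inv, map_pow]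
  · rw [hψf]
    congr 1
    apply Subtype.ext
    rw [hφv]
    show y * y ^ 2 * y⁻¹ = y ^ 2
    group
  · intro h
    obtain ⟨h, rfl⟩ := hf h
    rw [hψf, hψf, ← map_inv, ← map_mul, ← map_mul]
    congr 1
    apply Subtype.ext
    rw [hφv, hφv]
    show y * (y * (h : G) * y⁻¹) * y⁻¹ = y ^ 2 * h * (y ^ 2)⁻¹
    simp only [pow_two]; group

end Cfsg.Agent.H774
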