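import Cfsg.Agent.H774.Cop
import Cfsg.Agent.SolvableStructure.Ito

/-!
# Bicyclic non-metacyclic 2-groups: the facts used for fusion systems (helper774)
-/

set_option autoImplicit false

namespace Cfsg.Agent.H774

open Subgroup Cfsg.Agent.OddOrderLocal.Metacyclic
open scoped commutatorElement

theorem coset_four {G : Type*} [Group G] {N : Subgroup G} [N.Normal] (hi : N.index = 4)
    (hsq : ∀ g, g ^ 2 ∈ N) {g h : G} (hg : g ∉ N) (hh : h ∉ N) (hgh : g⁻¹ * h ∉ N) (k : G) :
    k ∈ N ∨ g⁻¹ * k ∈ N ∨ h⁻¹ * k ∈ N ∨ (g * h)⁻¹ * k ∈ N := by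
  classical
  have hfin : Finite (G ⧸ N) := by
    have h1 : Nat.card (G ⧸ N) = 4 := hi
    exact Nat.finite_of_card_ne_zero (by omega)
  have := Fintype.ofFinite (G ⧸ N)
  let f := QuotientGroup.mk' N
  have hf1 : ∀ a, f a = 1 ↔ a ∈ N := fun a => QuotientGroup.eq_one_iff a
  have hfe : ∀ a b, f a = f b ↔ a⁻¹ * b ∈ N := fun a b => QuotientGroup.eq
  let F : Finset (G ⧸ N) := {1, f g, f h, f (g * h)}
  have a1 : (1 : G ⧸ N) ≠ f g := fun e => hg ((hf1 g).1 e.symm)
  have a2 : (1 : G ⧸ N) ≠ f h := fun e => hh ((hf1 h).1 e.symm)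
  have a3 : (1 : G ⧸ N) ≠ f (g * h) := by
    intro e
    apply hgh
    have h1 := (hf1 _).1 e.symm
    have h2 : g⁻¹ * h = (g ^ 2)⁻¹ * (g * h) := by rw [pow_two]; group
    rw [h2]
    exact N.mul_mem (N.inv_mem (hsq g)) h1
  have a4 : f g ≠ f h := fun e => hgh ((hfe g h).1 e)
  have a5 : f g ≠ f (g * h) := by
    intro e
    have := (hfe _ _).1 e
    rw [inv_mul_cancel_left] at this
    exact hh this
  have a6 : f h ≠ f (g * h) := by
    intro e
    apply a1
    rw [map_mul] at e
    exact (mul_eq_right.1 e.symm).symm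
  have hFc : F.card = 4 := by
    simp only [F]
    rw [Finset.card_insert_of_notMem (by simp only [Finset.mem_insert, Finset.mem_singleton]; tauto),
      Finset.card_insert_of_notMem (by simp only [Finset.mem_insert, Finset.mem_singleton]; tauto),
      Finset.card_insert_of_notMem (by simp only [Finset.mem_singleton]; tauto), Finset.card_singleton]
  have hu : F = Finset.univ := by
    rw [← Finset.card_eq_iff_eq_univ, hFc, ← Nat.card_eq_fintype_card]
    exact hi.symm
  have hk : f k ∈ F := by rw [hu]; exact Finset.mem_univ _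
  simp only [F, Finset.mem_insert, Finset.mem_singleton] at hk
  rcases hk with e | e | e | e
  · exact Or.inl ((hf1 k).1 e)
  · exact Or.inr (Or.inl ((hfe _ _).1 e.symm))
  · exact Or.inr (Or.inr (Or.inl ((hfe _ _).1 e.symm)))
  · exact Or.inr (Or.inr (Or.inr ((hfe _ _).1 e.symm)))

theorem isCyclic_of_zpowers_eq_top {G : Type*} [Group G] {g : G} (h : zpowers g = ⊤) : IsCyclic G :=
  ⟨g, fun x => by
    have : x ∈ zpowers g := by rw [h]; exact mem_top x
    exact this⟩

/-- `|G : Sq G| ≤ 2` implies `G` cyclic. -/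
theorem isCyclic_of_index_le {G : Type*} [Group G] [Finite G] (hG : IsPGroup 2 G)
    (h : (Sq (⊤ : Subgroup G)).index ≤ 2) : IsCyclic G := by
  by_cases hN : Sq (⊤ : Subgroup G) = ⊤
  · have h1 : (⊥ : Subgroup G) = ⊤ := by
      refine eq_of_le_sup_Sq (hG.to_subgroup ⊤) le_top ?_
      rw [hN]; exact le_sup_right
    exact isCyclic_of_zpowers_eq_top (g := 1) (by rw [zpowers_one_eq_bot, h1])
  · obtain ⟨g, hg⟩ : ∃ g, g ∉ Sq (⊤ : Subgroup G) := by
      by_contra hall
      push Not at hall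
      exact hN (eq_top_iff.2 fun x _ => hall x)
    refine isCyclic_of_zpowers_eq_top (g := g) ?_
    refine eq_of_le_sup_Sq (hG.to_subgroup ⊤) le_top ?_
    intro x _
    have hn : (Sq (⊤ : Subgroup G)).index ≠ 1 := fun h1 => hN (index_eq_one.1 h1)
    have h0 : (Sq (⊤ : Subgroup G)).index ≠ 0 := index_ne_zero_of_finite
    have h2 : (Sq (⊤ : Subgroup G)).index = 2 := by omega
    by_cases hx : x ∈ Sq (⊤ : Subgroup G)
    · exact mem_sup_right hx
    · have h3 : g⁻¹ * x ∈ Sq (⊤ : Subgroup G) := by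
        rw [mul_mem_iff_of_index_two h2, inv_mem_iff]
        tauto
      have h4 : x = g * (g⁻¹ * x) := by group
      rw [h4]
      exact mul_mem (mem_sup_left (mem_zpowers g)) (mem_sup_right h3)

section main

variable {G : Type*} [Group G] [Finite G] (hG : IsPGroup 2 G) {x y : G}
  (hb : ∀ g : G, ∃ i j : ℤ, g = x ^ i * y ^ j) (hm : ¬ Cfsg.IsMetacyclic G)

include hG hb hm

theorem exists_index_two_mem : ∃ M : Subgroup G, x ∈ M ∧ M.index = 2 ∧ Cfsg.IsMetacyclic M := by
  have h1 : zpowers x ≠ ⊤ := fun h => hm (isMetacyclic_of_isCyclic (isCyclic_of_zpowers_eq_top h))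
  obtain ⟨M, hM1, -, hM2⟩ := exists_relIndex_two (hG.to_subgroup ⊤) le_top h1
  rw [relIndex_top_right] at hM2
  have hx : x ∈ M := hM1 (mem_zpowers x)
  exact ⟨M, hx, hM2, isMetacyclic_of_index_two hG hb hM2 hx⟩

theorem isMetacyclic_Sq : Cfsg.IsMetacyclic (Sq (⊤ : Subgroup G)) := by
  obtain ⟨M, hx, hMi, hM⟩ := exists_index_two_mem hG hb hm
  refine isMetacyclic_of_le hM ?_
  rw [Sq_le_iff]
  intro h _
  have := normal_of_index_eq_two hMi
  have h1 := M.pow_index_mem h
  rwa [hMi] at h1

theorem index_Sq : (Sq (⊤ : Subgroup G)).index = 4 := by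
  obtain ⟨M, hx, hMi, hM⟩ := exists_index_two_mem hG hb hm
  have hn : (Sq (⊤ : Subgroup G)).Normal := Sq_normal
  have hle : Sq (⊤ : Subgroup G) ≤ M := by
    rw [Sq_le_iff]
    intro h _
    have := normal_of_index_eq_two hMi
    have h1 := M.pow_index_mem h
    rwa [hMi] at h1
  have h1 : (Sq (⊤ : Subgroup G)).relIndex M ≤ 2 := by
    have hc : IsCyclic (M ⧸ (Sq (⊤ : Subgroup G)).subgroupOf M) := by
      refine ⟨((⟨x, hx⟩ : M) : M ⧸ (Sq (⊤ : Subgroup G)).subgroupOf M), fun q => ?_⟩
      obtain ⟨⟨g, hg⟩, rfl⟩ := QuotientGroup.mk_surjective q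
      obtain ⟨i, j, rfl⟩ := hb g
      have hyj : y ^ j ∈ M := by
        have := M.mul_mem (M.inv_mem (M.zpow_mem hx i)) hg
        rwa [inv_mul_cancel_left] at this
      have hj : Even j := by
        by_contra hodd
        rw [Int.not_even_iff_odd] at hodd
        have hy := (zpowers_le.2 hyj) (mem_zpowers_zpow_of_odd hG y hodd)
        have h1 : M = ⊤ := by
          rw [← top_le_iff, ← closure_eq_top_of_bicyclic hb, closure_le]
          rintro w (rfl | rfl)
          · exact hx
          · exact hy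
        rw [h1, index_top] at hMi
        omega
      obtain ⟨k, rfl⟩ := hj
      refine ⟨i, ?_⟩
      show ((⟨x, hx⟩ : M) : M ⧸ (Sq (⊤ : Subgroup G)).subgroupOf M) ^ i = _
      rw [← QuotientGroup.mk_zpow, QuotientGroup.eq, mem_subgroupOf]
      have h2 : (((⟨x, hx⟩ : M) ^ i)⁻¹ * ⟨x ^ i * y ^ (k + k), hg⟩ : M) = (⟨y ^ (k + k), hyj⟩ : M) := by
        apply Subtype.ext
        show (x ^ i)⁻¹ * (x ^ i * y ^ (k + k)) = y ^ (k + k)
        group
      rw [h2]
      show y ^ (k + k) ∈ Sq (⊤ : Subgroup G)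
      rw [← two_mul, zpow_mul]
      have h3 : y ^ (2 : ℤ) ∈ Sq (⊤ : Subgroup G) := by
        have := sq_mem_Sq (mem_top y)
        exact_mod_cast this
      exact zpow_mem h3 k
    exact cyclic_card_le_two hc (fun q => by
      obtain ⟨a, rfl⟩ := QuotientGroup.mk_surjective q
      rw [← QuotientGroup.mk_pow, QuotientGroup.eq_one_iff]
      exact mem_subgroupOf.2 (sq_mem_Sq (mem_top (a : G))))
  have h2 := relIndex_mul_index hle
  rw [hMi] at h2
  have h3 : ¬ (Sq (⊤ : Subgroup G)).index ≤ 2 := fun h =>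
    hm (isMetacyclic_of_isCyclic (isCyclic_of_index_le hG h))
  omega

theorem relIndex_Sq_le {H : Subgroup G} (hH : H ≠ ⊤) : (Sq (⊤ : Subgroup G)).relIndex H ≤ 2 := by
  obtain ⟨M, hM1, -, hM2⟩ := exists_relIndex_two (hG.to_subgroup ⊤) le_top hH
  rw [relIndex_top_right] at hM2
  have hle : Sq (⊤ : Subgroup G) ≤ M := by
    rw [Sq_le_iff]
    intro h _
    have := normal_of_index_eq_two hM2
    have h1 := M.pow_index_mem h
    rwa [hM2] at h1
  have h2 := relIndex_mul_index hle
  rw [hM2, index_Sq hG hb hm] at h2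
  have h3 : (Sq (⊤ : Subgroup G)).relIndex M = 2 := by omega
  rw [← h3]
  exact relIndex_le_of_le_right hM1 (by rw [h3]; norm_num)

omit [Finite G] hG hm in
theorem commutator_comm {a b : G} (ha : a ∈ _root_.commutator G) (hb' : b ∈ _root_.commutator G) :
    a * b = b * a := by
  have h1 := SolvableStructure.Ito.derivedSeries_two_eq_bot (zpowers x) (zpowers y) (fun g => by
    obtain ⟨i, j, h⟩ := hb g
    exact ⟨x ^ i, zpow_mem (mem_zpowers x) i, y ^ j, zpow_mem (mem_zpowers y) j, h⟩)
  have h2 : ⁅a, b⁆ ∈ derivedSeries G 2 := by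
    have h3 : derivedSeries G 1 = _root_.commutator G := by
      rw [derivedSeries_one]
    have h4 : derivedSeries G 2 = ⁅derivedSeries G 1, derivedSeries G 1⁆ := rfl
    rw [h4, h3]
    exact commutator_mem_commutator ha hb'
  rw [h1, mem_bot, commutatorElement_eq_one_iff_mul_comm] at h2
  exact h2

/-- Automorphisms of odd prime order are trivial. -/
theorem aut_trivial {r : ℕ} [hr : Fact r.Prime] (hr2 : r ≠ 2) (β : G →* G)
    (hβ : ∀ q, β^[r] q = q) (q : G) : β q = q := by
  have hn : (Sq (⊤ : Subgroup G)).Normal := Sq_normal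
  have hi := index_Sq hG hb hm
  have hsq : ∀ g : G, g ^ 2 ∈ Sq (⊤ : Subgroup G) := fun g => sq_mem_Sq (mem_top g)
  have hβN : ∀ n ∈ Sq (⊤ : Subgroup G), β n ∈ Sq (⊤ : Subgroup G) := fun n hn' =>
    apply_mem_Sq (fun _ _ => mem_top _) (fun x _ y _ => map_mul β x y) hn'
  have hβN' : ∀ (m : ℕ), ∀ n ∈ Sq (⊤ : Subgroup G), β^[m] n ∈ Sq (⊤ : Subgroup G) := by
    intro m
    induction m with
    | zero => intro n hn'; exact hn'
    | succ m ih =>
      intro n hn'
      rw [Function.iterate_succ_apply']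
      exact hβN _ (ih n hn')
  have hr3 : 3 ≤ r := by
    have := hr.out.two_le
    omega
  have hβback : ∀ n, β n ∈ Sq (⊤ : Subgroup G) → n ∈ Sq (⊤ : Subgroup G) := by
    intro n h
    have h1 := hβN' (r - 1) _ h
    rw [← Function.iterate_succ_apply] at h1
    have h2 : r - 1 + 1 = r := by omega
    rw [Nat.succ_eq_add_one, h2, hβ] at h1
    exact h1
  refine eq_id_of_trivial_mod_Sq hG hr2 β hβ (fun q => ?_) q
  by_contra hg
  have hgN : q ∉ Sq (⊤ : Subgroup G) := fun h => hg (mul_mem (inv_mem h) (hβN q h))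
  have hβg : β q ∉ Sq (⊤ : Subgroup G) := fun h => hgN (hβback q h)
  let f := QuotientGroup.mk' (Sq (⊤ : Subgroup G))
  have hfe : ∀ a b, f a = f b ↔ a⁻¹ * b ∈ Sq (⊤ : Subgroup G) := fun a b => QuotientGroup.eq
  have hf1 : ∀ a, f a = 1 ↔ a ∈ Sq (⊤ : Subgroup G) := fun a => QuotientGroup.eq_one_iff a
  have hfβ : ∀ a b, f a = f b → f (β a) = f (β b) := by
    intro a b h
    rw [hfe] at h ⊢
    have := hβN _ h
    rwa [map_mul, map_inv] at this
  have hf2 : ∀ a, f a * f a = 1 := by
    intro a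
    rw [← map_mul, hf1, ← pow_two]
    exact hsq a
  have hfinv : ∀ a, (f a)⁻¹ = f a := fun a => inv_eq_of_mul_eq_one_left (hf2 a)
  have hfc : ∀ a b, f a * f b = f b * f a := by
    intro a b
    have h1 := hfinv (a * b)
    rw [map_mul, mul_inv_rev, hfinv, hfinv] at h1
    exact h1.symm
  have hrodd : Odd r := hr.out.odd_of_ne_two hr2
  have key : f (β (β q)) = f q * f (β q) := by
    rcases coset_four hi hsq hgN hβg hg (β (β q)) with h | h | h | h
    · exact absurd (hβback _ (hβback _ h)) hgN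
    · exfalso
      have h1 : f (β (β q)) = f q := ((hfe _ _).2 h).symm
      have h2 : ∀ m : ℕ, f (β^[2 * m] q) = f q := by
        intro m
        induction m with
        | zero => rfl
        | succ m ih =>
          have h3 : β^[2 * (m + 1)] q = β (β (β^[2 * m] q)) := by
            have h4 : 2 * (m + 1) = 2 * m + 1 + 1 := by ring
            rw [h4]
            exact (Function.iterate_succ_apply' β (2 * m + 1) q).trans
              (congrArg β (Function.iterate_succ_apply' β (2 * m) q))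
          rw [h3, hfβ _ _ (hfβ _ _ ih), h1]
      obtain ⟨m, hm'⟩ := hrodd
      have h3 : f (β (β^[2 * m] q)) = f (β q) := hfβ _ _ (h2 m)
      have h4 : β (β^[2 * m] q) = q := by
        have h5 := hβ q
        rw [hm'] at h5
        exact (Function.iterate_succ_apply' β (2 * m) q).symm.trans h5
      rw [h4] at h3
      exact hg ((hfe _ _).1 h3)
    · exfalso
      apply hg
      apply hβback
      rw [map_mul, map_inv]
      exact h
    · have h1 := ((hfe _ _).2 h).symm
      rw [h1, map_mul]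
  -- `q`, `β q` generate
  have hgen : Subgroup.closure {q, β q} = ⊤ := by
    refine eq_of_le_sup_Sq (hG.to_subgroup ⊤) le_top ?_
    intro k _
    have hq : q ∈ Subgroup.closure {q, β q} ⊔ Sq (⊤ : Subgroup G) :=
      mem_sup_left (subset_closure (by simp))
    have hq' : β q ∈ Subgroup.closure {q, β q} ⊔ Sq (⊤ : Subgroup G) :=
      mem_sup_left (subset_closure (by simp))
    rcases coset_four hi hsq hgN hβg hg k with h | h | h | h
    · exact mem_sup_right h
    · have := mul_mem hq (mem_sup_right h : q⁻¹ * k ∈ Subgroup.closure {q, β q} ⊔ Sq (⊤ : Subgroup G))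
      rwa [mul_inv_cancel_left] at this
    · have := mul_mem hq' (mem_sup_right h : (β q)⁻¹ * k ∈ Subgroup.closure {q, β q} ⊔ Sq (⊤ : Subgroup G))
      rwa [mul_inv_cancel_left] at this
    · have := mul_mem (mul_mem hq hq')
        (mem_sup_right h : (q * β q)⁻¹ * k ∈ Subgroup.closure {q, β q} ⊔ Sq (⊤ : Subgroup G))
      rwa [mul_inv_cancel_left] at this
  have hcube : f (β (β (β q))) = f q := by
    have h1 : f (β (β q)) = f (q * β q) := by rw [key, map_mul]
    rw [hfβ _ _ h1, map_mul, map_mul, key, ← mul_assoc, hfc (β q) q, mul_assoc, hf2, mul_one]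
  have hall : ∀ k, f (β (β (β k))) = f k := by
    have h1 : ((f.comp β).comp β).comp β = f := by
      refine MonoidHom.eq_of_eqOn_dense hgen ?_
      rintro w (rfl | rfl)
      · exact hcube
      · exact hfβ _ _ hcube
    intro k
    exact DFunLike.congr_fun h1 k
  have hβ3 : ∀ k, β (β (β k)) = k := by
    let β₃ : G →* G := (β.comp β).comp β
    have e1 : ∀ k, β₃ k = β (β (β k)) := fun k => rfl
    have e2 : (β₃ : G → G) = β^[3] := by
      funext k
      rfl
    intro k
    rw [← e1]
    refine eq_id_of_trivial_mod_Sq hG hr2 β₃ (fun k => ?_) (fun k => ?_) k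
    · rw [e2, ← Function.iterate_mul, mul_comm, Function.iterate_mul]
      have e3 : β^[r] = id := funext hβ
      rw [e3, Function.iterate_id]
      rfl
    · rw [e1]
      exact (hfe _ _).1 (hall k).symm
  refine hm (isMetacyclic_of_order_three hG β hβ3 q hgen ?_ (isMetacyclic_Sq hG hb hm))
  rw [← hf1, map_mul, map_mul, key, mul_assoc, ← mul_assoc (f (β q)), hfc (β q) q, mul_assoc,
    hf2 (β q), mul_one, hf2]

end main

end Cfsg.Agent.H774
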