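import Cfsg.Agent.H774.Meta
import Cfsg.Agent.Involutions.NormalFour

/-!
# Blackburn's criterion for metacyclic 2-groups (helper774)

`isMetacyclic_of_quotient_KK` : if `G / Φ(G')[G', G]` is metacyclic then so is the finite 2-group `G`.
-/

set_option autoImplicit false

namespace Cfsg.Agent.H774

open Subgroup Cfsg.Agent.OddOrderLocal.Metacyclic
open scoped commutatorElement

theorem mem_normalizer_of_conj {G : Type*} [Group G] [Finite G] {N : Subgroup G} {g : G}
    (h : ∀ n ∈ N, g * n * g⁻¹ ∈ N) : g ∈ normalizer (N : Set G) := by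
  have : Finite (N : Set G) := inferInstance
  exact mem_normalizer_fintype h

/-- Base step: division by a central subgroup of order two inside `Φ(G')[G', G]`. -/
theorem isMetacyclic_base {G : Type*} [Group G] [Finite G]
    {n₀ : G} (hn₀ : n₀ ∈ center G) (hsq : n₀ ^ 2 = 1) (hK : n₀ ∈ KK G)
    (N₀ : Subgroup G) (hN₀ : N₀ = zpowers n₀) [N₀.Normal]
    (hm : Cfsg.IsMetacyclic (G ⧸ N₀)) : Cfsg.IsMetacyclic G := by
  classical
  obtain ⟨L', hL'n, hL'c, hL'q⟩ := hm
  obtain ⟨⟨l', hl'⟩, hlgen⟩ := hL'c.exists_generator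
  obtain ⟨l, rfl⟩ := QuotientGroup.mk_surjective l'
  obtain ⟨g', hggen⟩ := hL'q.exists_generator
  obtain ⟨g'', rfl⟩ := QuotientGroup.mk_surjective g'
  obtain ⟨g, rfl⟩ := QuotientGroup.mk_surjective g''
  set L : Subgroup G := L'.comap (QuotientGroup.mk' N₀) with hL
  have hLn : L.Normal := inferInstance
  have hlL : l ∈ L := hl'
  have hcen : ∀ n ∈ N₀, ∀ x : G, n * x = x * n := by
    intro n hn x
    rw [hN₀] at hn
    have h1 : zpowers n₀ ≤ center G := by rw [zpowers_le]; exact hn₀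
    exact (mem_center_iff.1 (h1 hn) x).symm
  have hN₀sq : ∀ n ∈ N₀, n ^ 2 = 1 := by
    intro n hn
    rw [hN₀] at hn
    obtain ⟨k, rfl⟩ := hn
    show (n₀ ^ k) ^ 2 = 1
    rw [← zpow_natCast, ← zpow_mul, mul_comm, zpow_mul]
    have : n₀ ^ ((2 : ℕ) : ℤ) = 1 := by rw [zpow_natCast, hsq]
    rw [this, one_zpow]
  have hLmem : ∀ x ∈ L, ∃ (i : ℤ), ∃ n ∈ N₀, x = l ^ i * n := by
    intro x hx
    obtain ⟨i, hi⟩ := hlgen ⟨(x : G ⧸ N₀), hx⟩
    have hi' : ((l ^ i : G) : G ⧸ N₀) = (x : G ⧸ N₀) := by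
      have := congrArg Subtype.val hi
      simpa using this
    rw [QuotientGroup.eq] at hi'
    exact ⟨i, _, hi', by group⟩
  have hGmem : ∀ x : G, ∃ (j : ℤ), ∃ y ∈ L, x = y * g ^ j := by
    intro x
    obtain ⟨j, hj⟩ := hggen ((x : G ⧸ N₀) : (G ⧸ N₀) ⧸ L')
    have hj' : (((g ^ j : G) : G ⧸ N₀) : (G ⧸ N₀) ⧸ L') = ((x : G ⧸ N₀) : (G ⧸ N₀) ⧸ L') := by
      simpa using hj
    rw [QuotientGroup.eq] at hj'
    have h1 : (g ^ j)⁻¹ * x ∈ L := hj'
    exact ⟨j, g ^ j * ((g ^ j)⁻¹ * x) * (g ^ j)⁻¹, hLn.conj_mem _ h1 _, by group⟩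
  -- the action of `g` on `l`
  obtain ⟨m, n₁, hn₁, hgl⟩ := hLmem _ (hLn.conj_mem l hlL g)
  set c := g * l * g⁻¹ * l⁻¹ with hc
  have hc1 : c = l ^ (m - 1) * n₁ := by
    rw [hc, hgl, zpow_sub, zpow_one, mul_assoc, hcen n₁ hn₁, ← mul_assoc]
  have hcn1 : ∀ x, Commute n₁ x := fun x => hcen n₁ hn₁ x
  have hgc : g * c * g⁻¹ = c ^ m := by
    have h1 : g * c * g⁻¹ = (g * l * g⁻¹) ^ (m - 1) * (g * n₁ * g⁻¹) := by
      rw [hc1, conj_zpow]; group
    have h2 : g * n₁ * g⁻¹ = n₁ := by rw [← hcen n₁ hn₁ g]; group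
    rw [h1, h2, hgl, hc1, ((hcn1 _).symm).mul_zpow, ((hcn1 _).symm).mul_zpow, ← zpow_mul, ← zpow_mul,
      mul_assoc]
    rw [← zpow_add_one, mul_comm m (m - 1), sub_add_cancel]
  have hcl : Commute c l := by
    rw [hc1]
    exact ((Commute.refl l).zpow_left _).mul_left (hcn1 l)
  set N : Subgroup G := zpowers c with hN
  have hnorm : N.Normal := by
    have hl : l ∈ normalizer (N : Set G) := by
      refine mem_normalizer_of_conj ?_
      rintro _ ⟨k, rfl⟩
      have : Commute l (c ^ k) := (hcl.symm).zpow_right k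
      have h3 : l * c ^ k * l⁻¹ = c ^ k := by rw [this.eq]; group
      show l * c ^ k * l⁻¹ ∈ N
      rw [h3]
      exact ⟨k, rfl⟩
    have hg : g ∈ normalizer (N : Set G) := by
      refine mem_normalizer_of_conj ?_
      rintro _ ⟨k, rfl⟩
      show g * c ^ k * g⁻¹ ∈ N
      rw [← conj_zpow, hgc, ← zpow_mul]
      exact ⟨_, rfl⟩
    have hz : ∀ n ∈ N₀, n ∈ normalizer (N : Set G) := by
      intro n hn
      refine mem_normalizer_of_conj ?_
      intro x hx
      rw [hcen n hn x]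
      simpa using hx
    have htop : normalizer (N : Set G) = ⊤ := by
      rw [eq_top_iff]
      intro x _
      obtain ⟨j, y, hy, rfl⟩ := hGmem x
      obtain ⟨i, n, hn, rfl⟩ := hLmem y hy
      exact mul_mem (mul_mem (zpow_mem hl i) (hz n hn)) (zpow_mem hg j)
    exact normalizer_eq_top_iff.1 htop
  -- the quotient by `N` is commutative
  have hcomm : ∀ x y : G, x * y * x⁻¹ * y⁻¹ ∈ N := by
    let f := QuotientGroup.mk' N
    have hfgl : Commute (f g) (f l) := by
      have h1 : f c = 1 := (QuotientGroup.eq_one_iff c).2 (mem_zpowers c)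
      have h2 : f g * f l * (f g)⁻¹ * (f l)⁻¹ = 1 := by rw [← h1, hc]; simp
      have h3 : f g * f l * (f g)⁻¹ = f l := by
        exact mul_inv_eq_one.1 h2
      exact mul_inv_eq_iff_eq_mul.1 h3
    have hfn : ∀ n ∈ N₀, ∀ x, Commute (f n) (f x) := by
      intro n hn x
      show f n * f x = f x * f n
      rw [← map_mul, hcen n hn x, map_mul]
    intro x y
    obtain ⟨j, a, ha, rfl⟩ := hGmem x
    obtain ⟨i, n, hn, rfl⟩ := hLmem a ha
    obtain ⟨j', a', ha', rfl⟩ := hGmem y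
    obtain ⟨i', n', hn', rfl⟩ := hLmem a' ha'
    have h1 : Commute (f (l ^ i * n * g ^ j)) (f (l ^ i' * n' * g ^ j')) := by
      have e1 : f (l ^ i * n * g ^ j) = (f l) ^ i * f n * (f g) ^ j := by simp
      have e2 : f (l ^ i' * n' * g ^ j') = (f l) ^ i' * f n' * (f g) ^ j' := by simp
      have e3 : Commute ((f l) ^ i) (f (l ^ i' * n' * g ^ j')) := by
        rw [e2]
        refine ((Commute.refl _).zpow_zpow _ _ |>.mul_right ((hfn n' hn' l).symm.zpow_left _)).mul_right ?_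
        exact hfgl.symm.zpow_zpow _ _
      have e4 : Commute ((f g) ^ j) (f (l ^ i' * n' * g ^ j')) := by
        rw [e2]
        refine ((hfgl.zpow_zpow _ _).mul_right ((hfn n' hn' g).symm.zpow_left _)).mul_right ?_
        exact (Commute.refl _).zpow_zpow _ _
      rw [e1]
      exact ((e3.mul_left (hfn n hn _))).mul_left e4
    rw [← QuotientGroup.eq_one_iff]
    show f (_ * _ * _⁻¹ * _⁻¹) = 1
    rw [map_mul, map_mul, map_mul, map_inv, map_inv, h1.eq]
    group
  have hGN : _root_.commutator G ≤ N := by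
    rw [_root_.commutator_def, commutator_le]
    intro x _ y _
    exact hcomm x y
  -- `KK G ≤ ⟨c ^ 2⟩`
  have hc2n : (zpowers (c ^ 2)).Normal := by
    refine ⟨?_⟩
    rintro _ ⟨k, rfl⟩ x
    show x * (c ^ 2) ^ k * x⁻¹ ∈ _
    rw [← conj_zpow, ← conj_pow]
    obtain ⟨r, hr⟩ := hnorm.conj_mem c (mem_zpowers c) x
    have hr' : c ^ r = x * c * x⁻¹ := hr
    rw [← hr']
    refine zpow_mem ?_ k
    refine ⟨r, ?_⟩
    show (c ^ 2) ^ r = (c ^ r) ^ 2
    rw [← zpow_natCast, ← zpow_natCast, ← zpow_mul, ← zpow_mul, mul_comm]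
  have hKK : KK G ≤ zpowers (c ^ 2) := by
    refine sup_le ?_ ?_
    · rw [commutator_le]
      intro d hd x _
      obtain ⟨k, rfl⟩ := hGN hd
      obtain ⟨r, hr⟩ := hnorm.conj_mem c (mem_zpowers c) x
      have hr' : c ^ r = x * c * x⁻¹ := hr
      have key : c ^ (1 - r) ∈ zpowers (c ^ 2) := by
        rcases Int.even_or_odd r with ⟨s, hs⟩ | ⟨s, hs⟩
        · have h1 : x * c * x⁻¹ ∈ zpowers (c ^ 2) := by
            rw [← hr']
            refine ⟨s, ?_⟩
            show (c ^ 2) ^ s = c ^ r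
            rw [← zpow_natCast, ← zpow_mul, hs]
            congr 1; push_cast; ring
          have h2 : c ∈ zpowers (c ^ 2) := by
            have := hc2n.conj_mem _ h1 x⁻¹
            simpa [mul_assoc] using this
          exact zpow_mem h2 _
        · refine ⟨-s, ?_⟩
          show (c ^ 2) ^ (-s) = c ^ (1 - r)
          rw [← zpow_natCast, ← zpow_mul, hs]
          congr 1; push_cast; ring
      have h4 : ⁅(fun i : ℤ => c ^ i) k, x⁆ = (c ^ (1 - r)) ^ k := by
        show c ^ k * x * (c ^ k)⁻¹ * x⁻¹ = _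
        have h5 : x * (c ^ k)⁻¹ * x⁻¹ = (c ^ r) ^ (-k) := by
          rw [hr', conj_zpow, zpow_neg]
        calc c ^ k * x * (c ^ k)⁻¹ * x⁻¹ = c ^ k * (x * (c ^ k)⁻¹ * x⁻¹) := by group
          _ = c ^ k * (c ^ r) ^ (-k) := by rw [h5]
          _ = (c ^ (1 - r)) ^ k := by
            rw [← zpow_mul, ← zpow_mul, ← zpow_add]
            congr 1; ring
      rw [h4]
      exact zpow_mem key k
    · rw [Sq_le_iff]
      intro d hd
      obtain ⟨k, rfl⟩ := hGN hd
      refine ⟨k, ?_⟩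
      show (c ^ 2) ^ k = (c ^ k) ^ 2
      rw [← zpow_natCast, ← zpow_natCast, ← zpow_mul, ← zpow_mul, mul_comm]
  -- `n₀` is a power of `l`
  have hc2 : c ^ 2 = l ^ (2 * (m - 1)) := by
    rw [hc1, ((hcn1 _).symm).mul_pow, hN₀sq n₁ hn₁, mul_one, ← zpow_natCast, ← zpow_mul]
    congr 1; push_cast; ring
  have hn₀l : n₀ ∈ zpowers l := by
    have h1 := hKK hK
    rw [hc2] at h1
    exact (zpowers_le.2 (zpow_mem (mem_zpowers l) _)) h1
  have hLl : L = zpowers l := by
    refine le_antisymm ?_ (zpowers_le.2 hlL)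
    intro x hx
    obtain ⟨i, n, hn, rfl⟩ := hLmem x hx
    refine mul_mem (zpow_mem (mem_zpowers l) i) ?_
    rw [hN₀] at hn
    exact (zpowers_le.2 hn₀l) hn
  refine isMetacyclic_of_normal l g (hLl ▸ hLn) fun x => ?_
  obtain ⟨j, y, hy, rfl⟩ := hGmem x
  rw [hLl] at hy
  obtain ⟨i, rfl⟩ := hy
  exact ⟨i, j, rfl⟩

theorem isMetacyclic_quotient_aux (k : ℕ) : ∀ (G : Type*) [Group G] [Finite G], IsPGroup 2 G →
    ∀ (N : Subgroup G) [N.Normal], Nat.card N ≤ k → N ≤ KK G → Cfsg.IsMetacyclic (G ⧸ N) →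
      Cfsg.IsMetacyclic G := by
  induction k with
  | zero =>
    intro G _ _ _ N _ hk
    have := Nat.card_pos (α := N)
    omega
  | succ k ih =>
    intro G _ _ hG N _ hk hNK hm
    have : Fact (Nat.Prime 2) := ⟨Nat.prime_two⟩
    by_cases hN : N = ⊥
    · subst hN
      exact isMetacyclic_of_mulEquiv QuotientGroup.quotientBot hm
    · obtain ⟨n₀, hn₀N, hn₀c, hn₀o⟩ :=
        Involutions.NormalFour.exists_mem_center_of_normal hG N hN
      have hsq : n₀ ^ 2 = 1 := by rw [← hn₀o]; exact pow_orderOf_eq_one n₀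
      have hle : zpowers n₀ ≤ N := zpowers_le.2 hn₀N
      have hN₀ : (zpowers n₀).Normal := by
        refine ⟨?_⟩
        intro x hx g
        have h1 : zpowers n₀ ≤ center G := zpowers_le.2 hn₀c
        have h2 := mem_center_iff.1 (h1 hx) g
        rw [h2]
        simpa using hx
      refine isMetacyclic_base hn₀c hsq (hNK hn₀N) (zpowers n₀) rfl ?_
      refine ih (G ⧸ zpowers n₀) (hG.to_quotient _) (N.map (QuotientGroup.mk' (zpowers n₀))) ?_ ?_ ?_
      · have h1 : Nat.card (N.map (QuotientGroup.mk' (zpowers n₀))) < Nat.card N := by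
          by_contra hlt
          have hs := (QuotientGroup.mk' (zpowers n₀)).subgroupMap_surjective N
          have hb := Function.Surjective.bijective_of_nat_card_le hs (not_lt.1 hlt)
          have h3 : (⟨n₀, hn₀N⟩ : N) = 1 := by
            apply hb.1
            apply Subtype.ext
            show ((n₀ : G) : G ⧸ zpowers n₀) = _
            rw [map_one]
            exact (QuotientGroup.eq_one_iff n₀).2 (mem_zpowers n₀)
          have h4 : n₀ = 1 := congrArg Subtype.val h3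
          rw [h4, orderOf_one] at hn₀o
          omega
        omega
      · rw [← map_KK (QuotientGroup.mk' (zpowers n₀)) (QuotientGroup.mk'_surjective _)]
        exact map_mono hNK
      · exact isMetacyclic_of_mulEquiv (QuotientGroup.quotientQuotientEquivQuotient _ _ hle).symm hm

/-- **Blackburn's criterion** for 2-groups. -/
theorem isMetacyclic_of_quotient_KK {G : Type*} [Group G] [Finite G] (hG : IsPGroup 2 G)
    (hm : Cfsg.IsMetacyclic (G ⧸ KK G)) : Cfsg.IsMetacyclic G :=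
  isMetacyclic_quotient_aux (Nat.card (KK G)) G hG (KK G) le_rfl le_rfl hm

end Cfsg.Agent.H774
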