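import Cfsg.Agent.H774.PolyNil
import Cfsg.Agent.H774.SylFix

/-!
# Powers of elements centralized because of a class bound or by an abelian subgroup of largest order (helper774)
-/

set_option autoImplicit false

namespace Cfsg.Agent.H774

/-- If `g` normalizes the abelian `V`, `y ∈ V` is centralized by `g^p` and the `(n(p-1)+1)`-fold commutator
of `g` with `y` is trivial, then `g` centralizes `y^(p^n)`. -/
theorem conj_pow_eq_of_class {Ω : Type*} [Group Ω] {p : ℕ} (hp : p.Prime) (n : ℕ) (V : Subgroup Ω)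
    (hV : ∀ a ∈ V, ∀ b ∈ V, a * b = b * a) (g : Ω) (hg : ∀ v ∈ V, g * v * g⁻¹ ∈ V)
    (L : ℕ → Subgroup Ω) (hL : ∀ j, ∀ v ∈ V, v ∈ L j → g * v * g⁻¹ * v⁻¹ ∈ L (j + 1))
    (hLm : L (n * (p - 1) + 1) = ⊥) (y : Ω) (hyV : y ∈ V) (hy0 : y ∈ L 0)
    (hyp : g ^ p * y * (g ^ p)⁻¹ = y) : g * y ^ (p ^ n) * g⁻¹ = y ^ (p ^ n) := by
  let _ : CommGroup V :=
    { (inferInstance : Group V) with
      mul_comm := fun a b => Subtype.ext (hV a a.2 b b.2) }
  let c : V →* V :=
    { toFun := fun v => ⟨g * v * g⁻¹, hg v v.2⟩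
      map_one' := Subtype.ext (by simp)
      map_mul' := fun a b => Subtype.ext (by simp [mul_assoc]) }
  let f : Module.End ℤ (Additive V) := (MonoidHom.toAdditive c).toIntLinearMap
  have hf : ∀ v : V, f (Additive.ofMul v) = Additive.ofMul (c v) := fun v => rfl
  have hpow : ∀ k : ℕ, (((Additive.toMul ((f ^ k) (Additive.ofMul (⟨y, hyV⟩ : V))) : V)) : Ω) =
      g ^ k * y * (g ^ k)⁻¹ := by
    intro k
    induction k with
    | zero => simp
    | succ k ih =>
      rw [pow_succ', Module.End.mul_apply]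
      have e1 : ((f ^ k) (Additive.ofMul (⟨y, hyV⟩ : V))) =
        Additive.ofMul (Additive.toMul ((f ^ k) (Additive.ofMul (⟨y, hyV⟩ : V))) : V) := rfl
      rw [e1, hf]
      show g * ((Additive.toMul ((f ^ k) (Additive.ofMul (⟨y, hyV⟩ : V))) : V) : Ω) * g⁻¹ = _
      rw [ih, pow_succ']
      group
  have hcomm : ∀ k : ℕ, (((Additive.toMul (((f - 1) ^ k) (Additive.ofMul (⟨y, hyV⟩ : V))) : V)) : Ω)
      ∈ L k := by
    intro k
    induction k with
    | zero => simpa using hy0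
    | succ k ih =>
      rw [pow_succ', Module.End.mul_apply]
      set w := ((f - 1) ^ k) (Additive.ofMul (⟨y, hyV⟩ : V)) with hw
      have e2 : (((Additive.toMul ((f - 1) w) : V)) : Ω) =
          g * ((Additive.toMul w : V) : Ω) * g⁻¹ * ((Additive.toMul w : V) : Ω)⁻¹ := by
        have : (f - 1) w = f w - w := rfl
        rw [this]
        have e3 : w = Additive.ofMul (Additive.toMul w : V) := rfl
        rw [e3, hf, ← ofMul_div]
        show (((c (Additive.toMul w)) / (Additive.toMul w) : V) : Ω) = _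
        rw [div_eq_mul_inv]
        rfl
      rw [e2]
      exact hL k _ (Additive.toMul w : V).2 ih
  have h1 : (f ^ p) (Additive.ofMul (⟨y, hyV⟩ : V)) = Additive.ofMul (⟨y, hyV⟩ : V) := by
    apply Additive.toMul.injective
    apply Subtype.ext
    rw [hpow p, hyp]
    rfl
  have h2 : ((f - 1) ^ (n * (p - 1) + 1)) (Additive.ofMul (⟨y, hyV⟩ : V)) = 0 := by
    have h3 := hcomm (n * (p - 1) + 1)
    rw [hLm, Subgroup.mem_bot] at h3
    apply Additive.toMul.injective
    apply Subtype.ext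
    exact h3
  have h4 := end_smul_eq hp n f _ h1 h2
  rw [hf, ← ofMul_pow, ← ofMul_pow] at h4
  have h5 := congrArg Subtype.val (Additive.ofMul.injective h4)
  have h6 : (g * y * g⁻¹) ^ (p ^ n) = y ^ (p ^ n) := h5
  rw [conj_pow] at h6
  exact h6

/-- Some element of a `p`-subgroup not centralizing `y` has its `p`-th power centralizing `y`. -/
theorem exists_pow_commute {Ω : Type*} [Group Ω] {p : ℕ} (a₀ y : Ω) (k₀ : ℕ) (hk₀ : a₀ ^ p ^ k₀ = 1)
    (h : a₀ * y ≠ y * a₀) : ∃ j : ℕ, a₀ ^ j * y ≠ y * a₀ ^ j ∧ (a₀ ^ j) ^ p * y = y * (a₀ ^ j) ^ p := by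
  classical
  have hex : ∃ k : ℕ, a₀ ^ p ^ k * y = y * a₀ ^ p ^ k := ⟨k₀, by rw [hk₀]; simp⟩
  have h1 := Nat.find_spec hex
  have h2 : Nat.find hex ≠ 0 := by
    intro h0
    rw [h0] at h1
    simp at h1
    exact h h1
  obtain ⟨m, hm⟩ := Nat.exists_eq_succ_of_ne_zero h2
  have h3 := Nat.find_min hex (m := m) (by omega)
  refine ⟨p ^ m, h3, ?_⟩
  rw [← pow_mul, ← pow_succ]
  rw [hm] at h1
  exact h1

/-- If `a` commutes with `c = a y a⁻¹ y⁻¹`, `y` commutes with `c`, and `a^p` commutes with `y` then `a` commutes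
with `y^p`. -/
theorem commute_pow_of_quadratic {Ω : Type*} [Group Ω] {p : ℕ} (a y : Ω)
    (hac : a * (a * y * a⁻¹ * y⁻¹) = (a * y * a⁻¹ * y⁻¹) * a)
    (hyc : Commute (a * y * a⁻¹ * y⁻¹) y) (hp : a ^ p * y = y * a ^ p) :
    a * y ^ p = y ^ p * a := by
  set c := a * y * a⁻¹ * y⁻¹ with hc
  have h1 : ∀ j : ℕ, a ^ j * y * (a ^ j)⁻¹ = c ^ j * y := by
    intro j
    induction j with
    | zero => simp
    | succ j ih =>
      have hac' : a * c ^ j = c ^ j * a := ((show Commute a c from hac).pow_right j)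
      calc a ^ (j + 1) * y * (a ^ (j + 1))⁻¹ = a * (a ^ j * y * (a ^ j)⁻¹) * a⁻¹ := by
            rw [pow_succ']; group
        _ = a * c ^ j * y * a⁻¹ := by rw [ih]; group
        _ = c ^ j * (a * y * a⁻¹ * y⁻¹) * y := by rw [hac']; group
        _ = c ^ (j + 1) * y := by rw [← hc, pow_succ]
  have h2 : c ^ p = 1 := by
    have h3 := h1 p
    rw [hp] at h3
    have h4 : y * a ^ p * (a ^ p)⁻¹ = y := by group
    rw [h4] at h3
    exact (mul_eq_right.1 h3.symm)
  have h5 : a * y ^ p * a⁻¹ = y ^ p := by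
    rw [← conj_pow]
    have h6 : a * y * a⁻¹ = c * y := by rw [hc]; group
    rw [h6, hyc.mul_pow, h2, one_mul]
  calc a * y ^ p = (a * y ^ p * a⁻¹) * a := by group
    _ = y ^ p * a := by rw [h5]

/-- Order of a product of two commuting subgroups, as an inequality. -/
theorem card_mul_card_le {Ω : Type*} [Group Ω] (H K : Subgroup Ω) [Finite H] [Finite K]
    (hHK : ∀ h ∈ H, ∀ k ∈ K, h * k = k * h) (m n : ℕ) (hn : Nat.card (H ⊓ K : Subgroup Ω) ≤ n)
    (hm : Nat.card (H ⊔ K : Subgroup Ω) ≤ m) : Nat.card H * Nat.card K ≤ m * n := by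
  let f : H × K →* Ω :=
    { toFun := fun x => (x.1 : Ω) * (x.2 : Ω)
      map_one' := by simp
      map_mul' := by
        rintro ⟨a, b⟩ ⟨c, d⟩
        show ((a : Ω) * c) * ((b : Ω) * d) = ((a : Ω) * b) * ((c : Ω) * d)
        have := hHK c c.2 b b.2
        calc ((a : Ω) * c) * ((b : Ω) * d) = (a : Ω) * (c * b) * d := by group
          _ = (a : Ω) * (b * c) * d := by rw [this]
          _ = _ := by group }
  have hr : f.range ≤ H ⊔ K := by
    rintro _ ⟨⟨a, b⟩, rfl⟩
    exact Subgroup.mul_mem _ (Subgroup.mem_sup_left a.2) (Subgroup.mem_sup_right b.2)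
  have hr2 : H ⊔ K ≤ f.range := by
    refine sup_le ?_ ?_
    · intro h hh
      exact ⟨(⟨h, hh⟩, 1), by show h * ((1 : K) : Ω) = h; simp⟩
    · intro h hh
      exact ⟨(1, ⟨h, hh⟩), by show ((1 : H) : Ω) * h = h; simp⟩
  have hre : f.range = H ⊔ K := le_antisymm hr hr2
  have hfr : Finite f.range := Finite.of_surjective f.rangeRestrict f.rangeRestrict_surjective
  have h1 : Nat.card (H × K) = Nat.card f.range * Nat.card f.ker := by
    rw [Subgroup.card_eq_card_quotient_mul_card_subgroup f.ker,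
      Nat.card_congr (QuotientGroup.quotientKerEquivRange f).toEquiv]
  have h2 : Nat.card f.ker ≤ Nat.card (H ⊓ K : Subgroup Ω) := by
    have hfin : Finite (H ⊓ K : Subgroup Ω) :=
      Finite.of_injective (Subgroup.inclusion (inf_le_left : H ⊓ K ≤ H))
        (Subgroup.inclusion_injective _)
    have hmem : ∀ x : f.ker, ((x : H × K).2 : Ω) ∈ H ⊓ K := by
      rintro ⟨⟨a, b⟩, hab⟩
      have hab' : (a : Ω) * b = 1 := hab
      refine ⟨?_, b.2⟩
      have : (b : Ω) = (a : Ω)⁻¹ := eq_inv_of_mul_eq_one_right hab'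
      show (b : Ω) ∈ H
      rw [this]
      exact H.inv_mem a.2
    refine Nat.card_le_card_of_injective (fun x : f.ker => (⟨_, hmem x⟩ : (H ⊓ K : Subgroup Ω))) ?_
    rintro ⟨⟨a, b⟩, hab⟩ ⟨⟨c, d⟩, hcd⟩ h
    have hab' : (a : Ω) * b = 1 := hab
    have hcd' : (c : Ω) * d = 1 := hcd
    have hbd : (b : Ω) = d := congrArg (fun z : (H ⊓ K : Subgroup Ω) => (z : Ω)) h
    have hac : (a : Ω) = c := by
      rw [eq_inv_of_mul_eq_one_left hab', eq_inv_of_mul_eq_one_left hcd', hbd]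
    apply Subtype.ext
    exact Prod.ext (Subtype.ext hac) (Subtype.ext hbd)
  rw [← Nat.card_prod, h1, hre]
  exact Nat.mul_le_mul hm (h2.trans hn)

end Cfsg.Agent.H774
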