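import Cfsg.Agent.H774.DatSb

/-!
# The commutator subgroup is cyclic (helper774)
-/

set_option autoImplicit false
set_option linter.unusedSectionVars false

namespace Cfsg.Agent.H774

open Subgroup Cfsg.Agent.OddOrderLocal.Metacyclic

namespace Dat

variable {G : Type*} [Group G] [Finite G] {Q : Subgroup G} {t : G} {b : G → G}

/-- elements commuting with two independent elements of `R` centralize `R` -/
theorem comm_of_two (D : Dat Q t b) (A : Amb G) {u v : G} (hu : u ∈ Rr Q b) (hv : v ∈ Rr Q b)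
    (hu' : u ∉ Sq (Rr Q b)) (hv' : v ∉ Sq (Rr Q b)) (huv : u⁻¹ * v ∉ Sq (Rr Q b)) {x : G}
    (hxu : x * u = u * x) (hxv : x * v = v * x) : ∀ r ∈ Rr Q b, x * r = r * x := by
  have h1 := D.eq_R_of_mem A (K := Rr Q b ⊓ centralizer {x}) inf_le_left (g := u) (h := v)
    ⟨hu, mem_centralizer_singleton_iff.2 hxu.symm⟩ ⟨hv, mem_centralizer_singleton_iff.2 hxv.symm⟩
    hu' hv' huv
  intro r hr
  rw [← h1] at hr
  exact (mem_centralizer_singleton_iff.1 hr.2).symm

/-- `R` a four-group -/
theorem isCyclic_four (D : Dat Q t b) (A : Amb G) (hV : ∀ r ∈ Rr Q b, r ^ 2 = 1) :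
    IsCyclic (_root_.commutator G) := by
  have hG := A.two
  have hPS := commutator_le_Sq G
  by_cases hRS : Rr Q b ≤ Sq (⊤ : Subgroup G)
  · exact (D.false_four A hV hRS).elim
  have hS1 : ∀ x ∈ Sq (Rr Q b), x = 1 := by
    have : Sq (Rr Q b) ≤ ⊥ := by
      rw [Sq_le_iff]
      intro r hr
      rw [mem_bot]
      exact hV r hr
    intro x hx
    exact mem_bot.1 (this hx)
  have hS : ∀ x ∈ Sq (Rr Q b), x = 1 ∨ x = 1 := fun x hx => Or.inl (hS1 x hx)
  have hc1 : ∀ r ∈ Rr Q b, (1 : G) * r = r * 1 := fun r _ => by simp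
  obtain ⟨u, v, huR, hvR, hvS, huP, huS⟩ := D.exists_uv A hRS
  have hvS' : v ∉ Sq (Rr Q b) := fun h => hvS (Sq_mono le_top h)
  have huv : u⁻¹ * v ∉ Sq (Rr Q b) := by
    intro h
    apply hvS
    have := mul_mem (hPS huP) (Sq_mono le_top h : u⁻¹ * v ∈ Sq (⊤ : Subgroup G))
    rwa [mul_inv_cancel_left] at this
  have hcomm : ∀ x : G, x * u = u * x → x * v = v * x → ∀ r ∈ Rr Q b, x * r = r * x :=
    fun x h1 h2 => D.comm_of_two A huR hvR huS hvS' huv h1 h2
  have hu2 := hV u huR
  have hv2 := hV v hvR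
  have hcos : ∀ y ∈ Rr Q b, y = 1 ∨ y = u ∨ y = v ∨ y = u * v := by
    intro y hy
    rcases D.cosets A huR hvR huS hvS' huv hy with h | h | h | h
    · exact Or.inl (hS1 _ h)
    · exact Or.inr (Or.inl (inv_mul_eq_one.1 (hS1 _ h)).symm)
    · exact Or.inr (Or.inr (Or.inl (inv_mul_eq_one.1 (hS1 _ h)).symm))
    · exact Or.inr (Or.inr (Or.inr (inv_mul_eq_one.1 (hS1 _ h)).symm))
  have U : UV Q b u v u :=
    { uR := huR
      vR := hvR
      vS := hvS
      uA := huP
      zR := huR
      zA := huP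
      z2 := hu2
      z1 := fun h => huS (h ▸ one_mem _)
      cenQ := fun x h1 h2 => D.centralizer_le A (hcomm x h1 h2)
      cenC := fun x y h1 h2 h3 h4 => D.centralizer_comm A (one_mem _) (one_pow 2) hc1 hS
        (hcomm x h1 h2) (hcomm y h3 h4)
      fac := fun q hq => by
        obtain ⟨c, hc, hc', r, hr, h⟩ := D.exists_mul hG hq
        have h1 := D.C_comm A (one_mem _) (one_pow 2) hc1 hS c ⟨hc, hc'⟩
        exact ⟨c, r, h1 u huR, h1 v hvR, hr, h⟩
      two := fun y hy _ hyR => by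
        rcases hcos y hyR with h | h | h | h
        · exact Or.inl h
        · exact Or.inr h
        · exact absurd (hPS (h ▸ hy)) hvS
        · exfalso
          apply hvS
          have h1 := hPS (mul_mem (inv_mem huP) hy)
          rwa [h, inv_mul_cancel_left] at h1 }
  refine D.isCyclic_of_UV A U (fun g => by rw [hv2]; simp) ?_ (Or.inl hu2) (fun a _ h => Or.inl (by rw [h, hv2]))
    (fun r hr => ?_)
  · rw [show 4 = 2 * 2 by norm_num, pow_mul, hv2, one_pow]
  · rcases hcos r hr with h | h | h | h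
    · left; rw [h]; exact ⟨one_mem _, Or.inl (one_pow 2)⟩
    · left; rw [h]; exact ⟨huP, Or.inl hu2⟩
    · right; rw [h, inv_mul_cancel]; exact ⟨one_mem _, Or.inl (one_pow 2)⟩
    · right
      rw [h]
      have h1 : (_root_.commutator G).Normal := inferInstance
      have h2 := h1.conj_mem u huP v⁻¹
      rw [inv_inv] at h2
      rw [← mul_assoc]
      refine ⟨h2, Or.inl ?_⟩
      have h3 : (v⁻¹ * u * v) ^ 2 = v⁻¹ * u ^ 2 * v := by simp only [pow_two]; group
      rw [h3, hu2]; group

/-- `R` quaternion -/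
theorem isCyclic_quat (D : Dat Q t b) (A : Amb G) {z : G} (hq : Quat (Rr Q b) z) :
    IsCyclic (_root_.commutator G) := by
  have hG := A.two
  have hPS := commutator_le_Sq G
  have hPn : (_root_.commutator G).Normal := inferInstance
  by_cases hRS : Rr Q b ≤ Sq (⊤ : Subgroup G)
  · exact (D.false_quat A hq hRS).elim
  have hS : ∀ x ∈ Sq (Rr Q b), x = 1 ∨ x = z := fun x hx => hq.mem_Sq hx
  obtain ⟨u, v, huR, hvR, hvS, huP, huS⟩ := D.exists_uv A hRS
  have hvS' : v ∉ Sq (Rr Q b) := fun h => hvS (Sq_mono le_top h)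
  have huv : u⁻¹ * v ∉ Sq (Rr Q b) := by
    intro h
    apply hvS
    have := mul_mem (hPS huP) (Sq_mono le_top h : u⁻¹ * v ∈ Sq (⊤ : Subgroup G))
    rwa [mul_inv_cancel_left] at this
  have hcomm : ∀ x : G, x * u = u * x → x * v = v * x → ∀ r ∈ Rr Q b, x * r = r * x :=
    fun x h1 h2 => D.comm_of_two A huR hvR huS hvS' huv h1 h2
  have hzR : z ∈ Rr Q b := Sq_le _ hq.zS
  have hzi : z⁻¹ = z := inv_eq_of_mul_eq_one_left (by rw [← pow_two, hq.sq])
  have hsq : ∀ r ∈ Rr Q b, r ∉ Sq (Rr Q b) → r ^ 2 = z := by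
    intro r hr hr'
    rcases hq.four r hr with h | h
    · exfalso
      apply hr'
      rcases hq.inv r hr h with h | h
      · rw [h]; exact one_mem _
      · rw [h]; exact hq.zS
    · exact h
  have hu2 := hsq u huR huS
  have hv2 := hsq v hvR hvS'
  have hnc : ¬ u * v = v * u := by
    intro h
    rcases hq.ctr u huR (hcomm u rfl h) with h | h
    · exact huS (h ▸ one_mem _)
    · exact huS (h ▸ hq.zS)
  have hvu : v * u * v⁻¹ = u⁻¹ := (hq.alt u huR v hvR).resolve_left hnc
  have hvu' : v⁻¹ * u * v = u⁻¹ := by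
    have h1 : v * u⁻¹ * v⁻¹ = u := by
      have : v * u⁻¹ * v⁻¹ = (v * u * v⁻¹)⁻¹ := by group
      rw [this, hvu, inv_inv]
    calc v⁻¹ * u * v = v⁻¹ * (v * u⁻¹ * v⁻¹) * v := by rw [h1]
      _ = u⁻¹ := by group
  have hzP : z ∈ _root_.commutator G := by rw [← hu2]; exact pow_mem huP 2
  have U : UV Q b u v z :=
    { uR := huR
      vR := hvR
      vS := hvS
      uA := huP
      zR := hzR
      zA := hzP
      z2 := hq.sq
      z1 := hq.ne
      cenQ := fun x h1 h2 => D.centralizer_le A (hcomm x h1 h2)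
      cenC := fun x y h1 h2 h3 h4 => D.centralizer_comm A hq.zS hq.sq hq.cen hS
        (hcomm x h1 h2) (hcomm y h3 h4)
      fac := fun q hq' => by
        obtain ⟨c, hc, hc', r, hr, h⟩ := D.exists_mul hG hq'
        have h1 := D.C_comm A hq.zS hq.sq hq.cen hS c ⟨hc, hc'⟩
        exact ⟨c, r, h1 u huR, h1 v hvR, hr, h⟩
      two := fun y _ hy2 hyR => hq.inv y hyR hy2 }
  have hzv : z * v = v * z := hq.cen v hvR
  -- `z` is central
  have hzc : ∀ g : G, g * z * g⁻¹ = z := by
    intro g
    set u' := g * u * g⁻¹ with hu'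
    set z' := g * z * g⁻¹ with hz'
    have hu'P : u' ∈ _root_.commutator G := hPn.conj_mem u huP g
    have hz'P : z' ∈ _root_.commutator G := hPn.conj_mem z hzP g
    have hd : v⁻¹ * g * v * g⁻¹ ∈ _root_.commutator G := by
      have := comm_mem_commutator v⁻¹ g
      rwa [inv_inv] at this
    have hz'2 : z' ^ 2 = 1 := by rw [hz', conj_pow, hq.sq]; group
    have hz'i : z'⁻¹ = z' := inv_eq_of_mul_eq_one_left (by rw [← pow_two, hz'2])
    have e1 : z' = v * u' * v⁻¹ * u'⁻¹ := by
      set d := v⁻¹ * g * v * g⁻¹ with hd'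
      have h1 : z = v * u * v⁻¹ * u⁻¹ := by
        rw [hvu, ← hzi, ← hu2, pow_two]; group
      have h2 : g * v * g⁻¹ = v * d := by rw [hd']; group
      calc z' = g * (v * u * v⁻¹ * u⁻¹) * g⁻¹ := by rw [hz', ← h1]
        _ = (g * v * g⁻¹) * u' * (g * v * g⁻¹)⁻¹ * u'⁻¹ := by rw [hu']; group
        _ = v * (d * u' * d⁻¹) * v⁻¹ * u'⁻¹ := by rw [h2]; group
        _ = v * (u' * d * d⁻¹) * v⁻¹ * u'⁻¹ := by rw [A.com d hd u' hu'P]
        _ = _ := by group
    have e2 : v * z' * v⁻¹ = z' := by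
      have h1 : v * z' * v⁻¹ = v ^ 2 * u' * v⁻¹ * u'⁻¹ * v⁻¹ := by
        rw [e1, pow_two]; group
      have h2 : v ^ 2 * u' = u' * v ^ 2 := by rw [hv2]; exact A.com z hzP u' hu'P
      have h3 : v * z' * v⁻¹ = (v * u' * v⁻¹ * u'⁻¹)⁻¹ := by
        rw [h1, h2, pow_two]; group
      rw [h3, ← e1, hz'i]
    have e2' : z' * v = v * z' := (mul_inv_eq_iff_eq_mul.1 e2).symm
    have e3 : u' * v * u'⁻¹ = v * z' := by
      have h1 : u' * v * u'⁻¹ = v * (v⁻¹ * (v * u' * v⁻¹ * u'⁻¹)⁻¹ * v) := by group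
      rw [h1, ← e1, hz'i, mul_assoc v⁻¹, e2']
      group
    let J : Subgroup G :=
      { carrier := {a | a ∈ _root_.commutator G ∧ (a * v = v * a ∨ (u⁻¹ * a) * v = v * (u⁻¹ * a))}
        one_mem' := ⟨one_mem _, Or.inl (by simp)⟩
        mul_mem' := by
          rintro x y ⟨hx, hx'⟩ ⟨hy, hy'⟩
          refine ⟨mul_mem hx hy, ?_⟩
          rcases hx' with hx' | hx' <;> rcases hy' with hy' | hy'
          · left; exact ((show Commute x v from hx').mul_left (show Commute y v from hy')).eq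
          · right
            have h1 : u⁻¹ * (x * y) = x * (u⁻¹ * y) := by
              rw [← mul_assoc, ← mul_assoc, A.com u⁻¹ (inv_mem huP) x hx]
            rw [h1]
            exact ((show Commute x v from hx').mul_left (show Commute _ v from hy')).eq
          · right
            rw [← mul_assoc u⁻¹]
            exact ((show Commute (u⁻¹ * x) v from hx').mul_left (show Commute y v from hy')).eq
          · left
            have h1 : x * y = z * ((u⁻¹ * x) * (u⁻¹ * y)) := by
              rw [A.com u⁻¹ (inv_mem huP) x hx, ← hu2]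
              have h2 : u ^ 2 * (x * u⁻¹ * (u⁻¹ * y)) = u ^ 2 * x * (u ^ 2)⁻¹ * y := by
                simp only [pow_two]; group
              rw [h2, A.com (u ^ 2) (pow_mem huP 2) x hx]
              group
            rw [h1]
            exact ((show Commute z v from hzv).mul_left ((show Commute (u⁻¹ * x) v from hx').mul_left
              (show Commute (u⁻¹ * y) v from hy'))).eq
        inv_mem' := by
          rintro x ⟨hx, hx'⟩
          refine ⟨inv_mem hx, ?_⟩
          rcases hx' with hx' | hx'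
          · left; exact (show Commute x v from hx').inv_left.eq
          · right
            have h1 : u⁻¹ * x⁻¹ = z⁻¹ * (u⁻¹ * x)⁻¹ := by
              have h2 := A.com u⁻¹ (inv_mem huP) x hx
              rw [h2, ← hu2]
              simp only [pow_two]; group
            rw [h1]
            exact ((show Commute z v from hzv).inv_left.mul_left
              (show Commute (u⁻¹ * x) v from hx').inv_left).eq }
    have hSJ : ∀ s, s = 1 ∨ s = z → s * v = v * s := by
      rintro s (rfl | rfl)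
      · simp
      · exact hzv
    have hSP : ∀ s, s = 1 ∨ s = z → s ∈ _root_.commutator G := by
      rintro s (rfl | rfl)
      · exact one_mem _
      · exact hzP
    have hn := D.normalizes A U J (fun a ha => ha.1) (fun a ha => by
      obtain ⟨ha, ha'⟩ := ha
      rcases ha' with h | h
      · exact ⟨a, ha, h, Or.inl rfl⟩
      · exact ⟨_, mul_mem (inv_mem huP) ha, h, Or.inr (by group)⟩) (fun r hr => by
      rcases D.cosets A huR hvR huS hvS' huv hr with h | h | h | h
      · exact Or.inl ⟨hSP r (hS r h), Or.inl (hSJ r (hS r h))⟩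
      · refine Or.inl ⟨?_, Or.inr (hSJ _ (hS _ h))⟩
        have := mul_mem huP (hSP _ (hS _ h))
        rwa [mul_inv_cancel_left] at this
      · exact Or.inr ⟨hSP _ (hS _ h), Or.inl (hSJ _ (hS _ h))⟩
      · right
        set s := (u * v)⁻¹ * r with hs
        have h1 : v⁻¹ * r = u⁻¹ * s := by
          have h2 : v⁻¹ * r = (v⁻¹ * u * v) * s := by rw [hs]; group
          rw [h2, hvu']
        rw [h1]
        refine ⟨mul_mem (inv_mem huP) (hSP _ (hS _ h)), Or.inr ?_⟩
        have h3 : u⁻¹ * (u⁻¹ * s) = z * s := by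
          rw [← mul_assoc, ← mul_inv_rev, ← pow_two, hu2, hzi]
        rw [h3]
        exact ((show Commute z v from hzv).mul_left (show Commute s v from hSJ _ (hS _ h))).eq)
      (⟨huP, Or.inr (by simp)⟩) (g := u') (fun a ha => by
        rw [A.com u' hu'P a ha.1, mul_inv_cancel_right]
        exact ha) (y := z') ⟨hz'P, Or.inl e2'⟩ e3
    have h1 := D.normR hn hvR
    rw [e3] at h1
    have h2 := mul_mem (inv_mem hvR) h1
    rw [inv_mul_cancel_left] at h2
    rcases hq.inv z' h2 hz'2 with h | h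
    · exfalso
      apply hq.ne
      calc z = g⁻¹ * z' * g := by rw [hz']; group
        _ = 1 := by rw [h]; group
    · exact h
  refine D.isCyclic_of_UV A U (fun g => ?_) ?_ (Or.inr (by rw [hu2, hv2])) (fun a ha h => Or.inr ?_)
    (fun r hr => ?_)
  · rw [hv2]
    exact (mul_inv_eq_iff_eq_mul.1 (hzc g)).symm
  · rw [show 4 = 2 * 2 by norm_num, pow_mul, hv2, hq.sq]
  · have h1 : Commute u⁻¹ a := A.com u⁻¹ (inv_mem huP) a ha
    rw [h1.mul_pow, h, hv2, inv_pow, hu2, inv_mul_cancel]
  · have hs1 : ∀ s, s = 1 ∨ s = z → s ∈ _root_.commutator G ∧ s ^ 2 = 1 := by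
      rintro s (rfl | rfl)
      · exact ⟨one_mem _, one_pow 2⟩
      · exact ⟨hzP, hq.sq⟩
    rcases D.cosets A huR hvR huS hvS' huv hr with h | h | h | h
    · left; exact ⟨(hs1 _ (hS _ h)).1, Or.inl (hs1 _ (hS _ h)).2⟩
    · left
      set s := u⁻¹ * r with hs
      obtain ⟨hsP, hs2⟩ := hs1 _ (hS _ h)
      have h1 : r = u * s := by rw [hs]; group
      rw [h1]
      refine ⟨mul_mem huP hsP, Or.inr ?_⟩
      rw [(show Commute u s from A.com u huP s hsP).mul_pow, hs2, mul_one, hu2, hv2]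
    · right; exact ⟨(hs1 _ (hS _ h)).1, Or.inl (hs1 _ (hS _ h)).2⟩
    · right
      set s := (u * v)⁻¹ * r with hs
      obtain ⟨hsP, hs2⟩ := hs1 _ (hS _ h)
      have h1 : v⁻¹ * r = u⁻¹ * s := by
        have h2 : v⁻¹ * r = (v⁻¹ * u * v) * s := by rw [hs]; group
        rw [h2, hvu']
      rw [h1]
      refine ⟨mul_mem (inv_mem huP) hsP, Or.inr ?_⟩
      rw [(show Commute u⁻¹ s from A.com u⁻¹ (inv_mem huP) s hsP).mul_pow, hs2, mul_one, inv_pow,
        hu2, hv2, hzi]

/-- **the group-theoretic part**: the commutator subgroup is cyclic. -/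
theorem isCyclic_commutator (D : Dat Q t b) (A : Amb G) : IsCyclic (_root_.commutator G) := by
  rcases D.shapes A with h | ⟨⟨e⟩⟩ | ⟨hab, m, hme, hm⟩
  · exact D.isCyclic_four A h
  · obtain ⟨z, hz⟩ := exists_quat e
    exact D.isCyclic_quat A hz
  · exact D.isCyclic_homocyclic A hab hme hm

end Dat

end Cfsg.Agent.H774
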