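import Cfsg.Agent.H774.Tv

/-!
# TI two-subgroups of the automorphism group of a 2-group with Frattini quotient of order at most
eight (helper774)
-/

set_option autoImplicit false
set_option linter.unusedSectionVars false

namespace Cfsg.Agent.H774

open Subgroup

/-- Two elements of prime order `r` in a coset of an `r'`-subgroup are conjugate. -/
theorem exists_conj_of_coset {M : Type*} [Group M] {r : ℕ} [hr : Fact r.Prime] {b b' : M}
    (hb : b ^ r = 1) (hb' : b' ^ r = 1) (N : Subgroup M) [Finite N] (hN : ∀ n ∈ N, b * n * b⁻¹ ∈ N)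
    (hcop : ¬ r ∣ Nat.card N) (h : b' * b⁻¹ ∈ N) : ∃ x ∈ N, b' * x = x * b := by
  classical
  let f : Function.End N := fun n => ⟨b' * n * b⁻¹, by
    have h1 : b' * n * b⁻¹ = (b' * b⁻¹) * (b * n * b⁻¹) := by group
    rw [h1]
    exact mul_mem h (hN n n.2)⟩
  have hf : ∀ (k : ℕ) (n : N), (((f ^ k) n : N) : M) = b' ^ k * n * (b ^ k)⁻¹ := by
    intro k
    induction k with
    | zero =>
      intro n
      rw [pow_zero]
      show (n : M) = _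
      simp
    | succ k ih =>
      intro n
      rw [pow_succ' f k]
      show b' * ((f ^ k) n : N) * b⁻¹ = _
      rw [ih, pow_succ' b', pow_succ' b]
      group
  have hfr : f ^ r ^ 1 = 1 := by
    funext n
    apply Subtype.ext
    rw [pow_one, hf, hb, hb', one_mul, inv_one, mul_one]
    rfl
  have := Fintype.ofFinite N
  have h1 := Equiv.Perm.card_fixedPoints_modEq hfr
  have h2 : Fintype.card f.fixedPoints ≠ 0 := by
    intro h0
    rw [h0] at h1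
    apply hcop
    rw [Nat.card_eq_fintype_card]
    exact (Nat.modEq_zero_iff_dvd).1 h1
  obtain ⟨⟨n, hn⟩⟩ := Fintype.card_pos_iff.1 (Nat.pos_of_ne_zero h2)
  have h3 : ((f n : N) : M) = n := congrArg Subtype.val hn
  refine ⟨n, n.2, ?_⟩
  have h4 : b' * n * b⁻¹ = n := h3
  exact mul_inv_eq_iff_eq_mul.1 h4

section X

variable (X : Type*) [Group X]

instance Sq_top_normal : (Sq (⊤ : Subgroup X)).Normal := Sq_normal

/-- `X / Φ(X)` -/
def VX : Type _ := X ⧸ Sq (⊤ : Subgroup X)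

instance commGroupVX : CommGroup (VX X) :=
  { (inferInstance : Group (X ⧸ Sq (⊤ : Subgroup X))) with
    mul_comm := by
      intro a b
      obtain ⟨x, rfl⟩ := QuotientGroup.mk_surjective (s := Sq (⊤ : Subgroup X)) a
      obtain ⟨y, rfl⟩ := QuotientGroup.mk_surjective (s := Sq (⊤ : Subgroup X)) b
      refine QuotientGroup.eq.2 ?_
      have h1 := comm_mem_Sq (mem_top y⁻¹) (mem_top x⁻¹)
      have h2 : (x * y)⁻¹ * (y * x) = y⁻¹ * x⁻¹ * (y⁻¹)⁻¹ * (x⁻¹)⁻¹ := by group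
      rw [h2]; exact h1 }

instance finiteVX [Finite X] : Finite (VX X) := inferInstanceAs (Finite (X ⧸ Sq (⊤ : Subgroup X)))

/-- the projection -/
def fX : X →* VX X := QuotientGroup.mk' (Sq (⊤ : Subgroup X))

variable {X}

theorem fX_surjective : Function.Surjective (fX X) := QuotientGroup.mk'_surjective _

theorem fX_eq {x y : X} : fX X x = fX X y ↔ x⁻¹ * y ∈ Sq (⊤ : Subgroup X) := QuotientGroup.eq

theorem fX_sq (v : VX X) : v * v = 1 := by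
  obtain ⟨x, rfl⟩ := fX_surjective v
  rw [← map_mul, ← map_one (fX X), fX_eq, mul_one, ← pow_two, inv_mem_iff]
  exact sq_mem_Sq (mem_top x)

theorem map_Sq_top (α : MulAut X) :
    (Sq (⊤ : Subgroup X)).map (α : X →* X) = Sq (⊤ : Subgroup X) := by
  rw [map_Sq, ← MonoidHom.range_eq_map]
  congr 1
  exact MonoidHom.range_eq_top.2 α.surjective

/-- the action on `X / Φ(X)` -/
def rX : MulAut X →* MulAut (VX X) where
  toFun α := QuotientGroup.congr (Sq (⊤ : Subgroup X)) (Sq (⊤ : Subgroup X)) α (map_Sq_top α)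
  map_one' := by
    refine MulEquiv.ext fun v => ?_
    obtain ⟨x, rfl⟩ := fX_surjective v
    rfl
  map_mul' α β := by
    refine MulEquiv.ext fun v => ?_
    obtain ⟨x, rfl⟩ := fX_surjective v
    rfl

theorem rX_apply (α : MulAut X) (x : X) : rX α (fX X x) = fX X (α x) := rfl

theorem rX_eq_one {α : MulAut X} : rX α = 1 ↔ ∀ x, x⁻¹ * α x ∈ Sq (⊤ : Subgroup X) := by
  constructor
  · intro h x
    rw [← fX_eq, ← rX_apply, h]
    rfl
  · intro h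
    refine MulEquiv.ext fun v => ?_
    obtain ⟨x, rfl⟩ := fX_surjective v
    rw [rX_apply]
    exact (fX_eq.2 (h x)).symm

theorem rX_conj (x : X) : rX (MulAut.conj x) = 1 := by
  rw [rX_eq_one]
  intro y
  rw [MulAut.conj_apply]
  have h1 := comm_mem_Sq (mem_top y⁻¹) (mem_top x)
  have h2 : y⁻¹ * (x * y * x⁻¹) = y⁻¹ * x * (y⁻¹)⁻¹ * x⁻¹ := by group
  rw [h2]; exact h1

theorem isPGroup_ker_rX [Finite X] (hX : IsPGroup 2 X) : IsPGroup 2 (rX (X := X)).ker := by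
  have key : ∀ κ : MulAut X, rX κ = 1 → ∀ r : ℕ, r.Prime → orderOf κ = r → r = 2 := by
    intro κ hκ r hr ho
    by_contra hr2
    have : Fact r.Prime := ⟨hr⟩
    have h1 : ∀ (n : ℕ) (x : X), (⇑(κ : X →* X))^[n] x = (κ ^ n) x := by
      intro n
      induction n with
      | zero => intro x; rfl
      | succ n ih =>
        intro x
        rw [Function.iterate_succ_apply', ih, pow_succ']
        rfl
    have h2 := eq_id_of_trivial_mod_Sq hX hr2 (κ : X →* X)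
      (fun x => by rw [h1, ← ho, pow_orderOf_eq_one]; rfl) (rX_eq_one.1 hκ)
    have h3 : κ = 1 := MulEquiv.ext h2
    rw [h3, orderOf_one] at ho
    exact hr.one_lt.ne ho
  rw [IsPGroup.iff_orderOf]
  rintro ⟨κ, hκ⟩
  rw [MonoidHom.mem_ker] at hκ
  have ho : orderOf (⟨κ, hκ⟩ : (rX (X := X)).ker) = orderOf κ := orderOf_mk κ hκ
  rw [ho]
  refine ⟨_, Nat.eq_prime_pow_of_unique_prime_dvd (orderOf_pos κ).ne' ?_⟩
  intro d hd hdvd
  have h1 : orderOf (κ ^ (orderOf κ / d)) = d := orderOf_pow_orderOf_div (orderOf_pos κ).ne' hdvd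
  exact key _ (by rw [map_pow, hκ, one_pow]) d hd h1

end X

theorem exists_order_three {X : Type*} [Group X] [Finite X] (hX : IsPGroup 2 X)
    (hV8 : (Sq (⊤ : Subgroup X)).index ≤ 8) {A B : Subgroup (MulAut X)} (hBA : B ≤ A)
    (hB : IsPGroup 2 B)
    (hTI : ∀ α ∈ A, ∀ β ∈ B, (∀ x, β ≠ MulAut.conj x) → α * β * α⁻¹ ∈ B → α ∈ B) (hAB : ¬ A ≤ B)
    (hBI : ∃ β ∈ B, ∀ x, β ≠ MulAut.conj x) :
    ∃ s ∈ B, ∃ b ∈ A, b ^ 3 = 1 ∧ b ≠ 1 ∧ s * b * s⁻¹ = b⁻¹ ∧ (∀ x, s ≠ MulAut.conj x) ∧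
      ∀ β ∈ B, (∃ x, β = MulAut.conj x) ∨ ∃ x, s⁻¹ * β = MulAut.conj x := by
  have : Fact (Nat.Prime 2) := ⟨Nat.prime_two⟩
  have : Fact (Nat.Prime 3) := ⟨Nat.prime_three⟩
  have hker := isPGroup_ker_rX hX
  obtain ⟨β₀, hβ₀, hβ₀I⟩ := hBI
  -- `K ≤ B`
  have hKB : ∀ κ ∈ A, rX κ = 1 → κ ∈ B := by
    have hM : IsPGroup 2 (B ⊔ (rX (X := X)).ker : Subgroup (MulAut X)) :=
      hB.to_sup_of_normal_right hker
    have hM' : IsPGroup 2 ((B ⊔ (rX (X := X)).ker) ⊓ A : Subgroup (MulAut X)) :=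
      hM.to_le inf_le_left
    have hBM : B ≤ (B ⊔ (rX (X := X)).ker) ⊓ A := le_inf le_sup_left hBA
    have heq : B = (B ⊔ (rX (X := X)).ker) ⊓ A := by
      by_contra hne
      obtain ⟨τ, hτ, hτB, hτn⟩ := exists_normalizing hM' hBM hne
      exact hτB (hTI τ hτ.2 β₀ hβ₀ hβ₀I (hτn β₀ hβ₀))
    intro κ hκ hκ1
    rw [heq]
    exact ⟨mem_sup_right hκ1, hκ⟩
  obtain ⟨α₀, hα₀, hα₀B⟩ := SetLike.not_le_iff_exists.1 hAB
  have hKI : ∀ κ ∈ A, rX κ = 1 → ∃ x, κ = MulAut.conj x := by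
    intro κ hκ hκ1
    by_contra hcon
    push Not at hcon
    apply hα₀B
    refine hTI α₀ hα₀ κ (hKB κ hκ hκ1) hcon (hKB _ (mul_mem (mul_mem hα₀ hκ) (inv_mem hα₀)) ?_)
    rw [map_mul, map_mul, map_inv, hκ1]; group
  obtain ⟨s', hs', hs'1, hs'2, hs'B, g', hg', hb3, hb1⟩ := exists_of_ti (A := A.map rX)
    (B := B.map rX) (fX_sq (X := X)) hV8 (map_mono hBA)
    (hB.map rX) (fun h => by
      have h1 : rX β₀ ∈ B.map rX := mem_map_of_mem rX hβ₀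
      rw [h, mem_bot] at h1
      obtain ⟨x, hx⟩ := hKI β₀ (hBA hβ₀) h1
      exact hβ₀I x hx) (fun h => by
      obtain ⟨β, hβ, hβα⟩ := h (mem_map_of_mem rX hα₀)
      apply hα₀B
      have h1 := hKB (β⁻¹ * α₀) (mul_mem (inv_mem (hBA hβ)) hα₀) (by
        rw [map_mul, map_inv, hβα, inv_mul_cancel])
      have := mul_mem hβ h1
      rwa [mul_inv_cancel_left] at this) (by
      rintro _ ⟨α, hα, rfl⟩ _ ⟨β, hβ, rfl⟩ hne ⟨β', hβ', hβ'e⟩
      refine mem_map_of_mem rX (hTI α hα β hβ ?_ ?_)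
      · rintro x rfl
        exact hne (rX_conj x)
      · have h1 := hKB (β'⁻¹ * (α * β * α⁻¹)) (mul_mem (inv_mem (hBA hβ')) (mul_mem (mul_mem hα
          (hBA hβ)) (inv_mem hα))) (by
          rw [map_mul, map_inv, hβ'e, map_mul, map_mul, map_inv, inv_mul_cancel])
        have := mul_mem hβ' h1
        rwa [mul_inv_cancel_left] at this)
  obtain ⟨s₀, hs₀, rfl⟩ := hs'
  obtain ⟨g₀, hg₀, rfl⟩ := hg'
  set b₀ := s₀ * (g₀ * s₀ * g₀⁻¹) with hb₀
  have hb₀A : b₀ ∈ A := mul_mem (hBA hs₀) (mul_mem (mul_mem hg₀ (hBA hs₀)) (inv_mem hg₀))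
  have hrb : rX b₀ = rX s₀ * (rX g₀ * rX s₀ * (rX g₀)⁻¹) := by
    rw [hb₀, map_mul, map_mul, map_mul, map_inv]
  rw [← hrb] at hb3 hb1
  have hs'i : (rX s₀)⁻¹ = rX s₀ := inv_eq_of_mul_eq_one_left hs'2
  have hrs : rX s₀ * (rX b₀)⁻¹ * (rX s₀)⁻¹ = rX b₀ := by
    rw [hrb]
    have h1 : (rX g₀ * rX s₀ * (rX g₀)⁻¹) * (rX g₀ * rX s₀ * (rX g₀)⁻¹) = 1 := by
      calc _ = rX g₀ * (rX s₀ * rX s₀) * (rX g₀)⁻¹ := by group
        _ = 1 := by rw [hs'2]; group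
    have h2 : (rX g₀ * rX s₀ * (rX g₀)⁻¹)⁻¹ = rX g₀ * rX s₀ * (rX g₀)⁻¹ :=
      inv_eq_of_mul_eq_one_left h1
    rw [mul_inv_rev, h2, hs'i]
    have h3 : rX s₀ * (rX g₀ * rX s₀ * (rX g₀)⁻¹ * rX s₀) * rX s₀ =
      rX s₀ * (rX g₀ * rX s₀ * (rX g₀)⁻¹) * (rX s₀ * rX s₀) := by group
    rw [h3, hs'2, mul_one]
  -- an element of order three
  obtain ⟨k, hk⟩ := hker ⟨b₀ ^ 3, by rw [MonoidHom.mem_ker, map_pow, hb3]⟩
  have hk' : (b₀ ^ 3) ^ 2 ^ k = 1 := congrArg Subtype.val hk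
  set b₁ := b₀ ^ 4 ^ k with hb₁
  have hb₁3 : b₁ ^ 3 = 1 := by
    rw [hb₁, ← pow_mul, mul_comm, show (4 : ℕ) = 2 * 2 by norm_num, mul_pow, ← mul_assoc, pow_mul,
      pow_mul, hk', one_pow]
  have hrb₁ : rX b₁ = rX b₀ := by
    rw [hb₁, map_pow]
    have h1 : ∀ n : ℕ, (rX b₀) ^ 4 ^ n = rX b₀ := by
      intro n
      induction n with
      | zero => simp
      | succ n ih =>
        rw [pow_succ 4 n, pow_mul, ih, show (4 : ℕ) = 3 + 1 by norm_num, pow_add, hb3, one_mul,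
          pow_one]
    exact h1 k
  have hb₁A : b₁ ∈ A := pow_mem hb₀A _
  have hb₁1 : b₁ ≠ 1 := by
    intro h
    apply hb1
    rw [← hrb₁, h, map_one]
  -- adjust `s₀`
  let K : Subgroup (MulAut X) := (rX (X := X)).ker ⊓ A
  have hK : ∀ κ, κ ∈ K ↔ rX κ = 1 ∧ κ ∈ A := fun _ => Iff.rfl
  have hKp : IsPGroup 2 K := hker.to_le inf_le_left
  have hcop : ¬ 3 ∣ Nat.card K := by
    obtain ⟨n, hn⟩ := IsPGroup.iff_card.1 hKp
    rw [hn]
    intro h
    have := Nat.Prime.dvd_of_dvd_pow Nat.prime_three h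
    omega
  have hs₀A := hBA hs₀
  obtain ⟨x, hxK, hx⟩ := exists_conj_of_coset (r := 3) (b := b₁) (b' := s₀ * b₁⁻¹ * s₀⁻¹) hb₁3
    (by rw [conj_pow, inv_pow, hb₁3]; group) K (fun n hn => by
      rw [hK] at hn ⊢
      refine ⟨?_, mul_mem (mul_mem hb₁A hn.2) (inv_mem hb₁A)⟩
      rw [map_mul, map_mul, map_inv, hn.1]; group) hcop (by
      rw [hK]
      refine ⟨?_, mul_mem (mul_mem (mul_mem hs₀A (inv_mem hb₁A)) (inv_mem hs₀A)) (inv_mem hb₁A)⟩
      rw [map_mul, map_mul, map_mul, map_inv, map_inv, hrb₁, hrs, mul_inv_cancel])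
  have hxA := ((hK x).1 hxK).2
  have hx1 := ((hK x).1 hxK).1
  have hxB := hKB x hxA hx1
  have hrs' : rX (x⁻¹ * s₀) = rX s₀ := by rw [map_mul, map_inv, hx1, inv_one, one_mul]
  refine ⟨x⁻¹ * s₀, mul_mem (inv_mem hxB) hs₀, b₁, hb₁A, hb₁3, hb₁1, ?_, ?_, ?_⟩
  · have h1 : x⁻¹ * (s₀ * b₁⁻¹ * s₀⁻¹) * x = b₁ := by rw [mul_assoc, hx]; group
    have h2 : x⁻¹ * s₀ * b₁ * (x⁻¹ * s₀)⁻¹ = (x⁻¹ * (s₀ * b₁⁻¹ * s₀⁻¹) * x)⁻¹ := by group
    rw [h2, h1]
  · intro y hy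
    apply hs'1
    rw [← hrs', hy, rX_conj]
  · intro β hβ
    rcases hs'B (rX β) (mem_map_of_mem rX hβ) with h | h
    · exact Or.inl (hKI β (hBA hβ) h)
    · refine Or.inr (hKI _ (mul_mem (inv_mem (mul_mem (inv_mem hxA) hs₀A)) (hBA hβ)) ?_)
      rw [map_mul, map_inv, hrs', h, inv_mul_cancel]

end Cfsg.Agent.H774
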