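import Cfsg.Agent.H802.FusAlp
import Cfsg.Agent.H774.Lift
import Cfsg.Agent.H774.DatE

/-!
# A noninner saturated fusion system on a bicyclic 2-group gives the data `Dat` (helper774)
-/

set_option autoImplicit false
set_option linter.unusedSectionVars false

namespace Cfsg.Agent.H774

open Subgroup Cfsg Cfsg.FusionSystem Cfsg.Agent.H802

theorem index_Sq_top {G : Type*} [Group G] (H : Subgroup G) :
    (Sq (⊤ : Subgroup H)).index = (Sq H).relIndex H := by
  have h1 : (Sq (⊤ : Subgroup H)).map H.subtype = Sq H := by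
    rw [map_Sq, ← MonoidHom.range_eq_map, range_subtype]
  rw [relIndex, subgroupOf, ← h1, comap_map_eq_self_of_injective H.subtype_injective]

theorem index_Sq_equiv {X Y : Type*} [Group X] [Group Y] (e : X ≃* Y) :
    (Sq (⊤ : Subgroup X)).index = (Sq (⊤ : Subgroup Y)).index := by
  have h1 : (Sq (⊤ : Subgroup X)).map (e : X →* Y) = Sq (⊤ : Subgroup Y) := by
    rw [map_Sq, ← MonoidHom.range_eq_map]
    congr 1
    exact MonoidHom.range_eq_top.2 e.surjective
  rw [← h1]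
  exact (index_map_equiv _ e).symm

variable {Ω : Type*} [Group Ω] {S : Subgroup Ω}

/-- A subgroup `Q` fully normalized centric, with automorphism group not induced by `S`, all maps with larger
source being inner. -/
theorem exists_bad [Finite S] (hS : IsPGroup 2 S) {F : FusionSystem S} (hF : F.IsSaturated 2)
    (hne : ¬ ∀ P : Subgroup Ω, F.Hom P = (innerFusionSystem S).Hom P) :
    ∃ Q : Subgroup Ω, F.IsFullyNormalized Q ∧ F.IsCentric Q ∧
      (∀ R : Subgroup Ω, Nat.card Q < Nat.card R → F.Hom R ⊆ (innerFusionSystem S).Hom R) ∧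
      ¬ F.autGroup Q ≤ autInducedBy S Q := by
  have : Fact (Nat.Prime 2) := ⟨Nat.prime_two⟩
  by_contra hcon
  push Not at hcon
  apply hne
  intro P
  apply Set.Subset.antisymm
  · refine le_of_centric hS hF (innerFusionSystem S) (fun Q hQ hQc hR => ?_) P
    exact (hcon Q hQ hQc hR).trans (autInducedBy_le_autGroup _ hQ.1)
  · rintro φ ⟨hP, g, hg, h⟩
    have h1 := F.conj_mem hP hg
    have : φ = conjHom P g := MonoidHom.ext fun x => h x
    rw [this]
    exact h1

theorem exists_dat [Finite S] (hS : IsPGroup 2 S) (A : Amb S)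
    (hAut : ∀ r : ℕ, r.Prime → r ≠ 2 → ∀ β : S →* S, (∀ q, β^[r] q = q) → ∀ q, β q = q)
    {F : FusionSystem S} (hF : F.IsSaturated 2)
    (hne : ¬ ∀ P : Subgroup Ω, F.Hom P = (innerFusionSystem S).Hom P) :
    ∃ (Q : Subgroup S) (t : S) (b : S → S), Dat Q t b := by
  classical
  have : Fact (Nat.Prime 2) := ⟨Nat.prime_two⟩
  obtain ⟨Q, hQn, hQc, hbig, hAB⟩ := exists_bad hS hF hne
  have hQS := hQn.1
  have hfinQ : Finite Q := finite_of_le hQS
  have hcen : centralizerIn S Q ≤ Q := hQc.2 Q (isConj_refl F hQS)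
  have hXp : IsPGroup 2 Q := hS.to_le hQS
  have hrec := isReceptive_of_isFullyNormalized hS hF hQn
  -- `Q ≠ S`
  have hQne : Q ≠ S := by
    rintro rfl
    obtain ⟨-, R, hR⟩ := isFullyAutomized_of_isFullyNormalized hS hF hQn
    have hp : IsPGroup 2 (F.autGroup Q) := by
      rw [IsPGroup.iff_orderOf]
      rintro ⟨κ, hκ⟩
      rw [orderOf_mk κ hκ]
      refine ⟨_, Nat.eq_prime_pow_of_unique_prime_dvd (orderOf_pos κ).ne' ?_⟩
      intro d hd hdvd
      by_contra hd2
      have h1 : orderOf (κ ^ (orderOf κ / d)) = d := orderOf_pow_orderOf_div (orderOf_pos κ).ne' hdvd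
      set κ' := κ ^ (orderOf κ / d) with hκ'
      have h2 : ∀ (n : ℕ) (x : Q), (⇑(κ' : Q →* Q))^[n] x = (κ' ^ n) x := by
        intro n
        induction n with
        | zero => intro x; rfl
        | succ n ih =>
          intro x
          rw [Function.iterate_succ_apply', ih, pow_succ']
          rfl
      have h3 := hAut d hd hd2 (κ' : Q →* Q) (fun x => by
        rw [h2, ← h1, pow_orderOf_eq_one]; rfl)
      have h4 : κ' = 1 := MulEquiv.ext h3
      rw [h4, orderOf_one] at h1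
      exact hd.one_lt.ne h1
    have hRt : (R : Subgroup (F.autGroup Q)) = ⊤ := by
      obtain ⟨n, hn⟩ := IsPGroup.iff_card.1 hp
      have h5 := R.card_eq_multiplicity
      rw [hn, Nat.Prime.factorization_pow Nat.prime_two, Finsupp.single_eq_same] at h5
      exact eq_top_of_card_eq _ (h5.trans hn.symm)
    apply hAB
    rw [hRt] at hR
    exact subgroupOf_eq_top.1 hR.symm
  -- index
  have hV8 : (Sq (⊤ : Subgroup Q)).index ≤ 8 := by
    rw [← index_Sq_equiv (subgroupOfEquivOfLe hQS), index_Sq_top]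
    refine A.relIndex_Sq_le_eight fun h => hQne ?_
    rw [subgroupOf_eq_top] at h
    exact le_antisymm hQS h
  -- inner automorphisms
  have hcenel : ∀ g ∈ S, (∀ x ∈ Q, g * x = x * g) → g ∈ Q := fun g hg h =>
    hcen ⟨hg, mem_centralizer_iff.2 fun x hx => (h x hx).symm⟩
  have hinner : ∀ (g : Ω), g ∈ S → ∀ α : MulAut Q, (∀ x : Q, ((α x : Q) : Ω) = g * (x : Ω) * g⁻¹) →
      ∀ y : Q, α = MulAut.conj y → (y : Ω)⁻¹ * g ∈ S ∧ g ∈ Q := by
    intro g hg α hα y hy
    have h1 : ∀ x ∈ Q, ((y : Ω)⁻¹ * g) * x = x * ((y : Ω)⁻¹ * g) := by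
      intro x hx
      have h2 : g * x * g⁻¹ = (y : Ω) * x * (y : Ω)⁻¹ := by
        rw [← hα ⟨x, hx⟩, hy]; rfl
      calc (y : Ω)⁻¹ * g * x = (y : Ω)⁻¹ * (g * x * g⁻¹) * g := by group
        _ = (y : Ω)⁻¹ * ((y : Ω) * x * (y : Ω)⁻¹) * g := by rw [h2]
        _ = _ := by group
    have h3 : (y : Ω)⁻¹ * g ∈ S := mul_mem (inv_mem (hQS y.2)) hg
    have h4 := hcenel _ h3 h1
    refine ⟨h3, ?_⟩
    have := mul_mem y.2 h4
    rwa [mul_inv_cancel_left] at this
  have hBp : IsPGroup 2 (autInducedBy S Q) := isPGroup_autInducedBy hS Q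
  have hTI : ∀ α ∈ F.autGroup Q, ∀ β ∈ autInducedBy S Q, (∀ x, β ≠ MulAut.conj x) →
      α * β * α⁻¹ ∈ autInducedBy S Q → α ∈ autInducedBy S Q := by
    intro α hα β hβ hβI hαβ
    obtain ⟨g, hg, hgβ⟩ := (mem_autInducedBy_iff S Q β).1 hβ
    obtain ⟨h, hh, hhβ⟩ := (mem_autInducedBy_iff S Q _).1 hαβ
    have hgN := mem_normalizer_of_aut hgβ
    have hgQ : g ∉ Q := by
      intro hgQ
      refine hβI ⟨g, hgQ⟩ (MulEquiv.ext fun x => Subtype.ext ?_)
      rw [hgβ]; rfl
    have hφ := (mem_autGroup_iff F hQS α).1 hα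
    set φ := Q.subtype.comp α.toMonoidHom with hφd
    have hφx : ∀ x : Q, φ x = (α x : Q) := fun _ => rfl
    have hr : φ.range = Q := range_eq_of_mapsTo hφ (fun x => (α x).2)
    obtain ⟨ψ, hψ, hψe⟩ := hrec.2 Q φ hφ hr
    have hQE : Q ≤ extender S Q φ := le_extender hQS (hom_apply_mem hφ)
    have hgE : g ∈ extender S Q φ := by
      rw [mem_extender_iff]
      refine ⟨hg, hgN, h, hh, fun x hx => ?_⟩
      have h1 : (⟨g * (x : Ω) * g⁻¹, hx⟩ : Q) = β x := Subtype.ext (hgβ x).symm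
      rw [h1, hφx, hφx]
      have h2 := hhβ (α x)
      rw [MulAut.mul_apply, MulAut.mul_apply, MulAut.inv_apply_self] at h2
      exact h2
    have hfinE : Finite (extender S Q φ) := finite_of_le (extender_le S Q φ)
    have hlt : Nat.card Q < Nat.card (extender S Q φ) := by
      have h1 := two_mul_card_le (V := S) (H := Q.subgroupOf S) (K := (extender S Q φ).subgroupOf S)
        (comap_mono hQE) (x := ⟨g, hg⟩) (mem_subgroupOf.2 hgE) (fun h => hgQ (mem_subgroupOf.1 h))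
      have h2 : Nat.card (Q.subgroupOf S) = Nat.card Q :=
        Nat.card_congr (subgroupOfEquivOfLe hQS).toEquiv
      have h3 : Nat.card ((extender S Q φ).subgroupOf S) = Nat.card (extender S Q φ) :=
        Nat.card_congr (subgroupOfEquivOfLe (extender_le S Q φ)).toEquiv
      rw [h2, h3] at h1
      have h4 : 0 < Nat.card Q := Nat.card_pos
      omega
    obtain ⟨-, k, hk, hkψ⟩ := hbig _ hlt hψ
    refine (mem_autInducedBy_iff S Q α).2 ⟨k, hk, fun x => ?_⟩
    rw [← hφx, ← hψe x x.2 (hQE x.2), hkψ]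
  have hBI : ∃ β ∈ autInducedBy S Q, ∀ x, β ≠ MulAut.conj x := by
    have h1 := card_lt_card_normalizerIn hS hQS hQne
    obtain ⟨g, hg, hgQ⟩ : ∃ g ∈ normalizerIn S Q, g ∉ Q := by
      by_contra hall
      push Not at hall
      have h2 : normalizerIn S Q ≤ Q := hall
      have := card_le_of_le h2
      omega
    obtain ⟨β, hβ⟩ := exists_conjAut hg.2
    refine ⟨β, (mem_autInducedBy_iff S Q β).2 ⟨g, hg.1, hβ⟩, fun x hx => hgQ ?_⟩
    exact (hinner g hg.1 β hβ x hx).2
  obtain ⟨s, hsB, β, hβA, hβ3, hβ1, hsβ, hsI, hBs⟩ := exists_order_three hXp hV8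
    (autInducedBy_le_autGroup F hQS) hBp hTI hAB hBI
  obtain ⟨t, ht, hts⟩ := (mem_autInducedBy_iff S Q s).1 hsB
  have htQ : t ∉ Q := by
    intro h
    refine hsI ⟨t, h⟩ (MulEquiv.ext fun x => Subtype.ext ?_)
    rw [hts]; rfl
  let b : S → S := fun x => if h : (x : Ω) ∈ Q then ⟨β ⟨x, h⟩, hQS (β ⟨x, h⟩).2⟩ else 1
  have hb : ∀ (x : S) (h : (x : Ω) ∈ Q), b x = ⟨β ⟨x, h⟩, hQS (β ⟨x, h⟩).2⟩ := fun x h => dif_pos h
  have hbQ : ∀ (x : S) (h : (x : Ω) ∈ Q), ((b x : S) : Ω) ∈ Q := fun x h => by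
    rw [hb x h]; exact (β ⟨x, h⟩).2
  have hbv : ∀ (x : S) (h : (x : Ω) ∈ Q), ((b x : S) : Ω) = β ⟨x, h⟩ := fun x h => by rw [hb x h]
  have hbb : ∀ (x : S) (h : (x : Ω) ∈ Q), ((b (b x) : S) : Ω) = β (β ⟨x, h⟩) := fun x h => by
    rw [hbv _ (hbQ x h)]
    congr 2
    exact Subtype.ext (hbv x h)
  have hbbb : ∀ (x : S) (h : (x : Ω) ∈ Q), ((b (b (b x)) : S) : Ω) = β (β (β ⟨x, h⟩)) := fun x h => by
    rw [hbv _ (hbQ _ (hbQ x h))]
    congr 2
    exact Subtype.ext (hbb x h)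
  have hβx : ∀ x : Q, β (β (β x)) = x := fun x => by
    have h1 := DFunLike.congr_fun hβ3 x
    have h2 : (β ^ 3) x = β (β (β x)) := rfl
    rw [← h2, h1]; rfl
  refine ⟨Q.subgroupOf S, ⟨t, ht⟩, b, ?_⟩
  exact
    { bQ := fun q hq => mem_subgroupOf.2 (hbQ q (mem_subgroupOf.1 hq))
      bmul := fun p hp q hq => by
        have hp' := mem_subgroupOf.1 hp
        have hq' := mem_subgroupOf.1 hq
        have hpq' : ((p * q : S) : Ω) ∈ Q := mul_mem hp' hq'
        apply Subtype.ext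
        rw [coe_mul, hbv _ hp', hbv _ hq', hbv _ hpq', ← coe_mul, ← map_mul]
        rfl
      b3 := fun q hq => by
        have hq' := mem_subgroupOf.1 hq
        apply Subtype.ext
        rw [hbbb q hq', hβx]
      bne := by
        by_contra hall
        push Not at hall
        apply hβ1
        refine MulEquiv.ext fun x => Subtype.ext ?_
        have h1 := congrArg Subtype.val (hall ⟨x, hQS x.2⟩ (mem_subgroupOf.2 x.2))
        rw [hbv _ x.2] at h1
        exact h1
      cen := fun g hg => mem_subgroupOf.2 (hcenel g g.2 (fun x hx =>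
        congrArg Subtype.val (hg ⟨x, hQS hx⟩ (mem_subgroupOf.2 hx))))
      tQ := fun h => htQ (mem_subgroupOf.1 h)
      tN := fun q hq => by
        have hq' := mem_subgroupOf.1 hq
        have h1 := hts ⟨q, hq'⟩
        rw [mem_subgroupOf]
        have h2 : ((⟨t, ht⟩ * q * (⟨t, ht⟩ : S)⁻¹ : S) : Ω) = t * q * t⁻¹ := rfl
        rw [h2, ← h1]
        exact (s _).2
      norm := fun g hg => by
        have hgN : (g : Ω) ∈ normalizer (Q : Set Ω) := by
          have h1 : g ∈ normalizer ((Q.subgroupOf S : Subgroup S) : Set S) :=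
            mem_normalizer_of_conj hg
          rw [mem_normalizer_iff]
          intro x
          constructor
          · intro hx
            exact mem_subgroupOf.1 ((mem_normalizer_iff.1 h1 ⟨x, hQS hx⟩).1 (mem_subgroupOf.2 hx))
          · intro hx
            have hxS : x ∈ S := by
              have h2 := mul_mem (mul_mem (inv_mem g.2) (hQS hx)) g.2
              have h3 : (g : Ω)⁻¹ * (g * x * (g : Ω)⁻¹) * g = x := by group
              rwa [h3] at h2
            exact mem_subgroupOf.1 ((mem_normalizer_iff.1 h1 ⟨x, hxS⟩).2 (mem_subgroupOf.2 hx))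
        obtain ⟨γ, hγ⟩ := exists_conjAut hgN
        rcases hBs γ ((mem_autInducedBy_iff S Q γ).2 ⟨g, g.2, hγ⟩) with ⟨y, hy⟩ | ⟨y, hy⟩
        · exact Or.inl (mem_subgroupOf.2 (hinner g g.2 γ hγ y hy).2)
        · refine Or.inr (mem_subgroupOf.2 ?_)
          have h1 : ∀ x : Q, (((s⁻¹ * γ) x : Q) : Ω) = (t⁻¹ * g) * (x : Ω) * (t⁻¹ * (g : Ω))⁻¹ := by
            intro x
            have h2 := hts ((s⁻¹ * γ) x)
            have h3 : s ((s⁻¹ * γ) x) = γ x := by
              rw [MulAut.mul_apply, MulAut.apply_inv_self]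
            rw [h3, hγ] at h2
            calc (((s⁻¹ * γ) x : Q) : Ω) = t⁻¹ * (t * (((s⁻¹ * γ) x : Q) : Ω) * t⁻¹) * t := by group
              _ = t⁻¹ * (g * (x : Ω) * (g : Ω)⁻¹) * t := by rw [← h2]
              _ = _ := by group
          exact (hinner _ (mul_mem (inv_mem ht) g.2) _ h1 y hy).2
      bt := fun q hq => by
        have hq' := mem_subgroupOf.1 hq
        -- `t⁻¹ q t`
        have h1 : ((s⁻¹ ⟨q, hq'⟩ : Q) : Ω) = t⁻¹ * q * t := by
          have h2 := hts (s⁻¹ ⟨q, hq'⟩)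
          rw [MulAut.apply_inv_self] at h2
          calc ((s⁻¹ ⟨q, hq'⟩ : Q) : Ω) = t⁻¹ * (t * ((s⁻¹ ⟨q, hq'⟩ : Q) : Ω) * t⁻¹) * t := by group
            _ = t⁻¹ * ((⟨(q : Ω), hq'⟩ : Q) : Ω) * t := by rw [← h2]
            _ = _ := rfl
        have h3 : (((⟨t, ht⟩ : S)⁻¹ * q * ⟨t, ht⟩ : S) : Ω) ∈ Q := by
          have : (((⟨t, ht⟩ : S)⁻¹ * q * ⟨t, ht⟩ : S) : Ω) = t⁻¹ * q * t := rfl
          rw [this, ← h1]
          exact (s⁻¹ _).2
        apply Subtype.ext
        rw [hbb q hq']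
        have h4 : ((⟨t, ht⟩ * b ((⟨t, ht⟩ : S)⁻¹ * q * ⟨t, ht⟩) * (⟨t, ht⟩ : S)⁻¹ : S) : Ω) =
            t * (b ((⟨t, ht⟩ : S)⁻¹ * q * ⟨t, ht⟩) : S) * t⁻¹ := rfl
        rw [h4, hbv _ h3]
        have h5 : (⟨(((⟨t, ht⟩ : S)⁻¹ * q * ⟨t, ht⟩ : S) : Ω), h3⟩ : Q) = s⁻¹ ⟨q, hq'⟩ :=
          Subtype.ext h1.symm
        rw [h5, ← hts]
        have h6 : s * β * s⁻¹ = β * β := by
          rw [hsβ]
          refine inv_eq_of_mul_eq_one_left ?_
          rw [← hβ3]
          simp only [pow_succ, pow_zero, one_mul]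
        have h7 := DFunLike.congr_fun h6 (⟨q, hq'⟩ : Q)
        exact congrArg Subtype.val h7 }

/-- **(⇒)** -/
theorem isCyclic_of_noninner [Finite S] (hS : IsPGroup 2 S)
    (hb : ∃ x y : S, ∀ g : S, ∃ i j : ℤ, g = x ^ i * y ^ j) (hm : ¬ Cfsg.IsMetacyclic S)
    {F : FusionSystem S} (hF : F.IsSaturated 2)
    (hne : ¬ ∀ P : Subgroup Ω, F.Hom P = (innerFusionSystem S).Hom P) :
    IsCyclic (_root_.commutator S) := by
  obtain ⟨x, y, hxy⟩ := hb
  have A := amb_of_bicyclic hS hxy hm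
  obtain ⟨Q, t, b, D⟩ := exists_dat hS A (fun r hr hr2 β hβ => by
    have : Fact r.Prime := ⟨hr⟩
    exact aut_trivial hS hxy hm hr2 β hβ) hF hne
  exact D.isCyclic_commutator A

end Cfsg.Agent.H774
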