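import Cfsg.Agent.H774.BicyclicB

/-!
# Automorphisms of odd prime order of 2-groups (helper774)

* `exists_fixed_of_coset` : an invariant coset of an invariant subgroup contains a fixed point.
* `eq_one_of_trivial_mod_Sq` : Burnside.
* `isMetacyclic_of_order_three` : a 2-group `R = ⟨g, β g⟩` with `β ^ 3 = 1`, acting irreducibly on `R / Φ(R)` and with
  `Φ(R)` metacyclic is metacyclic.
-/

set_option autoImplicit false

namespace Cfsg.Agent.H774

open Subgroup Cfsg.Agent.OddOrderLocal.Metacyclic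
open scoped commutatorElement

theorem exists_fixed_of_coset {Q : Type*} [Group Q] {r : ℕ} [hr : Fact r.Prime] (β : Q →* Q)
    (hβ : ∀ q, β^[r] q = q) (N : Subgroup Q) [Finite N] (hN : ∀ n ∈ N, β n ∈ N)
    (hcop : ¬ r ∣ Nat.card N) (q : Q) (hq : q⁻¹ * β q ∈ N) : ∃ c, β c = c ∧ q⁻¹ * c ∈ N := by
  classical
  let f : Function.End N := fun n => ⟨q⁻¹ * β (q * n), by
    rw [map_mul, ← mul_assoc]; exact N.mul_mem hq (hN n n.2)⟩
  have hf : ∀ (k : ℕ) (n : N), (((f ^ k) n : N) : Q) = q⁻¹ * β^[k] (q * n) := by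
    intro k
    induction k with
    | zero =>
      intro n
      rw [pow_zero]
      show (n : Q) = _
      simp
    | succ k ih =>
      intro n
      rw [pow_succ' f k, Function.iterate_succ_apply']
      show q⁻¹ * β (q * ((f ^ k) n : N)) = _
      rw [ih, mul_inv_cancel_left]
  have hfr : f ^ r ^ 1 = 1 := by
    funext n
    apply Subtype.ext
    rw [pow_one, hf, hβ, inv_mul_cancel_left]
    rfl
  have := Fintype.ofFinite N
  have h1 := Equiv.Perm.card_fixedPoints_modEq hfr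
  have h2 : Fintype.card f.fixedPoints ≠ 0 := by
    intro h0
    rw [h0] at h1
    apply hcop
    rw [Nat.card_eq_fintype_card]
    exact (Nat.modEq_zero_iff_dvd).1 h1
  obtain ⟨⟨n, hn⟩⟩ := Fintype.card_pos_iff.1 (Nat.pos_of_ne_zero h2)
  have h3 : ((f n : N) : Q) = n := congrArg Subtype.val hn
  refine ⟨q * n, ?_, by rw [inv_mul_cancel_left]; exact n.2⟩
  have h4 : q⁻¹ * β (q * n) = n := h3
  rw [inv_mul_eq_iff_eq_mul] at h4
  exact h4

theorem not_dvd_card {Q : Type*} [Group Q] [Finite Q] (hQ : IsPGroup 2 Q) {r : ℕ} [hr : Fact r.Prime]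
    (hr2 : r ≠ 2) (N : Subgroup Q) : ¬ r ∣ Nat.card N := by
  have : Fact (Nat.Prime 2) := ⟨Nat.prime_two⟩
  obtain ⟨n, hn⟩ := IsPGroup.iff_card.1 (hQ.to_subgroup N)
  rw [hn]
  intro h
  exact hr2 ((Nat.prime_dvd_prime_iff_eq hr.out Nat.prime_two).1 (hr.out.dvd_of_dvd_pow h))

/-- **Burnside**. -/
theorem eq_id_of_trivial_mod_Sq {Q : Type*} [Group Q] [Finite Q] (hQ : IsPGroup 2 Q) {r : ℕ}
    [hr : Fact r.Prime] (hr2 : r ≠ 2) (β : Q →* Q) (hβ : ∀ q, β^[r] q = q)
    (h : ∀ q, q⁻¹ * β q ∈ Sq (⊤ : Subgroup Q)) (q : Q) : β q = q := by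
  let C : Subgroup Q := β.eqLocus (MonoidHom.id Q)
  have hC : C = ⊤ := by
    refine eq_of_le_sup_Sq (hQ.to_subgroup ⊤) le_top ?_
    intro q _
    obtain ⟨c, hc, hcq⟩ := exists_fixed_of_coset β hβ (Sq ⊤)
      (fun n hn => apply_mem_Sq (fun _ _ => mem_top _) (fun x _ y _ => map_mul β x y) hn)
      (not_dvd_card hQ hr2 _) q (h q)
    have h1 : q = c * (q⁻¹ * c)⁻¹ := by group
    rw [h1]
    exact mul_mem (mem_sup_left hc) (mem_sup_right (inv_mem hcq))
  have h2 : q ∈ C := hC ▸ mem_top q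
  exact h2

theorem order_three_aux {H : Type*} [Group H] [Finite H] (hH : IsPGroup 2 H) (β : H →* H)
    (hβ : ∀ h, β (β (β h)) = h) (g : H) (hgen : Subgroup.closure {g, β g} = ⊤)
    (h1 : g * β g * β (β g) ∈ Sq (⊤ : Subgroup H)) (hM : Cfsg.IsMetacyclic (Sq (⊤ : Subgroup H)))
    {z : H} (hz : z = g * β g * g⁻¹ * (β g)⁻¹) (hcen : ∀ c, Commute c z) (hsq : z ^ 2 = 1) :
    Cfsg.IsMetacyclic H := by
  classical
  have hzn : (zpowers z).Normal := by
    refine ⟨?_⟩
    rintro _ ⟨k, rfl⟩ g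
    show g * z ^ k * g⁻¹ ∈ zpowers z
    rw [((hcen g).zpow_right k).eq, mul_inv_cancel_right]
    exact ⟨k, rfl⟩
  have hcomm : ∀ a b : H, a * b * a⁻¹ * b⁻¹ ∈ zpowers z :=
    comm_mem_of_closure hgen (by rw [← hz]; exact mem_zpowers z)
  by_cases hz1 : z = 1
  · refine isMetacyclic_of_comm_mem g (β g) (fun a b => ?_) hgen
    have := hcomm a b
    rw [hz1, zpowers_one_eq_bot, mem_bot] at this
    rw [this]; exact one_mem _
  have hzz : ∀ n : ℤ, z ^ (2 * n) = 1 := by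
    intro n
    rw [zpow_mul]
    have : z ^ (2 : ℤ) = 1 := by exact_mod_cast hsq
    rw [this, one_zpow]
  have hzk : ∀ e ∈ zpowers z, e = 1 ∨ e = z := by
    rintro _ ⟨k, rfl⟩
    rcases Int.even_or_odd k with ⟨s, hs⟩ | ⟨s, hs⟩
    · left
      show z ^ k = 1
      rw [hs, ← two_mul, hzz]
    · right
      show z ^ k = z
      rw [hs, zpow_add, hzz, one_mul, zpow_one]
  have hβz : β z = z := by
    have h2 : β z ∈ zpowers z := by
      have : β z = β g * β (β g) * (β g)⁻¹ * (β (β g))⁻¹ := by rw [hz]; simp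
      rw [this]; exact hcomm _ _
    rcases hzk _ h2 with h3 | h3
    · exfalso
      apply hz1
      rw [← hβ z, h3, map_one, map_one]
    · exact h3
  -- squares are central
  have hsqc : ∀ h c : H, Commute c (h ^ 2) := by
    intro h c
    have h2 : c * h * c⁻¹ * h⁻¹ ∈ zpowers z := hcomm c h
    obtain ⟨k, hk⟩ := h2
    have hk' : z ^ k = c * h * c⁻¹ * h⁻¹ := hk
    have h3 : c * h * c⁻¹ = z ^ k * h := by rw [hk']; group
    have h4 : c * h ^ 2 * c⁻¹ = h ^ 2 := by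
      rw [← conj_pow, h3, ((hcen h).symm.zpow_left k).mul_pow, ← zpow_natCast, ← zpow_mul]
      have : z ^ (k * ((2 : ℕ) : ℤ)) = 1 := by rw [← hzz k]; congr 1; push_cast; ring
      rw [this, one_mul]
    exact mul_inv_eq_iff_eq_mul.1 h4
  have hZ : ∀ ζ ∈ Sq (⊤ : Subgroup H), ∀ c, Commute c ζ := by
    have : Sq (⊤ : Subgroup H) ≤ center H := by
      rw [Sq_le_iff]
      intro h _
      rw [mem_center_iff]
      exact fun c => hsqc h c
    intro ζ hζ c
    exact mem_center_iff.1 (this hζ) c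
  have hzZ : z ∈ Sq (⊤ : Subgroup H) := by
    rw [hz]; exact comm_mem_Sq (mem_top _) (mem_top _)
  have hβZ : ∀ ζ ∈ Sq (⊤ : Subgroup H), β ζ ∈ Sq (⊤ : Subgroup H) := fun ζ hζ =>
    apply_mem_Sq (fun _ _ => mem_top _) (fun x _ y _ => map_mul β x y) hζ
  -- `β` fixes the involutions
  have hE : ∀ e ∈ Sq (⊤ : Subgroup H), e ^ 2 = 1 → β e = e := by
    intro e he he2
    by_contra hne
    let E : Subgroup H :=
      { carrier := {e | e ∈ Sq (⊤ : Subgroup H) ∧ e ^ 2 = 1}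
        one_mem' := ⟨one_mem _, one_pow 2⟩
        mul_mem' := by
          rintro a b ⟨ha, ha2⟩ ⟨hb, hb2⟩
          exact ⟨mul_mem ha hb, by rw [((hZ b hb a)).mul_pow, ha2, hb2, one_mul]⟩
        inv_mem' := by
          rintro a ⟨ha, ha2⟩
          exact ⟨inv_mem ha, by rw [inv_pow, ha2, inv_one]⟩ }
    have hEZ : E ≤ Sq ⊤ := fun x hx => hx.1
    have hEc : Nat.card E ≤ 4 := card_le_four (isMetacyclic_of_le hM hEZ)
      (fun x => Subtype.ext x.2.2)
    have hEβ : ∀ x ∈ E, β x ∈ E := fun x hx =>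
      ⟨hβZ x hx.1, by rw [← map_pow, hx.2, map_one]⟩
    have heE : e ∈ E := ⟨he, he2⟩
    have hzE : z ∈ E := ⟨hzZ, hsq⟩
    let F : Finset H := {1, z, e, β e, β (β e)}
    have hinj : ∀ a b, β a = β b → a = b := by
      intro a b hab
      rw [← hβ a, hab, hβ b]
    have he1 : e ≠ 1 := by rintro rfl; exact hne (map_one β)
    have hez : e ≠ z := by rintro rfl; exact hne hβz
    have hFc : F.card = 5 := by
      have a1 : (1 : H) ≠ z := fun h => hz1 h.symm
      have a2 : (1 : H) ≠ e := fun h => he1 h.symm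
      have a3 : (1 : H) ≠ β e := by
        intro h
        exact he1 (hinj e 1 (by rw [← h, map_one]))
      have a4 : (1 : H) ≠ β (β e) := by
        intro h
        exact a3 (hinj 1 (β e) (by rw [← h, map_one]))
      have a5 : z ≠ e := fun h => hez h.symm
      have a6 : z ≠ β e := by
        intro h
        exact a5 (hinj z e (by rw [← h, hβz]))
      have a7 : z ≠ β (β e) := by
        intro h
        exact a6 (hinj z (β e) (by rw [← h, hβz]))
      have a8 : e ≠ β e := fun h => hne h.symm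
      have a9 : e ≠ β (β e) := by
        intro h
        apply hne
        calc β e = β (β (β e)) := by rw [← h]
          _ = e := hβ e
      have a10 : β e ≠ β (β e) := fun h => a8 (hinj _ _ h)
      simp only [F]
      rw [Finset.card_insert_of_notMem (by simp [a1, a2, a3, a4]),
        Finset.card_insert_of_notMem (by simp [a5, a6, a7]),
        Finset.card_insert_of_notMem (by simp [a8, a9]),
        Finset.card_insert_of_notMem (by simp [a10]), Finset.card_singleton]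
    have hFE : (F : Set H) ⊆ (E : Set H) := by
      intro x hx
      simp only [F, Finset.coe_insert, Finset.coe_singleton, Set.mem_insert_iff,
        Set.mem_singleton_iff] at hx
      rcases hx with rfl | rfl | rfl | rfl | rfl
      · exact one_mem _
      · exact hzE
      · exact heE
      · exact hEβ _ heE
      · exact hEβ _ (hEβ _ heE)
    have hle := Set.ncard_le_ncard hFE (Set.toFinite _)
    rw [Set.ncard_coe_finset, hFc] at hle
    have : (E : Set H).ncard = Nat.card E := rfl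
    omega
  -- `β` fixes all of `Sq ⊤`
  have hfix : ∀ (k : ℕ) (ζ : H), ζ ∈ Sq (⊤ : Subgroup H) → ζ ^ 2 ^ k = 1 → β ζ = ζ := by
    intro k
    induction k with
    | zero =>
      intro ζ _ h
      rw [pow_zero, pow_one] at h
      rw [h, map_one]
    | succ k ih =>
      intro ζ hζ h
      have h2 : β (ζ ^ 2) = ζ ^ 2 := ih (ζ ^ 2) (pow_mem hζ 2) (by rw [← pow_mul, ← h]; congr 1; ring)
      have h3 : (ζ⁻¹ * β ζ) ^ 2 = 1 := by
        rw [(hZ _ (hβZ ζ hζ) ζ⁻¹).mul_pow, ← map_pow, h2, inv_pow, inv_mul_cancel]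
      have h4 : β (ζ⁻¹ * β ζ) = ζ⁻¹ * β ζ := hE _ (mul_mem (inv_mem hζ) (hβZ ζ hζ)) h3
      set e := ζ⁻¹ * β ζ with he
      have h5 : β ζ = ζ * e := by rw [he]; group
      have h6 : β (β (β ζ)) = ζ * e ^ 3 := by
        rw [h5, map_mul, h4, h5, map_mul, map_mul, h4, h5]
        simp only [pow_succ, pow_zero, one_mul, mul_assoc]
      rw [hβ] at h6
      have h7 : e ^ 3 = 1 := by
        have := congrArg (fun t => ζ⁻¹ * t) h6
        simpa using this.symm
      have h8 : e = 1 := by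
        calc e = e ^ 3 * (e ^ 2)⁻¹ := by group
          _ = 1 := by rw [h7, h3]; simp
      rw [h5, h8, mul_one]
  have hfix' : ∀ ζ ∈ Sq (⊤ : Subgroup H), β ζ = ζ := by
    intro ζ hζ
    obtain ⟨k, hk⟩ := hH ζ
    exact hfix k ζ hζ hk
  -- conclusion
  set h := β g with hh
  set h' := β h with hh'
  have hg2 : g ^ 2 ∈ Sq (⊤ : Subgroup H) := sq_mem_Sq (mem_top _)
  have e1 : h ^ 2 = g ^ 2 := by rw [hh, ← map_pow, hfix' _ hg2]
  have e2 : h' ^ 2 = g ^ 2 := by rw [hh', ← map_pow, e1, hfix' _ hg2]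
  set ζ := g * h * h' with hζ
  have hζc : ∀ c, Commute c ζ := hZ ζ h1
  have e3 : h' = (g * h)⁻¹ * ζ := by rw [hζ]; group
  have e4 : (g * h) ^ 2 = z⁻¹ * (g ^ 2 * g ^ 2) := by
    have h2 : h * g = z⁻¹ * (g * h) := by rw [hz]; group
    calc (g * h) ^ 2 = g * (h * g) * h := by rw [pow_two]; group
      _ = g * (z⁻¹ * (g * h)) * h := by rw [h2]
      _ = (g * z⁻¹) * g * h ^ 2 := by rw [pow_two]; group
      _ = (z⁻¹ * g) * g * h ^ 2 := by rw [((hcen g).inv_right).eq]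
      _ = _ := by rw [e1]; simp only [pow_two, mul_assoc]
  have e5 : z = (g ^ 3 * ζ⁻¹) ^ 2 := by
    have h2 : g ^ 2 = (g ^ 2 * g ^ 2)⁻¹ * z * ζ ^ 2 := by
      have h3 : h' ^ 2 = (g ^ 2 * g ^ 2)⁻¹ * z * ζ ^ 2 := by
        rw [e3, ((hζc _)).mul_pow, inv_pow, e4, mul_inv_rev, inv_inv]
      rw [← h3, e2]
    have h3 : z = g ^ 6 * (ζ ^ 2)⁻¹ := by
      have h4 : z = (g ^ 2 * g ^ 2) * g ^ 2 * (ζ ^ 2)⁻¹ := by
        nth_rewrite 3 [h2]; group
      rw [h4]
      simp only [pow_succ, pow_zero, one_mul, mul_assoc]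
    rw [((hζc _).inv_right).mul_pow, ← pow_mul, inv_pow, h3]
  have hgenu : Subgroup.closure {g ^ 3 * ζ⁻¹, h} = ⊤ := by
    refine eq_of_le_sup_Sq (hH.to_subgroup ⊤) le_top ?_
    rw [← hgen, closure_le]
    have hu : g ^ 3 * ζ⁻¹ ∈ Subgroup.closure {g ^ 3 * ζ⁻¹, h} ⊔ Sq ⊤ :=
      mem_sup_left (subset_closure (by simp))
    have hζ' : ζ ∈ Subgroup.closure {g ^ 3 * ζ⁻¹, h} ⊔ Sq ⊤ := mem_sup_right h1
    have hg2' : g ^ 2 ∈ Subgroup.closure {g ^ 3 * ζ⁻¹, h} ⊔ Sq ⊤ := mem_sup_right hg2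
    rw [hgen]
    rintro w (rfl | rfl)
    · have h5 : w = (w ^ 2)⁻¹ * ((w ^ 3 * ζ⁻¹) * ζ) := by
        rw [inv_mul_cancel_right]; group
      have h6 := mul_mem (inv_mem hg2') (mul_mem hu hζ')
      rw [← h5] at h6
      exact h6
    · exact mem_sup_left (subset_closure (by simp))
  refine isMetacyclic_of_comm_mem (g ^ 3 * ζ⁻¹) h (fun a b => ?_) hgenu
  refine (zpowers_le.2 ?_) (hcomm a b)
  refine ⟨2, ?_⟩
  show (g ^ 3 * ζ⁻¹) ^ (2 : ℤ) = z
  rw [e5]; norm_cast

theorem isMetacyclic_of_order_three {R : Type*} [Group R] [Finite R] (hR : IsPGroup 2 R) (β : R →* R)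
    (hβ : ∀ h, β (β (β h)) = h) (g : R) (hgen : Subgroup.closure {g, β g} = ⊤)
    (h1 : g * β g * β (β g) ∈ Sq (⊤ : Subgroup R)) (hM : Cfsg.IsMetacyclic (Sq (⊤ : Subgroup R))) :
    Cfsg.IsMetacyclic R := by
  refine isMetacyclic_of_quotient_KK hR ?_
  let f := QuotientGroup.mk' (KK R)
  have hf : Function.Surjective f := QuotientGroup.mk'_surjective _
  have hβs : Function.Surjective β := fun h => ⟨β (β h), hβ h⟩
  have hφK : KK R ≤ (KK R).comap β := by
    rw [← map_le_iff_le_comap, map_KK β hβs]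
  let ψ : R ⧸ KK R →* R ⧸ KK R := QuotientGroup.map (KK R) (KK R) β hφK
  have hψf : ∀ g : R, ψ (f g) = f (β g) := fun g => rfl
  have hSq : (Sq (⊤ : Subgroup R)).map f = Sq (⊤ : Subgroup (R ⧸ KK R)) := by
    rw [map_Sq, map_top_of_surjective f hf]
  refine order_three_aux (hR.to_quotient _) ψ ?_ (f g) ?_ ?_ ?_
    (z := f g * ψ (f g) * (f g)⁻¹ * (ψ (f g))⁻¹) rfl ?_ ?_
  · intro h
    obtain ⟨h, rfl⟩ := hf h
    rw [hψf, hψf, hψf, hβ]
  · rw [hψf, ← Set.image_pair, ← MonoidHom.map_closure, hgen, map_top_of_surjective f hf]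
  · rw [hψf, hψf, ← map_mul, ← map_mul, ← hSq]
    exact mem_map_of_mem f h1
  · rw [← hSq]
    exact isMetacyclic_of_surjective (f.subgroupMap _) (f.subgroupMap_surjective _) hM
  · intro c
    obtain ⟨c, rfl⟩ := hf c
    have h1 := conj_mem_KK (comm_mem_commutator g (β g)) c
    have h2 : f (c * (g * β g * g⁻¹ * (β g)⁻¹) * c⁻¹ * (g * β g * g⁻¹ * (β g)⁻¹)⁻¹) = 1 :=
      (QuotientGroup.eq_one_iff _).2 h1
    have h3 : f c * (f g * ψ (f g) * (f g)⁻¹ * (ψ (f g))⁻¹) * (f c)⁻¹ *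
        (f g * ψ (f g) * (f g)⁻¹ * (ψ (f g))⁻¹)⁻¹ = 1 := by
      rw [← h2, hψf]; simp only [map_mul, map_inv]
    exact mul_inv_eq_iff_eq_mul.1 (mul_inv_eq_one.1 h3)
  · have h1 := sq_mem_KK (comm_mem_commutator g (β g))
    have h2 : f ((g * β g * g⁻¹ * (β g)⁻¹) ^ 2) = 1 := (QuotientGroup.eq_one_iff _).2 h1
    rw [← h2, hψf]; simp only [map_mul, map_inv, map_pow]

end Cfsg.Agent.H774
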