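import Cfsg.Agent.H774.DatA

/-!
# `R = [Q, b]`: the Frattini quotient has order four and `R` is metacyclic (helper774)
-/

set_option autoImplicit false
set_option linter.unusedSectionVars false

namespace Cfsg.Agent.H774

open Subgroup Cfsg.Agent.OddOrderLocal.Metacyclic

theorem Amb.relIndex_Sq_le_eight {G : Type*} [Group G] [Finite G] (A : Amb G) {H : Subgroup G}
    (hH : H ≠ ⊤) : (Sq H).relIndex H ≤ 8 := by
  have h1 : Sq H ≤ H ⊓ Sq ⊤ := le_inf (Sq_le H) (Sq_mono le_top)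
  have h2 := relIndex_mul_relIndex (Sq H) (H ⊓ Sq ⊤) H h1 inf_le_left
  have h3 : (Sq H).relIndex (H ⊓ Sq ⊤) ≤ 4 :=
    relIndex_le_four A.met inf_le_right
      (fun a ha s hs _ => conj_mem_Sq (fun h hh => mul_mem (mul_mem ha.1 hh) (inv_mem ha.1)) hs)
      (fun a ha => sq_mem_Sq ha.1)
  have h4 : (H ⊓ Sq ⊤).relIndex H ≤ 2 := by
    rw [inf_relIndex_left]
    exact A.rel H hH
  rw [← h2]
  calc _ ≤ 4 * 2 := Nat.mul_le_mul h3 h4
    _ = 8 := rfl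

/-- four cosets -/
theorem coset_four_sub {G : Type*} [Group G] {R N : Subgroup G}
    (hNn : ∀ r ∈ R, ∀ n ∈ N, r * n * r⁻¹ ∈ N) (hi : N.relIndex R = 4) (hsq : ∀ r ∈ R, r ^ 2 ∈ N)
    {g h : G} (hgR : g ∈ R) (hhR : h ∈ R) (hg : g ∉ N) (hh : h ∉ N) (hgh : g⁻¹ * h ∉ N) {k : G}
    (hk : k ∈ R) : k ∈ N ∨ g⁻¹ * k ∈ N ∨ h⁻¹ * k ∈ N ∨ (g * h)⁻¹ * k ∈ N := by
  have hn : (N.subgroupOf R).Normal :=
    ⟨fun n hn g => mem_subgroupOf.2 (hNn g g.2 n (mem_subgroupOf.1 hn))⟩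
  have := coset_four (N := N.subgroupOf R) hi (fun r => mem_subgroupOf.2 (hsq r r.2))
    (g := ⟨g, hgR⟩) (h := ⟨h, hhR⟩) (fun h => hg (mem_subgroupOf.1 h)) (fun h => hh (mem_subgroupOf.1 h))
    (fun h => hgh (mem_subgroupOf.1 h)) ⟨k, hk⟩
  rcases this with h1 | h1 | h1 | h1
  · exact Or.inl (mem_subgroupOf.1 h1)
  · exact Or.inr (Or.inl (mem_subgroupOf.1 h1))
  · exact Or.inr (Or.inr (Or.inl (mem_subgroupOf.1 h1)))
  · exact Or.inr (Or.inr (Or.inr (mem_subgroupOf.1 h1)))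

namespace Dat

variable {G : Type*} [Group G] [Finite G] {Q : Subgroup G} {t : G} {b : G → G}

theorem mem_of_fixed (D : Dat Q t b) (hG : IsPGroup 2 G) {N : Subgroup G}
    (hN : ∀ x ∈ Rr Q b, ∀ y ∈ Rr Q b, x * y * x⁻¹ * y⁻¹ ∈ N) (hNn : ∀ r ∈ Rr Q b, ∀ n ∈ N, r * n * r⁻¹ ∈ N)
    (hNb : ∀ n ∈ N, n ∈ Rr Q b → b n ∈ N) {r : G}
    (hr : r ∈ Rr Q b) (hfix : r⁻¹ * b r ∈ N) : r ∈ N := by
  have h1 := D.norm_mem hG hN hNn hr
  have hn : (N.subgroupOf (Rr Q b)).Normal :=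
    ⟨fun n hn g => mem_subgroupOf.2 (hNn g g.2 n (mem_subgroupOf.1 hn))⟩
  let f := QuotientGroup.mk' (N.subgroupOf (Rr Q b))
  have hf1 : ∀ x : Rr Q b, f x = 1 ↔ (x : G) ∈ N := fun x =>
    (QuotientGroup.eq_one_iff x).trans mem_subgroupOf
  have hfe : ∀ x y : Rr Q b, f x = f y ↔ (x : G)⁻¹ * y ∈ N := fun x y =>
    QuotientGroup.eq.trans mem_subgroupOf
  set y : Rr Q b := ⟨r, hr⟩ with hy
  set y' : Rr Q b := ⟨b r, D.bR hr⟩ with hy'
  set y'' : Rr Q b := ⟨b (b r), D.bR (D.bR hr)⟩ with hy''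
  have e1 : f y = f y' := (hfe y y').2 hfix
  have e2 : f y' = f y'' := by
    rw [hfe]
    have h3 : r⁻¹ * b r ∈ Rr Q b := mul_mem (inv_mem hr) (D.bR hr)
    have h4 := hNb _ hfix h3
    rw [D.bmul _ (inv_mem (D.R_le hr)) _ (D.bQ _ (D.R_le hr)), D.binv (D.R_le hr)] at h4
    exact h4
  have e3 : f (y * y' * y'') = 1 := (hf1 _).2 h1
  rw [map_mul, map_mul, ← e2, ← e1] at e3
  have e4 : f (y ^ 3) = 1 := by rw [← e3, map_pow]; simp only [pow_succ, pow_zero, one_mul]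
  have e5 : r ^ 3 ∈ N := (hf1 _).1 e4
  have e6 : r ∈ zpowers (r ^ (3 : ℤ)) := mem_zpowers_zpow_of_odd hG r ⟨1, by norm_num⟩
  have e7 : r ^ (3 : ℤ) ∈ N := by exact_mod_cast e5
  exact (zpowers_le.2 e7) e6

theorem SqR_conj {R : Subgroup G} {r s : G} (hr : r ∈ R) (hs : s ∈ Sq R) : r * s * r⁻¹ ∈ Sq R :=
  conj_mem_Sq (fun _ hh => mul_mem (mul_mem hr hh) (inv_mem hr)) hs

theorem bSqR (D : Dat Q t b) {s : G} (hs : s ∈ Sq (Rr Q b)) : b s ∈ Sq (Rr Q b) :=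
  apply_mem_Sq (fun _ hh => D.bR hh)
    (fun x hx y hy => D.bmul x (D.R_le hx) y (D.R_le hy)) hs

/-- `b` acts without fixed points on `R / Φ(R)`. -/
theorem mem_Sq_of_fixed (D : Dat Q t b) (hG : IsPGroup 2 G) {r : G}
    (hr : r ∈ Rr Q b) (hfix : r⁻¹ * b r ∈ Sq (Rr Q b)) : r ∈ Sq (Rr Q b) :=
  D.mem_of_fixed hG (fun _ hx _ hy => comm_mem_Sq hx hy) (fun _ hr' _ hn => SqR_conj hr' hn) (fun _ hn _ => D.bSqR hn) hr hfix

theorem exists_notMem (D : Dat Q t b) (hG : IsPGroup 2 G) : ∃ g ∈ Rr Q b, g ∉ Sq (Rr Q b) := by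
  by_contra hall
  push Not at hall
  have h1 : (⊥ : Subgroup G) = Rr Q b :=
    eq_of_le_sup_Sq (hG.to_subgroup _) bot_le (fun x hx => mem_sup_right (hall x hx))
  obtain ⟨q, hq, hne⟩ := D.bne
  have h2 := D.mem_R hq
  rw [← h1, mem_bot] at h2
  exact hne (inv_mul_eq_one.1 h2).symm

theorem Q_ne_top (D : Dat Q t b) : Q ≠ ⊤ := fun h => D.tQ (h ▸ mem_top t)

theorem R_ne_top (D : Dat Q t b) : Rr Q b ≠ ⊤ := fun h =>
  D.Q_ne_top (top_le_iff.1 (h ▸ D.R_le))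

theorem relIndex_SqR (D : Dat Q t b) (A : Amb G) : (Sq (Rr Q b)).relIndex (Rr Q b) = 4 := by
  classical
  have hG := A.two
  have h8 := A.relIndex_Sq_le_eight D.R_ne_top
  set R := Rr Q b with hR
  have hn : ((Sq R).subgroupOf R).Normal :=
    ⟨fun n hn g => mem_subgroupOf.2 (SqR_conj g.2 (mem_subgroupOf.1 hn))⟩
  let V := R ⧸ (Sq R).subgroupOf R
  have hfinV : Finite V := inferInstance
  have := Fintype.ofFinite V
  let β : R →* R :=
    { toFun := fun x => ⟨b x, D.bR x.2⟩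
      map_one' := Subtype.ext D.b1
      map_mul' := fun x y => Subtype.ext (D.bmul x (D.R_le x.2) y (D.R_le y.2)) }
  have hβS : (Sq R).subgroupOf R ≤ ((Sq R).subgroupOf R).comap β := fun x hx =>
    show β x ∈ (Sq R).subgroupOf R from mem_subgroupOf.2 (D.bSqR (mem_subgroupOf.1 hx))
  let ψ : V →* V := QuotientGroup.map _ _ β hβS
  let f : Function.End V := fun v => ψ v
  have hf3 : f ^ 3 ^ 1 = 1 := by
    funext v
    obtain ⟨r, rfl⟩ := QuotientGroup.mk_surjective v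
    rw [pow_one, pow_succ, pow_succ, pow_one]
    show ((β (β (β r)) : R) : V) = r
    have : β (β (β r)) = r := Subtype.ext (D.b3 r (D.R_le r.2))
    rw [this]
  have : Fact (Nat.Prime 3) := ⟨Nat.prime_three⟩
  have h1 := Equiv.Perm.card_fixedPoints_modEq hf3
  have h2 : Fintype.card f.fixedPoints = 1 := by
    rw [Fintype.card_eq_one_iff]
    refine ⟨⟨1, map_one ψ⟩, ?_⟩
    rintro ⟨v, hv⟩
    obtain ⟨r, rfl⟩ := QuotientGroup.mk_surjective v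
    apply Subtype.ext
    have h3 : ((β r : R) : V) = (r : V) := hv
    have h4 := QuotientGroup.eq.1 h3.symm
    have h5 : (r : G)⁻¹ * b r ∈ Sq R := mem_subgroupOf.1 h4
    have h6 := D.mem_Sq_of_fixed hG r.2 h5
    exact (QuotientGroup.eq_one_iff r).2 (mem_subgroupOf.2 h6)
  rw [h2] at h1
  have hcard : Fintype.card V = (Sq R).relIndex R := by
    rw [← Nat.card_eq_fintype_card]; rfl
  rw [hcard] at h1
  have hpow : ∃ n, (Sq R).relIndex R = 2 ^ n := by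
    have : Fact (Nat.Prime 2) := ⟨Nat.prime_two⟩
    have h3 : IsPGroup 2 V := (hG.to_subgroup R).to_quotient _
    obtain ⟨n, hn⟩ := IsPGroup.iff_card.1 h3
    exact ⟨n, hn⟩
  obtain ⟨n, hn'⟩ := hpow
  have hne1 : (Sq R).relIndex R ≠ 1 := by
    intro h
    obtain ⟨g, hg, hg'⟩ := D.exists_notMem hG
    exact hg' (relIndex_eq_one.1 h hg)
  rw [hn'] at h1 h8 hne1 ⊢
  have hn3 : n ≤ 3 := by
    by_contra hlt
    push Not at hlt
    have : 2 ^ 4 ≤ 2 ^ n := Nat.pow_le_pow_right (by norm_num) hlt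
    omega
  interval_cases n
  · exact absurd rfl hne1
  · exact absurd h1 (by decide)
  · rfl
  · exact absurd h1 (by decide)

/-- the four cosets of `Φ(R)` in `R` -/
theorem cosets (D : Dat Q t b) (A : Amb G) {g h k : G} (hgR : g ∈ Rr Q b) (hhR : h ∈ Rr Q b)
    (hg : g ∉ Sq (Rr Q b)) (hh : h ∉ Sq (Rr Q b)) (hgh : g⁻¹ * h ∉ Sq (Rr Q b)) (hk : k ∈ Rr Q b) :
    k ∈ Sq (Rr Q b) ∨ g⁻¹ * k ∈ Sq (Rr Q b) ∨ h⁻¹ * k ∈ Sq (Rr Q b) ∨
      (g * h)⁻¹ * k ∈ Sq (Rr Q b) :=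
  coset_four_sub (fun _ hr _ hn => SqR_conj hr hn) (D.relIndex_SqR A) (fun _ hr => sq_mem_Sq hr)
    hgR hhR hg hh hgh hk

theorem b_notMem (D : Dat Q t b) (hG : IsPGroup 2 G) {g : G} (hgR : g ∈ Rr Q b)
    (hg : g ∉ Sq (Rr Q b)) : b g ∉ Sq (Rr Q b) ∧ g⁻¹ * b g ∉ Sq (Rr Q b) := by
  refine ⟨fun h => ?_, fun h => hg (D.mem_Sq_of_fixed hG hgR h)⟩
  have := D.bSqR (D.bSqR h)
  rw [D.b3 g (D.R_le hgR)] at this
  exact hg this

theorem eq_R_of_mem (D : Dat Q t b) (A : Amb G) {K : Subgroup G} (hK : K ≤ Rr Q b) {g h : G}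
    (hg : g ∈ K) (hh : h ∈ K) (hg' : g ∉ Sq (Rr Q b)) (hh' : h ∉ Sq (Rr Q b))
    (hgh : g⁻¹ * h ∉ Sq (Rr Q b)) : K = Rr Q b := by
  refine eq_of_le_sup_Sq (A.two.to_subgroup _) hK ?_
  intro k hk
  have hg1 : g ∈ K ⊔ Sq (Rr Q b) := mem_sup_left hg
  have hh1 : h ∈ K ⊔ Sq (Rr Q b) := mem_sup_left hh
  rcases D.cosets A (hK hg) (hK hh) hg' hh' hgh hk with h1 | h1 | h1 | h1
  · exact mem_sup_right h1
  · have := mul_mem hg1 (mem_sup_right h1 : g⁻¹ * k ∈ K ⊔ Sq (Rr Q b))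
    rwa [mul_inv_cancel_left] at this
  · have := mul_mem hh1 (mem_sup_right h1 : h⁻¹ * k ∈ K ⊔ Sq (Rr Q b))
    rwa [mul_inv_cancel_left] at this
  · have := mul_mem (mul_mem hg1 hh1) (mem_sup_right h1 : (g * h)⁻¹ * k ∈ K ⊔ Sq (Rr Q b))
    rwa [mul_inv_cancel_left] at this

/-- `R` is metacyclic. -/
theorem isMetacyclic_R (D : Dat Q t b) (A : Amb G) : Cfsg.IsMetacyclic (Rr Q b) := by
  have hG := A.two
  obtain ⟨g, hgR, hg⟩ := D.exists_notMem hG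
  obtain ⟨hbg, hgbg⟩ := D.b_notMem hG hgR hg
  let β : Rr Q b →* Rr Q b :=
    { toFun := fun x => ⟨b x, D.bR x.2⟩
      map_one' := Subtype.ext D.b1
      map_mul' := fun x y => Subtype.ext (D.bmul x (D.R_le x.2) y (D.R_le y.2)) }
  have hSq : (Sq (⊤ : Subgroup (Rr Q b))).map (Rr Q b).subtype = Sq (Rr Q b) := by
    rw [map_Sq, ← MonoidHom.range_eq_map, range_subtype]
  have hmemSq : ∀ x : Rr Q b, (x : G) ∈ Sq (Rr Q b) → x ∈ Sq (⊤ : Subgroup (Rr Q b)) := by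
    intro x hx
    rw [← hSq] at hx
    obtain ⟨y, hy, hyx⟩ := hx
    rwa [← Subtype.ext (show (y : G) = x from hyx)]
  refine isMetacyclic_of_order_three (hG.to_subgroup _) β
    (fun x => Subtype.ext (D.b3 x (D.R_le x.2))) ⟨g, hgR⟩ ?_ ?_ ?_
  · have h1 := D.eq_R_of_mem A (K := (Subgroup.closure {(⟨g, hgR⟩ : Rr Q b), β ⟨g, hgR⟩}).map
      (Rr Q b).subtype) (map_subtype_le _)
      (mem_map_of_mem _ (subset_closure (Set.mem_insert _ _)))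
      (mem_map_of_mem _ (subset_closure (Set.mem_insert_of_mem _ (Set.mem_singleton _)))) hg hbg hgbg
    rw [eq_top_iff]
    intro x _
    have h2 : (x : G) ∈ (Subgroup.closure {(⟨g, hgR⟩ : Rr Q b), β ⟨g, hgR⟩}).map
      (Rr Q b).subtype := by rw [h1]; exact x.2
    obtain ⟨y, hy, hyx⟩ := h2
    rwa [← Subtype.ext (show (y : G) = x from hyx)]
  · refine hmemSq _ ?_
    exact D.norm_mem hG (fun _ hx _ hy => comm_mem_Sq hx hy) (fun _ hr _ hn => SqR_conj hr hn) hgR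
  · have h1 : ∀ x : Sq (⊤ : Subgroup (Rr Q b)), ((x : Rr Q b) : G) ∈ Sq (⊤ : Subgroup G) := by
      intro x
      have h2 : ((x : Rr Q b) : G) ∈ (Sq (⊤ : Subgroup (Rr Q b))).map (Rr Q b).subtype :=
        mem_map_of_mem _ x.2
      rw [hSq] at h2
      exact Sq_mono le_top h2
    let ι : Sq (⊤ : Subgroup (Rr Q b)) →* Sq (⊤ : Subgroup G) :=
      { toFun := fun x => ⟨((x : Rr Q b) : G), h1 x⟩
        map_one' := rfl
        map_mul' := fun _ _ => rfl }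
    refine isMetacyclic_of_injective ι (fun x y hxy => ?_) A.met
    have h3 : ((x : Rr Q b) : G) = ((y : Rr Q b) : G) := congrArg (fun z : Sq (⊤ : Subgroup G) => (z : G)) hxy
    exact Subtype.ext (Subtype.ext h3)

end Dat

end Cfsg.Agent.H774
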