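import Cfsg.Agent.H774.DatB

/-!
# The action on `R / Φ(R)` (helper774)
-/

set_option autoImplicit false
set_option linter.unusedSectionVars false

namespace Cfsg.Agent.H774

open Subgroup Cfsg.Agent.OddOrderLocal.Metacyclic

theorem relIndex_ne_zero' {G : Type*} [Group G] [Finite G] (H K : Subgroup G) : H.relIndex K ≠ 0 :=
  index_ne_zero_of_finite

section quot

variable {G : Type*} [Group G] (R : Subgroup G)

instance SqR_normal : ((Sq R).subgroupOf R).Normal :=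
  ⟨fun _ hn g => mem_subgroupOf.2 (conj_mem_Sq
    (fun _ hh => mul_mem (mul_mem g.2 hh) (inv_mem g.2)) (mem_subgroupOf.1 hn))⟩

/-- `R / Φ(R)` -/
abbrev VR := R ⧸ (Sq R).subgroupOf R

/-- the projection -/
def fR : R →* VR R := QuotientGroup.mk' _

variable {R}

theorem fR_eq_one {x : R} : fR R x = 1 ↔ (x : G) ∈ Sq R :=
  (QuotientGroup.eq_one_iff x).trans mem_subgroupOf

theorem fR_eq {x y : R} : fR R x = fR R y ↔ (x : G)⁻¹ * y ∈ Sq R :=
  QuotientGroup.eq.trans mem_subgroupOf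

theorem fR_comm (x y : R) : fR R x * fR R y = fR R y * fR R x := by
  have h1 : fR R (x * y * x⁻¹ * y⁻¹) = 1 := fR_eq_one.2 (comm_mem_Sq x.2 y.2)
  have h2 : fR R x * fR R y * (fR R x)⁻¹ * (fR R y)⁻¹ = 1 := by rw [← h1]; simp
  exact mul_inv_eq_iff_eq_mul.1 (mul_inv_eq_one.1 h2)

theorem fR_sq (x : R) : fR R x * fR R x = 1 := by
  rw [← map_mul, fR_eq_one, ← pow_two]
  exact sq_mem_Sq x.2

end quot

namespace Dat

variable {G : Type*} [Group G] [Finite G] {Q : Subgroup G} {t : G} {b : G → G}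

/-- The fixed points of `b`. -/
def C (D : Dat Q t b) : Subgroup G where
  carrier := {c | c ∈ Q ∧ b c = c}
  one_mem' := ⟨one_mem _, D.b1⟩
  mul_mem' := by
    rintro a c ⟨ha, ha'⟩ ⟨hc, hc'⟩
    exact ⟨mul_mem ha hc, by rw [D.bmul a ha c hc, ha', hc']⟩
  inv_mem' := by
    rintro a ⟨ha, ha'⟩
    exact ⟨inv_mem ha, by rw [D.binv ha, ha']⟩

theorem C_le (D : Dat Q t b) : D.C ≤ Q := fun _ h => h.1

theorem tC (D : Dat Q t b) {c : G} (hc : c ∈ D.C) : t * c * t⁻¹ ∈ D.C := by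
  have h1 := D.tN c hc.1
  refine ⟨h1, ?_⟩
  have h2 : t * c * t⁻¹ = b (b (t * c * t⁻¹)) := by
    have := D.bt' hc.1
    rwa [hc.2] at this
  rw [h2, D.b3 _ h1, ← h2]

/-- `b` on `R` -/
def bR' (D : Dat Q t b) : Rr Q b →* Rr Q b where
  toFun := fun x => ⟨b x, D.bR x.2⟩
  map_one' := Subtype.ext D.b1
  map_mul' := fun x y => Subtype.ext (D.bmul x (D.R_le x.2) y (D.R_le y.2))

theorem f_b (D : Dat Q t b) {x y : Rr Q b} (h : fR (Rr Q b) x = fR (Rr Q b) y) :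
    fR (Rr Q b) (D.bR' x) = fR (Rr Q b) (D.bR' y) := by
  rw [fR_eq] at h ⊢
  have h1 := D.bSqR h
  have h2 : b ((x : G)⁻¹ * y) = ((D.bR' x : Rr Q b) : G)⁻¹ * (D.bR' y : Rr Q b) := by
    rw [D.bmul _ (inv_mem (D.R_le x.2)) _ (D.R_le y.2), D.binv (D.R_le x.2)]
    rfl
  rwa [h2] at h1

theorem bR'3 (D : Dat Q t b) (x : Rr Q b) : D.bR' (D.bR' (D.bR' x)) = x :=
  Subtype.ext (D.b3 x (D.R_le x.2))

/-- conjugation on `R` by an element normalizing it -/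
def cj {R : Subgroup G} (τ : G) (h : ∀ r ∈ R, τ * r * τ⁻¹ ∈ R) : R →* R where
  toFun := fun x => ⟨τ * x * τ⁻¹, h x x.2⟩
  map_one' := Subtype.ext (by simp)
  map_mul' := fun x y => Subtype.ext (by
    show τ * (x * y : G) * τ⁻¹ = (τ * x * τ⁻¹) * (τ * y * τ⁻¹); group)

theorem f_cj {R : Subgroup G} {τ : G} (h : ∀ r ∈ R, τ * r * τ⁻¹ ∈ R) {x y : R}
    (hxy : fR R x = fR R y) : fR R (cj τ h x) = fR R (cj τ h y) := by
  rw [fR_eq] at hxy ⊢
  have h1 := conj_mem_Sq h hxy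
  have h2 : τ * ((x : G)⁻¹ * y) * τ⁻¹ = ((cj τ h x : R) : G)⁻¹ * (cj τ h y : R) := by
    show _ = (τ * x * τ⁻¹)⁻¹ * (τ * y * τ⁻¹)
    group
  rwa [h2] at h1

/-- Fixed points of `b` act trivially on `R / Φ(R)`. -/
theorem C_trivial (D : Dat Q t b) (A : Amb G) (k : ℕ) : ∀ c ∈ D.C, c ^ 2 ^ k = 1 →
    ∀ r ∈ Rr Q b, r⁻¹ * (c * r * c⁻¹) ∈ Sq (Rr Q b) := by
  induction k with
  | zero =>
    intro c _ h r _
    rw [pow_zero, pow_one] at h
    rw [h]; simp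
  | succ k ih =>
    intro c hc h
    have hG := A.two
    have h2 := ih (c ^ 2) (pow_mem hc 2) (by rw [← pow_mul, ← h]; congr 1; ring)
    have hcR : ∀ r ∈ Rr Q b, c * r * c⁻¹ ∈ Rr Q b := fun r hr => D.QR hc.1 hr
    have hcb : ∀ x : Rr Q b, D.bR' (cj c hcR x) = cj c hcR (D.bR' x) := by
      intro x
      apply Subtype.ext
      show b (c * x * c⁻¹) = c * b x * c⁻¹
      have hx := D.R_le x.2
      rw [D.bmul _ (mul_mem hc.1 hx) _ (inv_mem hc.1), D.bmul _ hc.1 _ hx, D.binv hc.1, hc.2]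
    obtain ⟨g, hgR, hg⟩ := D.exists_notMem hG
    obtain ⟨hbg, hgbg⟩ := D.b_notMem hG hgR hg
    set y : Rr Q b := ⟨g, hgR⟩ with hy
    have hfy : fR _ y ≠ 1 := fun h => hg (fR_eq_one.1 h)
    have hfby : fR _ (D.bR' y) ≠ 1 := fun h => hbg (fR_eq_one.1 h)
    have hne : fR _ y ≠ fR _ (D.bR' y) := fun h => hgbg (fR_eq.1 h)
    have hcc : fR _ (cj c hcR (cj c hcR y)) = fR _ y := by
      symm
      rw [fR_eq]
      have h3 := h2 g hgR
      have h4 : c ^ 2 * g * (c ^ 2)⁻¹ = c * (c * g * c⁻¹) * c⁻¹ := by simp only [pow_two]; group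
      rw [h4] at h3
      exact h3
    -- the four cases
    have key : fR _ (cj c hcR y) = fR _ y := by
      rcases D.cosets A hgR (D.bR hgR) hg hbg hgbg (hcR g hgR) with h1 | h1 | h1 | h1
      · exfalso
        have e1 : fR _ (cj c hcR y) = fR (Rr Q b) 1 := by
          rw [map_one]; exact fR_eq_one.2 h1
        have e2 := f_cj hcR e1
        rw [hcc, map_one, map_one] at e2
        exact hfy e2
      · exact (fR_eq.2 h1).symm
      · exfalso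
        have e1 : fR _ (cj c hcR y) = fR _ (D.bR' y) := (fR_eq.2 h1).symm
        have e2 := f_cj hcR e1
        rw [hcc, ← hcb] at e2
        have e3 := D.f_b e1
        rw [e3] at e2
        have e4 := D.f_b e2
        rw [D.bR'3] at e4
        exact hne e4.symm
      · exfalso
        have e1 : fR _ (cj c hcR y) = fR _ (y * D.bR' y) := (fR_eq.2 h1).symm
        have e2 := f_cj hcR e1
        rw [hcc, map_mul, ← hcb, map_mul, e1] at e2
        have e3 := D.f_b e1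
        rw [e3, map_mul D.bR', map_mul, map_mul, mul_assoc, ← mul_assoc (fR _ (D.bR' y)), fR_sq,
          one_mul] at e2
        have e4 : fR (Rr Q b) (D.bR' (D.bR' y)) = fR _ 1 := by
          rw [map_one]; exact mul_eq_left.1 e2.symm
        have e5 := D.f_b e4
        rw [D.bR'3, map_one, map_one] at e5
        exact hfy e5
    -- the subgroup on which `c` acts trivially
    let K : Subgroup G :=
      { carrier := {r | ∃ h : r ∈ Rr Q b, fR _ (cj c hcR ⟨r, h⟩) = fR _ ⟨r, h⟩}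
        one_mem' := ⟨one_mem _, by
          have : (⟨1, one_mem _⟩ : Rr Q b) = 1 := rfl
          rw [this, map_one]⟩
        mul_mem' := by
          rintro p q ⟨hp, hp'⟩ ⟨hq, hq'⟩
          refine ⟨mul_mem hp hq, ?_⟩
          have : (⟨p * q, mul_mem hp hq⟩ : Rr Q b) = ⟨p, hp⟩ * ⟨q, hq⟩ := rfl
          rw [this, map_mul, map_mul, map_mul, hp', hq']
        inv_mem' := by
          rintro p ⟨hp, hp'⟩
          refine ⟨inv_mem hp, ?_⟩
          have : (⟨p⁻¹, inv_mem hp⟩ : Rr Q b) = (⟨p, hp⟩)⁻¹ := rfl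
          rw [this, map_inv, map_inv, map_inv, hp'] }
    have hK : K = Rr Q b := by
      refine D.eq_R_of_mem A (g := g) (h := b g) (fun r hr => hr.1) ⟨hgR, key⟩ ⟨D.bR hgR, ?_⟩ hg hbg hgbg
      have := D.f_b key
      rw [hcb] at this
      exact this
    intro r hr
    rw [← hK] at hr
    obtain ⟨h1, h3⟩ := hr
    exact fR_eq.1 h3.symm

/-- `Q` acts trivially on `R / Φ(R)`. -/
theorem Q_trivial (D : Dat Q t b) (A : Amb G) {q r : G} (hq : q ∈ Q) (hr : r ∈ Rr Q b) :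
    r⁻¹ * (q * r * q⁻¹) ∈ Sq (Rr Q b) := by
  obtain ⟨c, hc, hc1, s, hs, rfl⟩ := D.exists_mul A.two hq
  obtain ⟨k, hk⟩ := A.two c
  have h1 := D.C_trivial A k c ⟨hc, hc1⟩ hk (s * r * s⁻¹) (D.QR (D.R_le hs) hr)
  have h2 : r⁻¹ * (c * s * r * (c * s)⁻¹) =
      (r⁻¹ * (s * r * s⁻¹)) * ((s * r * s⁻¹)⁻¹ * (c * (s * r * s⁻¹) * c⁻¹)) := by group
  rw [h2]
  refine mul_mem ?_ h1
  have h3 := comm_mem_Sq (inv_mem hr) hs
  have h4 : r⁻¹ * (s * r * s⁻¹) = r⁻¹ * s * (r⁻¹)⁻¹ * s⁻¹ := by group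
  rw [h4]
  exact h3

/-- Elements of `N(Q)` acting trivially on `R / Φ(R)` are in `Q`. -/
theorem mem_Q_of_trivial (D : Dat Q t b) (A : Amb G) {τ : G} (hτ : ∀ q ∈ Q, τ * q * τ⁻¹ ∈ Q)
    (h : ∀ r ∈ Rr Q b, r⁻¹ * (τ * r * τ⁻¹) ∈ Sq (Rr Q b)) : τ ∈ Q := by
  rcases D.norm τ hτ with h1 | h1
  · exact h1
  exfalso
  have hG := A.two
  have ht : ∀ s ∈ Rr Q b, s⁻¹ * (t * s * t⁻¹) ∈ Sq (Rr Q b) := by
    intro s hs
    set q := t⁻¹ * τ with hq
    have hr : q⁻¹ * s * q ∈ Rr Q b := by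
      have := D.QR (inv_mem h1) hs
      rwa [inv_inv] at this
    have h2 := h _ hr
    have h3 := D.Q_trivial A h1 hr
    have h4 : s⁻¹ * (t * s * t⁻¹) = ((q⁻¹ * s * q)⁻¹ * (q * (q⁻¹ * s * q) * q⁻¹))⁻¹ *
        ((q⁻¹ * s * q)⁻¹ * (τ * (q⁻¹ * s * q) * τ⁻¹)) := by
      rw [hq]; group
    rw [h4]
    exact mul_mem (inv_mem h3) h2
  obtain ⟨g, hgR, hg⟩ := D.exists_notMem hG
  have htR : ∀ r ∈ Rr Q b, t * r * t⁻¹ ∈ Rr Q b := fun r hr => D.tR hr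
  obtain ⟨hbg, hgbg⟩ := D.b_notMem hG hgR hg
  have e1 : fR _ (cj t htR (⟨b g, D.bR hgR⟩ : Rr Q b)) = fR _ ⟨b g, D.bR hgR⟩ :=
    (fR_eq.2 (ht _ (D.bR hgR))).symm
  have e2 : fR _ (cj t htR (⟨g, hgR⟩ : Rr Q b)) = fR _ ⟨g, hgR⟩ := (fR_eq.2 (ht _ hgR)).symm
  have e3 : cj t htR (⟨b g, D.bR hgR⟩ : Rr Q b) = D.bR' (D.bR' (cj t htR ⟨g, hgR⟩)) :=
    Subtype.ext (D.bt' (D.R_le hgR))
  have e4 := D.f_b (D.f_b e2)
  rw [← e3, e1] at e4
  have e5 := fR_eq.1 e4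
  exact (D.b_notMem hG (D.bR hgR) hbg).2 e5

theorem exists_moved (D : Dat Q t b) (A : Amb G) :
    ∃ r ∈ Rr Q b, r⁻¹ * (t * r * t⁻¹) ∉ Sq (Rr Q b) := by
  by_contra hall
  push Not at hall
  exact D.tQ (D.mem_Q_of_trivial A D.tN hall)

/-- `Q / R` is cyclic. -/
theorem exists_gen (D : Dat Q t b) (A : Amb G) :
    ∃ c₀ ∈ D.C, ∀ q ∈ Q, ∃ k : ℤ, ∃ r ∈ Rr Q b, q = c₀ ^ k * r := by
  have hG := A.two
  have h8 := A.relIndex_Sq_le_eight D.Q_ne_top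
  have hRS : ∀ x ∈ Rr Q b, x ∈ Sq Q → x ∈ Sq (Rr Q b) := by
    intro x hx hxQ
    by_contra hxS
    have hbS : ∀ y ∈ Sq Q, b y ∈ Sq Q := fun y hy =>
      apply_mem_Sq D.bQ D.bmul hy
    obtain ⟨h1, h2⟩ := D.b_notMem hG hx hxS
    have h3 := D.eq_R_of_mem A (K := Rr Q b ⊓ Sq Q) (g := x) (h := b x) inf_le_left ⟨hx, hxQ⟩
      ⟨D.bR hx, hbS x hxQ⟩ hxS h1 h2
    have h4 : D.C = Q := by
      refine eq_of_le_sup_Sq (hG.to_subgroup _) D.C_le ?_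
      intro q hq
      obtain ⟨c, hc, hc1, r, hr, rfl⟩ := D.exists_mul hG hq
      rw [← h3] at hr
      exact mul_mem (mem_sup_left ⟨hc, hc1⟩) (mem_sup_right hr.2)
    obtain ⟨q, hq, hne⟩ := D.bne
    rw [← h4] at hq
    exact hne hq.2
  have hi : (Sq Q).relIndex (Rr Q b) = 4 := by
    rw [← D.relIndex_SqR A, ← inf_relIndex_right, ← inf_relIndex_right (Sq (Rr Q b))]
    congr 1
    apply le_antisymm
    · exact fun x hx => ⟨hRS x hx.2 hx.1, hx.2⟩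
    · exact fun x hx => ⟨Sq_mono D.R_le hx.1, hx.2⟩
  set K := Rr Q b ⊔ Sq Q with hK
  have hKQ : K ≤ Q := sup_le D.R_le (Sq_le Q)
  have h1 := relIndex_mul_relIndex (Sq Q) K Q le_sup_right hKQ
  have h2 : (Sq Q).relIndex (Rr Q b) ≤ (Sq Q).relIndex K :=
    relIndex_le_of_le_right le_sup_left (relIndex_ne_zero' _ _)
  rw [hi] at h2
  have h3 : K.relIndex Q ≤ 2 := by
    by_contra hlt
    push Not at hlt
    have : 4 * 3 ≤ (Sq Q).relIndex K * K.relIndex Q := Nat.mul_le_mul h2 hlt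
    omega
  have hsub : ∀ c₀ ∈ D.C, Q ≤ (zpowers c₀ ⊔ Rr Q b) ⊔ Sq Q →
      ∀ q ∈ Q, ∃ k : ℤ, ∃ r ∈ Rr Q b, q = c₀ ^ k * r := by
    intro c₀ hc₀ hle
    let M : Subgroup G :=
      { carrier := {q | ∃ k : ℤ, ∃ r ∈ Rr Q b, q = c₀ ^ k * r}
        one_mem' := ⟨0, 1, one_mem _, by simp⟩
        mul_mem' := by
          rintro _ _ ⟨k, r, hr, rfl⟩ ⟨l, s, hs, rfl⟩
          refine ⟨k + l, (c₀ ^ (-l) * r * (c₀ ^ (-l))⁻¹) * s,
            mul_mem (D.QR (zpow_mem hc₀.1 _) hr) hs, ?_⟩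
          rw [zpow_add]; group
        inv_mem' := by
          rintro _ ⟨k, r, hr, rfl⟩
          refine ⟨-k, c₀ ^ k * r⁻¹ * (c₀ ^ k)⁻¹, D.QR (zpow_mem hc₀.1 _) (inv_mem hr), ?_⟩
          group }
    have hMQ : M ≤ Q := by
      rintro _ ⟨k, r, hr, rfl⟩
      exact mul_mem (zpow_mem hc₀.1 k) (D.R_le hr)
    have hM : M = Q := by
      refine eq_of_le_sup_Sq (hG.to_subgroup _) hMQ (hle.trans (sup_le_sup_right ?_ _))
      refine sup_le ?_ ?_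
      · rintro _ ⟨k, rfl⟩
        exact ⟨k, 1, one_mem _, by simp⟩
      · intro r hr
        exact ⟨0, r, hr, by simp⟩
    intro q hq
    rw [← hM] at hq
    exact hq
  by_cases hKeq : K = Q
  · refine ⟨1, one_mem _, hsub 1 (one_mem _) ?_⟩
    rw [zpowers_one_eq_bot, bot_sup_eq, ← hK, hKeq]
  · obtain ⟨q₀, hq₀, hq₀K⟩ : ∃ q₀ ∈ Q, q₀ ∉ K := by
      by_contra hall
      push Not at hall
      exact hKeq (le_antisymm hKQ hall)
    have h4 : K.relIndex Q = 2 := by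
      have h5 : K.relIndex Q ≠ 1 := fun h => hq₀K (relIndex_eq_one.1 h hq₀)
      have h6 : K.relIndex Q ≠ 0 := relIndex_ne_zero' _ _
      omega
    obtain ⟨c₀, hc₀, hc₁, r₀, hr₀, hq₀'⟩ := D.exists_mul hG hq₀
    refine ⟨c₀, ⟨hc₀, hc₁⟩, hsub c₀ ⟨hc₀, hc₁⟩ ?_⟩
    have hc₀K : c₀ ∉ K := by
      intro h
      exact hq₀K (hq₀' ▸ mul_mem h (mem_sup_left hr₀))
    intro q hq
    have hKle : K ≤ (zpowers c₀ ⊔ Rr Q b) ⊔ Sq Q := sup_le_sup_right le_sup_right _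
    by_cases hqK : q ∈ K
    · exact hKle hqK
    · have h5 : (⟨c₀, hc₀⟩ : Q)⁻¹ * ⟨q, hq⟩ ∈ K.subgroupOf Q := by
        rw [mul_mem_iff_of_index_two h4, inv_mem_iff, mem_subgroupOf, mem_subgroupOf]
        tauto
      have h6 : c₀⁻¹ * q ∈ K := mem_subgroupOf.1 h5
      have h7 : q = c₀ * (c₀⁻¹ * q) := by group
      rw [h7]
      exact mul_mem (mem_sup_left (mem_sup_left (mem_zpowers c₀))) (hKle h6)

end Dat

end Cfsg.Agent.H774
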