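import Cfsg.Agent.H774.DatC
import Cfsg.Agent.S1896

/-!
# The three shapes of `R` (helper774)
-/

set_option autoImplicit false
set_option linter.unusedSectionVars false

namespace Cfsg.Agent.H774

open Subgroup Cfsg.Agent.OddOrderLocal.Metacyclic

theorem zmod_pow_iff {n : ℕ} (hn : 1 ≤ n) (x : Multiplicative (ZMod (2 ^ n))) :
    x ^ 2 ^ (n - 1) = 1 ↔ ∃ y : Multiplicative (ZMod (2 ^ n)), x = y ^ 2 := by
  obtain ⟨m, rfl⟩ : ∃ m, n = m + 1 := ⟨n - 1, by omega⟩
  have : NeZero (2 ^ (m + 1)) := ⟨by positivity⟩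
  rw [Nat.add_sub_cancel]
  constructor
  · intro h
    have h1 : (2 ^ m : ℕ) • x.toAdd = 0 := h
    rw [nsmul_eq_mul, ← ZMod.natCast_zmod_val x.toAdd, ← Nat.cast_mul,
      ZMod.natCast_eq_zero_iff] at h1
    have h1' : 2 ^ m * 2 ∣ 2 ^ m * x.toAdd.val := (pow_succ 2 m) ▸ h1
    have h2 : 2 ∣ x.toAdd.val := Nat.dvd_of_mul_dvd_mul_left (by positivity) h1'
    obtain ⟨c, hc⟩ := h2
    refine ⟨Multiplicative.ofAdd (c : ZMod (2 ^ (m + 1))), ?_⟩
    show x.toAdd = (2 : ℕ) • (c : ZMod (2 ^ (m + 1)))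
    rw [← ZMod.natCast_zmod_val x.toAdd, hc, nsmul_eq_mul]; push_cast; ring
  · rintro ⟨y, rfl⟩
    rw [← pow_mul, ← pow_succ']
    have h1 : (2 ^ (m + 1) : ℕ) • y.toAdd = 0 := by
      rw [nsmul_eq_mul, ZMod.natCast_self, zero_mul]
    exact h1

namespace Dat

variable {G : Type*} [Group G] [Finite G] {Q : Subgroup G} {t : G} {b : G → G}

theorem not_isPGroup_mulAut (D : Dat Q t b) (A : Amb G) : ¬ IsPGroup 2 (MulAut (Rr Q b)) := by
  intro hp
  let α : MulAut (Rr Q b) :=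
    { toFun := D.bR'
      invFun := fun x => D.bR' (D.bR' x)
      left_inv := D.bR'3
      right_inv := D.bR'3
      map_mul' := map_mul D.bR' }
  obtain ⟨k, hk⟩ := hp α
  have h3 : α ^ 3 = 1 := MulEquiv.ext fun x => D.bR'3 x
  have h1 : α = 1 := by
    have hcop : Nat.Coprime 3 (2 ^ k) := Nat.Coprime.pow_right k (by norm_num)
    have := orderOf_dvd_of_pow_eq_one h3
    have h5 := orderOf_dvd_of_pow_eq_one hk
    have h6 := Nat.dvd_gcd this h5
    rw [Nat.Coprime.gcd_eq_one hcop] at h6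
    exact orderOf_eq_one_iff.1 (Nat.dvd_one.1 h6)
  obtain ⟨g, hgR, hg⟩ := D.exists_notMem A.two
  obtain ⟨-, hgbg⟩ := D.b_notMem A.two hgR hg
  have h2 : D.bR' ⟨g, hgR⟩ = ⟨g, hgR⟩ := DFunLike.congr_fun h1 _
  have h4 : b g = g := congrArg Subtype.val h2
  apply hgbg
  rw [h4, inv_mul_cancel]
  exact one_mem _

theorem shapes (D : Dat Q t b) (A : Amb G) :
    (∀ r ∈ Rr Q b, r ^ 2 = 1) ∨ Nonempty (Rr Q b ≃* QuaternionGroup 2) ∨
      ((∀ r ∈ Rr Q b, ∀ s ∈ Rr Q b, r * s = s * r) ∧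
        ∃ m : ℕ, Even m ∧ ∀ r ∈ Rr Q b, (r ^ m = 1 ↔ r ∈ Sq (Rr Q b))) := by
  have hG := A.two
  rcases Cfsg.Agent.S1896.result (hG.to_subgroup (Rr Q b)) (D.isMetacyclic_R A)
    (D.not_isPGroup_mulAut A) with h | ⟨n, ⟨e⟩⟩
  · exact Or.inr (Or.inl h)
  · have hab : ∀ r ∈ Rr Q b, ∀ s ∈ Rr Q b, r * s = s * r := by
      intro r hr s hs
      have h1 : (⟨r, hr⟩ * ⟨s, hs⟩ : Rr Q b) = ⟨s, hs⟩ * ⟨r, hr⟩ := by
        apply e.injective
        rw [map_mul, map_mul, mul_comm]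
      exact congrArg Subtype.val h1
    have hsqR : ∀ r ∈ Sq (Rr Q b), ∃ s ∈ Rr Q b, r = s ^ 2 := by
      intro r hr
      refine Subgroup.closure_induction (p := fun x _ => ∃ s ∈ Rr Q b, x = s ^ 2) ?_ ?_ ?_ ?_ hr
      · rintro _ ⟨h, hh, rfl⟩
        exact ⟨h, hh, rfl⟩
      · exact ⟨1, one_mem _, by simp⟩
      · rintro a c - - ⟨s, hs, rfl⟩ ⟨s', hs', rfl⟩
        exact ⟨s * s', mul_mem hs hs', ((show Commute s s' from hab s hs s' hs').mul_pow 2).symm⟩
      · rintro a - ⟨s, hs, rfl⟩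
        exact ⟨s⁻¹, inv_mem hs, by rw [inv_pow]⟩
    rcases Nat.lt_or_ge n 2 with hn | hn
    · left
      intro r hr
      have h1 : (⟨r, hr⟩ : Rr Q b) ^ 2 = 1 := by
        apply e.injective
        rw [map_pow, map_one]
        have h2 : ∀ x : Multiplicative (ZMod (2 ^ n)), x ^ 2 = 1 := by
          intro x
          interval_cases n
          · revert x; decide
          · revert x; decide
        exact Prod.ext (h2 _) (h2 _)
      exact congrArg Subtype.val h1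
    · right; right
      refine ⟨hab, 2 ^ (n - 1), ?_, ?_⟩
      · obtain ⟨m, rfl⟩ : ∃ m, n = m + 2 := ⟨n - 2, by omega⟩
        exact ⟨2 ^ m, by rw [show m + 2 - 1 = m + 1 by omega]; ring⟩
      · intro r hr
        have hmul : ∀ k : ℕ, r ^ k = 1 ↔ (e ⟨r, hr⟩) ^ k = 1 := by
          intro k
          rw [← map_pow, ← map_one e, e.injective.eq_iff]
          exact ⟨fun h => Subtype.ext h, fun h => congrArg Subtype.val h⟩
        rw [hmul]
        constructor
        · intro h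
          have h1 : (e ⟨r, hr⟩).1 ^ 2 ^ (n - 1) = 1 := congrArg Prod.fst h
          have h2 : (e ⟨r, hr⟩).2 ^ 2 ^ (n - 1) = 1 := congrArg Prod.snd h
          obtain ⟨y1, hy1⟩ := (zmod_pow_iff (by omega) _).1 h1
          obtain ⟨y2, hy2⟩ := (zmod_pow_iff (by omega) _).1 h2
          have h3 : (⟨r, hr⟩ : Rr Q b) = (e.symm (y1, y2)) ^ 2 := by
            apply e.injective
            rw [map_pow, e.apply_symm_apply]
            exact Prod.ext hy1 hy2
          have h4 : r = ((e.symm (y1, y2) : Rr Q b) : G) ^ 2 := congrArg Subtype.val h3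
          rw [h4]
          exact sq_mem_Sq (e.symm (y1, y2)).2
        · intro h
          obtain ⟨s, hs, hrs⟩ := hsqR r h
          have h3 : (⟨r, hr⟩ : Rr Q b) = (⟨s, hs⟩ : Rr Q b) ^ 2 := Subtype.ext hrs
          rw [h3, map_pow]
          refine Prod.ext ?_ ?_
          · exact (zmod_pow_iff (by omega) _).2 ⟨_, rfl⟩
          · exact (zmod_pow_iff (by omega) _).2 ⟨_, rfl⟩

end Dat

end Cfsg.Agent.H774
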