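import Cfsg.Agent.H774.DatD

/-!
# The homocyclic case (helper774)
-/

set_option autoImplicit false
set_option linter.unusedSectionVars false

namespace Cfsg.Agent.H774

open Subgroup Cfsg.Agent.OddOrderLocal.Metacyclic

/-- In a metacyclic group an elementary abelian group of order at least four contains all involutions
commuting with it. -/
theorem mem_of_commute {G : Type*} [Group G] [Finite G] {M E : Subgroup G} (hM : Cfsg.IsMetacyclic M)
    (hE : E ≤ M) (hE2 : ∀ e ∈ E, e ^ 2 = 1) (hE4 : 4 ≤ Nat.card E) {c : G} (hcM : c ∈ M)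
    (hc2 : c ^ 2 = 1) (hcE : ∀ e ∈ E, c * e = e * c) : c ∈ E := by
  have hcc : c * c = 1 := by rw [← pow_two]; exact hc2
  have hcx : ∀ x, c * x ∈ E → c * x = x * c := by
    intro x hx
    have h1 := hcE _ hx
    rw [← mul_assoc, hcc, one_mul] at h1
    calc c * x = c * (c * x * c) := by rw [← h1]
      _ = (c * c) * x * c := by simp only [mul_assoc]
      _ = x * c := by rw [hcc, one_mul]
  have hcx' : ∀ x, (x ∈ E ∨ c * x ∈ E) → c * x = x * c := by
    rintro x (hx | hx)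
    · exact hcE x hx
    · exact hcx x hx
  let K : Subgroup G :=
    { carrier := {x | x ∈ E ∨ c * x ∈ E}
      one_mem' := Or.inl (one_mem _)
      mul_mem' := by
        rintro x y (hx | hx) (hy | hy)
        · exact Or.inl (mul_mem hx hy)
        · refine Or.inr ?_
          rw [← mul_assoc, hcE x hx, mul_assoc]
          exact mul_mem hx hy
        · refine Or.inr ?_
          rw [← mul_assoc]
          exact mul_mem hx hy
        · refine Or.inl ?_
          have h1 : (c * x) * (c * y) = x * y := by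
            rw [hcx x hx, mul_assoc, ← mul_assoc c c, hcc, one_mul]
          rw [← h1]
          exact mul_mem hx hy
      inv_mem' := by
        rintro x (hx | hx)
        · exact Or.inl (inv_mem hx)
        · refine Or.inr ?_
          have h1 : c * x⁻¹ = (c * x)⁻¹ := by
            have h2 : c⁻¹ = c := inv_eq_of_mul_eq_one_left hcc
            rw [hcx x hx, mul_inv_rev, h2]
          rw [h1]
          exact inv_mem hx }
  have hEK : E ≤ K := fun e he => Or.inl he
  have hKM : K ≤ M := by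
    rintro x (hx | hx)
    · exact hE hx
    · have h1 : x = c * (c * x) := by rw [← mul_assoc, hcc, one_mul]
      rw [h1]
      exact mul_mem hcM (hE hx)
  have hK2 : ∀ x ∈ K, x ^ 2 = 1 := by
    rintro x (hx | hx)
    · exact hE2 x hx
    · have h1 := hE2 _ hx
      rw [(show Commute c x from hcx x hx).mul_pow, hc2, one_mul] at h1
      exact h1
  have hK4 : Nat.card K ≤ 4 := card_le_four (isMetacyclic_of_le hM hKM)
    (fun x => Subtype.ext (hK2 x x.2))
  have hEK' : E = K := Subgroup.eq_of_le_of_card_ge hEK (hK4.trans hE4)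
  rw [hEK']
  refine Or.inr ?_
  rw [hcc]
  exact one_mem _

/-- `G = ⟨s, t⟩` with commuting `s`, `t` is impossible. -/
theorem Amb.false_of_gen {G : Type*} [Group G] [Finite G] (A : Amb G) {s t : G} (hst : s * t = t * s)
    (hgen : Subgroup.closure {s, t} ⊔ Sq (⊤ : Subgroup G) = ⊤) : False := by
  have h1 : Subgroup.closure {s, t} = ⊤ :=
    eq_of_le_sup_Sq (A.two.to_subgroup ⊤) le_top (by rw [hgen])
  have h2 := comm_mem_of_closure (N := (⊥ : Subgroup G)) h1 (by rw [mem_bot, hst]; group)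
  apply A.nab
  intro a b
  have := h2 a b
  rw [mem_bot] at this
  exact mul_inv_eq_iff_eq_mul.1 (mul_inv_eq_one.1 this)

theorem Amb.Sq_conj {G : Type*} [Group G] {s : G} (hs : s ∈ Sq (⊤ : Subgroup G)) (g : G) :
    g * s * g⁻¹ ∈ Sq (⊤ : Subgroup G) := conj_mem_Sq (fun _ _ => mem_top _) hs

namespace Dat

variable {G : Type*} [Group G] [Finite G] {Q : Subgroup G} {t : G} {b : G → G}

/-- elements of `N(Q)` normalize `R` -/
theorem normR (D : Dat Q t b) {τ r : G} (hτ : ∀ q ∈ Q, τ * q * τ⁻¹ ∈ Q) (hr : r ∈ Rr Q b) :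
    τ * r * τ⁻¹ ∈ Rr Q b := by
  rcases D.norm τ hτ with h | h
  · exact D.QR h hr
  · have h1 : τ * r * τ⁻¹ = t * ((t⁻¹ * τ) * r * (t⁻¹ * τ)⁻¹) * t⁻¹ := by group
    rw [h1]
    exact D.tR (D.QR h hr)

theorem t_sq_mem (D : Dat Q t b) : t ^ 2 ∈ Q := by
  rcases D.norm (t ^ 2) (fun q hq => by
    have h1 : t ^ 2 * q * (t ^ 2)⁻¹ = t * (t * q * t⁻¹) * t⁻¹ := by simp only [pow_two]; group
    rw [h1]
    exact D.tN _ (D.tN q hq)) with h | h
  · exact h
  · rw [pow_two, inv_mul_cancel_left] at h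
    exact absurd h D.tQ

theorem mem_normalizer_Q (D : Dat Q t b) {g : G} :
    g ∈ normalizer (Q : Set G) ↔ ∀ q ∈ Q, g * q * g⁻¹ ∈ Q :=
  ⟨fun h q hq => (mem_normalizer_iff.1 h q).1 hq, fun h => mem_normalizer_of_conj h⟩

/-- `C` has at most two elements if it meets `Sq ⊤` trivially -/
theorem exists_s (D : Dat Q t b) (A : Amb G) (hCS : ∀ c ∈ D.C, c ∈ Sq (⊤ : Subgroup G) → c = 1) :
    ∃ s ∈ D.C, ∀ c ∈ D.C, c = 1 ∨ c = s := by
  have hCne : D.C ≠ ⊤ := fun h => D.Q_ne_top (top_le_iff.1 (h ▸ D.C_le))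
  have h1 := A.rel D.C hCne
  have h2 : (Sq (⊤ : Subgroup G)).relIndex D.C = Nat.card D.C := by
    rw [← inf_relIndex_right, ← relIndex_bot_left]
    congr 1
    rw [eq_bot_iff]
    rintro x ⟨hx1, hx2⟩
    exact hCS x hx2 hx1
  rw [h2] at h1
  by_cases hC : ∀ c ∈ D.C, c = 1
  · exact ⟨1, one_mem _, fun c hc => Or.inl (hC c hc)⟩
  · push Not at hC
    obtain ⟨s, hs, hs1⟩ := hC
    refine ⟨s, hs, fun c hc => ?_⟩
    by_contra hcon
    push Not at hcon
    have h3 : ({1, s, c} : Set G) ⊆ (D.C : Set G) := by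
      rintro x (rfl | rfl | rfl)
      · exact one_mem _
      · exact hs
      · exact hc
    have h4 := Set.ncard_le_ncard h3 (Set.toFinite _)
    have h5 : ({1, s, c} : Set G).ncard = 3 := by
      rw [Set.ncard_eq_three]
      exact ⟨1, s, c, hs1.symm, hcon.1.symm, hcon.2.symm, rfl⟩
    have h6 : (D.C : Set G).ncard = Nat.card D.C := rfl
    omega

section homocyclic

variable (D : Dat Q t b) (A : Amb G) (hab : ∀ r ∈ Rr Q b, ∀ s ∈ Rr Q b, r * s = s * r)
  {m : ℕ} (hme : Even m) (hm : ∀ r ∈ Rr Q b, (r ^ m = 1 ↔ r ∈ Sq (Rr Q b)))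

include D A hab hme hm

/-- `E = Ω₁(R)` -/
theorem exists_E : ∃ E : Subgroup G, (∀ e, e ∈ E ↔ e ∈ Rr Q b ∧ e ^ 2 = 1) ∧ E ≤ Sq (Rr Q b) ∧
    4 ≤ Nat.card E ∧ (∀ q ∈ Q, ∀ e ∈ E, q * e = e * q) ∧
    ∀ τ, (∀ q ∈ Q, τ * q * τ⁻¹ ∈ Q) → (∀ e ∈ E, τ * e = e * τ) → τ ∈ Q := by
  have hG := A.two
  let E : Subgroup G :=
    { carrier := {e | e ∈ Rr Q b ∧ e ^ 2 = 1}
      one_mem' := ⟨one_mem _, one_pow 2⟩
      mul_mem' := by
        rintro x y ⟨hx, hx2⟩ ⟨hy, hy2⟩
        exact ⟨mul_mem hx hy, by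
          rw [(show Commute x y from hab x hx y hy).mul_pow, hx2, hy2, one_mul]⟩
      inv_mem' := by
        rintro x ⟨hx, hx2⟩
        exact ⟨inv_mem hx, by rw [inv_pow, hx2, inv_one]⟩ }
  have hmem : ∀ e, e ∈ E ↔ e ∈ Rr Q b ∧ e ^ 2 = 1 := fun e => Iff.rfl
  have hES : E ≤ Sq (Rr Q b) := by
    rintro e ⟨he, he2⟩
    rw [← hm e he]
    obtain ⟨k, hk⟩ := hme
    rw [hk, ← two_mul, pow_mul, he2, one_pow]
  have hπ : ∀ r ∈ Rr Q b, r ^ m ∈ E := by
    intro r hr
    refine ⟨pow_mem hr m, ?_⟩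
    rw [← pow_mul, mul_comm, pow_mul]
    exact (hm _ (pow_mem hr 2)).2 (sq_mem_Sq hr)
  have hπe : ∀ r ∈ Rr Q b, ∀ s ∈ Rr Q b, (r ^ m = s ^ m ↔ r⁻¹ * s ∈ Sq (Rr Q b)) := by
    intro r hr s hs
    rw [← hm _ (mul_mem (inv_mem hr) hs), (show Commute r⁻¹ s from hab _ (inv_mem hr) s hs).mul_pow,
      inv_pow, inv_mul_eq_one]
  obtain ⟨g, hgR, hg⟩ := D.exists_notMem hG
  obtain ⟨hbg, hgbg⟩ := D.b_notMem hG hgR hg
  let E' : Subgroup G :=
    { carrier := {e | ∃ r ∈ Rr Q b, e = r ^ m}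
      one_mem' := ⟨1, one_mem _, by simp⟩
      mul_mem' := by
        rintro _ _ ⟨r, hr, rfl⟩ ⟨s, hs, rfl⟩
        exact ⟨r * s, mul_mem hr hs, ((show Commute r s from hab r hr s hs).mul_pow m).symm⟩
      inv_mem' := by
        rintro _ ⟨r, hr, rfl⟩
        exact ⟨r⁻¹, inv_mem hr, by rw [inv_pow]⟩ }
  have hE'E : E' ≤ E := by
    rintro _ ⟨r, hr, rfl⟩
    exact hπ r hr
  have hE'4 : 4 ≤ Nat.card E' := by
    have hsub : ({1, g ^ m, (b g) ^ m, (g * b g) ^ m} : Set G) ⊆ (E' : Set G) := by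
      rintro x (rfl | rfl | rfl | rfl)
      · exact one_mem _
      · exact ⟨g, hgR, rfl⟩
      · exact ⟨_, D.bR hgR, rfl⟩
      · exact ⟨_, mul_mem hgR (D.bR hgR), rfl⟩
    have h1 := Set.ncard_le_ncard hsub (Set.toFinite _)
    have a1 : (1 : G) ≠ g ^ m := fun h => hg ((hm g hgR).1 h.symm)
    have a2 : (1 : G) ≠ (b g) ^ m := fun h => hbg ((hm _ (D.bR hgR)).1 h.symm)
    have a3 : (1 : G) ≠ (g * b g) ^ m := by
      intro h
      apply hgbg
      have h2 := (hm _ (mul_mem hgR (D.bR hgR))).1 h.symm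
      have h3 : g⁻¹ * b g = (g ^ 2)⁻¹ * (g * b g) := by rw [pow_two]; group
      rw [h3]
      exact mul_mem (inv_mem (sq_mem_Sq hgR)) h2
    have a4 : g ^ m ≠ (b g) ^ m := fun h => hgbg ((hπe g hgR _ (D.bR hgR)).1 h)
    have a5 : g ^ m ≠ (g * b g) ^ m := by
      intro h
      have h2 := (hπe g hgR _ (mul_mem hgR (D.bR hgR))).1 h
      rw [inv_mul_cancel_left] at h2
      exact hbg h2
    have a6 : (b g) ^ m ≠ (g * b g) ^ m := by
      intro h
      have h2 := (hπe _ (D.bR hgR) _ (mul_mem hgR (D.bR hgR))).1 h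
      rw [hab g hgR _ (D.bR hgR), inv_mul_cancel_left] at h2
      exact hg h2
    have h5 : ({1, g ^ m, (b g) ^ m, (g * b g) ^ m} : Set G).ncard = 4 := by
      rw [Set.ncard_insert_of_notMem (by
        simp only [Set.mem_insert_iff, Set.mem_singleton_iff]; tauto)]
      have : ({g ^ m, (b g) ^ m, (g * b g) ^ m} : Set G).ncard = 3 := by
        rw [Set.ncard_eq_three]
        exact ⟨_, _, _, a4, a5, a6, rfl⟩
      omega
    have h6 : (E' : Set G).ncard = Nat.card E' := rfl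
    omega
  have hEM : Nat.card E ≤ 4 := card_le_four (isMetacyclic_of_le A.met (hES.trans (Sq_mono le_top)))
    (fun x => Subtype.ext x.2.2)
  have hEE : E' = E := Subgroup.eq_of_le_of_card_ge hE'E (hEM.trans hE'4)
  have hE4 : 4 ≤ Nat.card E := hEE ▸ hE'4
  -- every element of `E` is an `m`-th power
  have hEπ : ∀ e ∈ E, ∃ r ∈ Rr Q b, e = r ^ m := by
    intro e he
    rw [← hEE] at he
    exact he
  refine ⟨E, hmem, hES, hE4, ?_, ?_⟩
  · intro q hq e he
    obtain ⟨r, hr, rfl⟩ := hEπ e he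
    have h1 := D.Q_trivial A hq hr
    have h2 := (hπe r hr _ (D.QR hq hr)).2 h1
    rw [conj_pow] at h2
    exact (eq_mul_inv_iff_mul_eq.1 h2).symm
  · intro τ hτ hτE
    refine D.mem_Q_of_trivial A hτ fun r hr => ?_
    rw [← hπe r hr _ (D.normR hτ hr), conj_pow, hτE _ (hπ r hr), mul_inv_cancel_right]

/-- `Q` is normal. -/
theorem Q_normal : ∀ g : G, ∀ q ∈ Q, g * q * g⁻¹ ∈ Q := by
  have hG := A.two
  obtain ⟨E, hmem, hES, hE4, hQE, hEQ⟩ := D.exists_E A hab hme hm
  by_contra hcon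
  have hT : normalizer (Q : Set G) ≠ ⊤ := by
    intro h
    apply hcon
    intro g
    exact D.mem_normalizer_Q.1 (h ▸ mem_top g)
  have hNC : NormalizerCondition G := by
    have : Fact (Nat.Prime 2) := ⟨Nat.prime_two⟩
    haveI := hG.isNilpotent
    exact Group.normalizerCondition_of_isNilpotent
  obtain ⟨h, hhN, hhT⟩ := SetLike.exists_of_lt
    (hNC (normalizer (Q : Set G)) (lt_top_iff_ne_top.2 hT))
  have hhN' : ∀ τ, (∀ q ∈ Q, τ * q * τ⁻¹ ∈ Q) → ∀ q ∈ Q, (h * τ * h⁻¹) * q * (h * τ * h⁻¹)⁻¹ ∈ Q := by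
    intro τ hτ
    exact D.mem_normalizer_Q.1 ((mem_normalizer_iff.1 hhN τ).1 (D.mem_normalizer_Q.2 hτ))
  have hhN'' : ∀ τ, (∀ q ∈ Q, τ * q * τ⁻¹ ∈ Q) → ∀ q ∈ Q, (h⁻¹ * τ * h) * q * (h⁻¹ * τ * h)⁻¹ ∈ Q := by
    intro τ hτ
    have h1 := (mem_normalizer_iff.1 (inv_mem hhN) τ).1 (D.mem_normalizer_Q.2 hτ)
    rw [inv_inv] at h1
    exact D.mem_normalizer_Q.1 h1
  have hQT : ∀ τ ∈ Q, ∀ q ∈ Q, τ * q * τ⁻¹ ∈ Q := fun τ hτ q hq =>
    mul_mem (mul_mem hτ hq) (inv_mem hτ)
  have hEQ' : E ≤ Q := hES.trans ((Sq_le _).trans D.R_le)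
  have hTE : ∀ τ, (∀ q ∈ Q, τ * q * τ⁻¹ ∈ Q) → ∀ e ∈ E, τ * e * τ⁻¹ ∈ E := by
    intro τ hτ e he
    rw [hmem] at he ⊢
    exact ⟨D.normR hτ he.1, by rw [conj_pow, he.2]; group⟩
  by_cases hE : ∀ e ∈ E, h * e * h⁻¹ ∈ E
  · apply hhT
    rw [D.mem_normalizer_Q]
    intro q hq
    refine hEQ _ (hhN' q (hQT q hq)) (fun e he => ?_)
    have h1 := conj_eq_of_le hE he
    have h2 := hQE q hq _ h1
    calc h * q * h⁻¹ * e = h * (q * (h⁻¹ * e * h)) * h⁻¹ := by group
      _ = h * ((h⁻¹ * e * h) * q) * h⁻¹ := by rw [h2]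
      _ = e * (h * q * h⁻¹) := by group
  · push Not at hE
    obtain ⟨e₀, he₀, he₀'⟩ := hE
    by_cases hEh : ∀ e ∈ E, h * e * h⁻¹ ∈ Q
    · apply he₀'
      refine mem_of_commute A.met (hES.trans (Sq_mono le_top)) (fun e he => ((hmem e).1 he).2) hE4
        ?_ ?_ (fun e he => hQE _ (hEh e₀ he₀) e he)
      · exact Amb.Sq_conj ((hES.trans (Sq_mono le_top)) he₀) h
      · rw [conj_pow, ((hmem e₀).1 he₀).2]; group
    · push Not at hEh
      obtain ⟨e₁, he₁, he₁'⟩ := hEh
      apply he₁'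
      have hτ := hhN' e₁ (hQT e₁ (hEQ' he₁))
      refine D.mem_Q_of_trivial A hτ fun r hr => ?_
      apply hES
      rw [hmem]
      refine ⟨mul_mem (inv_mem hr) (D.normR hτ hr), ?_⟩
      -- the element is in `h E h⁻¹`
      have h1 : h⁻¹ * (r⁻¹ * (h * e₁ * h⁻¹) * r) * h ∈ E := by
        have h2 := hTE _ (hhN'' r⁻¹ (hQT r⁻¹ (inv_mem (D.R_le hr)))) e₁ he₁
        have h3 : h⁻¹ * (r⁻¹ * (h * e₁ * h⁻¹) * r) * h = h⁻¹ * r⁻¹ * h * e₁ * (h⁻¹ * r⁻¹ * h)⁻¹ := by
          group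
        rw [h3]
        exact h2
      have h2 : h⁻¹ * (r⁻¹ * (h * e₁ * h⁻¹ * r * (h * e₁ * h⁻¹)⁻¹)) * h ∈ E := by
        have h3 : h⁻¹ * (r⁻¹ * (h * e₁ * h⁻¹ * r * (h * e₁ * h⁻¹)⁻¹)) * h =
            (h⁻¹ * (r⁻¹ * (h * e₁ * h⁻¹) * r) * h) * e₁⁻¹ := by group
        rw [h3]
        exact mul_mem h1 (inv_mem he₁)
      have h3 := ((hmem _).1 h2).2
      have h4 : ∀ x : G, (h⁻¹ * x * h) ^ 2 = 1 → x ^ 2 = 1 := by
        intro x hx
        have h5 : (h⁻¹ * x * h) ^ 2 = h⁻¹ * x ^ 2 * h := by simp only [pow_two]; group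
        rw [h5] at hx
        calc x ^ 2 = h * (h⁻¹ * x ^ 2 * h) * h⁻¹ := by group
          _ = 1 := by rw [hx]; group
      exact h4 _ h3

/-- The commutator subgroup is cyclic in the homocyclic case. -/
theorem isCyclic_homocyclic : IsCyclic (_root_.commutator G) := by
  have hG := A.two
  obtain ⟨E, hmem, hES, hE4, hQE, hEQ⟩ := D.exists_E A hab hme hm
  have hQn := D.Q_normal A hab hme hm
  have hES' : E ≤ Sq (⊤ : Subgroup G) := hES.trans (Sq_mono le_top)
  have hE2 : ∀ e ∈ E, e ^ 2 = 1 := fun e he => ((hmem e).1 he).2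
  -- `C ∩ R = 1`
  have hCR : ∀ c ∈ D.C, c ∈ Rr Q b → c = 1 := by
    intro c hc hcR
    have h1 := D.mem_of_fixed hG (N := ⊥) (fun x hx y hy => by
      rw [mem_bot, hab x hx y hy]; group) (fun r _ n hn => by
      rw [mem_bot] at hn ⊢; rw [hn]; group) (fun n hn _ => by
      rw [mem_bot] at hn ⊢; rw [hn, D.b1]) hcR (by rw [hc.2, mem_bot]; group)
    exact mem_bot.1 h1
  have hCS : ∀ c ∈ D.C, c ∈ Sq (⊤ : Subgroup G) → c = 1 := by
    have key : ∀ k : ℕ, ∀ c ∈ D.C, c ∈ Sq (⊤ : Subgroup G) → c ^ 2 ^ k = 1 → c = 1 := by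
      intro k
      induction k with
      | zero =>
        intro c _ _ h
        rwa [pow_zero, pow_one] at h
      | succ k ih =>
        intro c hc hcS h
        have h1 := ih (c ^ 2) (pow_mem hc 2) (pow_mem hcS 2)
          (by rw [← pow_mul, ← h]; congr 1; ring)
        have h2 := mem_of_commute A.met hES' hE2 hE4 hcS h1 (fun e he => hQE c hc.1 e he)
        exact hCR c hc ((hmem c).1 h2).1
    intro c hc hcS
    obtain ⟨k, hk⟩ := hG c
    exact key k c hc hcS hk
  obtain ⟨s, hs, hCs⟩ := D.exists_s A hCS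
  have hQtQ : ∀ g : G, g ∈ Q ∨ t⁻¹ * g ∈ Q := fun g => D.norm g (hQn g)
  have htc : t * s * t⁻¹ = s := by
    by_cases hs1 : s = 1
    · rw [hs1]; group
    · rcases hCs _ (D.tC hs) with h | h
      · exfalso
        apply hs1
        calc s = t⁻¹ * (t * s * t⁻¹) * t := by group
          _ = 1 := by rw [h]; group
      · exact h
  have hst : s * t = t * s := by
    rw [mul_inv_eq_iff_eq_mul] at htc
    exact htc.symm
  have hRn : (Rr Q b).Normal := ⟨fun r hr g => D.normR (hQn g) hr⟩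
  by_cases hs1 : s = 1
  · -- `Q = R`
    have hC1 : ∀ c ∈ D.C, c = 1 := by
      intro c hc
      rcases hCs c hc with h | h
      · exact h
      · rw [h, hs1]
    have hQR : ∀ q ∈ Q, q ∈ Rr Q b := by
      intro q hq
      obtain ⟨c, hc, hc1, r, hr, rfl⟩ := D.exists_mul hG hq
      rw [hC1 c ⟨hc, hc1⟩, one_mul]
      exact hr
    have hQab : ∀ p ∈ Q, ∀ q ∈ Q, p * q = q * p := fun p hp q hq => hab p (hQR p hp) q (hQR q hq)
    let N : Subgroup G :=
      { carrier := {d | d ∈ Q ∧ t * d * t⁻¹ = d⁻¹}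
        one_mem' := ⟨one_mem _, by simp⟩
        mul_mem' := by
          rintro x y ⟨hx, hx'⟩ ⟨hy, hy'⟩
          refine ⟨mul_mem hx hy, ?_⟩
          have h1 : t * (x * y) * t⁻¹ = (t * x * t⁻¹) * (t * y * t⁻¹) := by group
          rw [h1, hx', hy', ← mul_inv_rev, hQab y hy x hx]
        inv_mem' := by
          rintro x ⟨hx, hx'⟩
          refine ⟨inv_mem hx, ?_⟩
          have h1 : t * x⁻¹ * t⁻¹ = (t * x * t⁻¹)⁻¹ := by group
          rw [h1, hx'] }
    have ht2 := D.t_sq_mem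
    have hNn : N.Normal := by
      refine ⟨?_⟩
      rintro d ⟨hd, hd'⟩ g
      have key : ∀ q ∈ Q, q * d * q⁻¹ = d := fun q hq => by rw [hQab q hq d hd]; group
      rcases hQtQ g with h | h
      · rw [key g h]
        exact ⟨hd, hd'⟩
      · have h1 : g * d * g⁻¹ = t * ((t⁻¹ * g) * d * (t⁻¹ * g)⁻¹) * t⁻¹ := by group
        rw [h1, key _ h, hd']
        exact inv_mem ⟨hd, hd'⟩
    have hcN : _root_.commutator G ≤ N := by
      -- commutators with `t`
      have hqt : ∀ q ∈ Q, t * q * t⁻¹ * q⁻¹ ∈ N := by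
        intro q hq
        refine ⟨mul_mem (D.tN q hq) (inv_mem hq), ?_⟩
        have h1 : t * (t * q * t⁻¹ * q⁻¹) * t⁻¹ = (t ^ 2 * q * (t ^ 2)⁻¹) * (t * q⁻¹ * t⁻¹) := by
          simp only [pow_two]; group
        have h2 : t ^ 2 * q * (t ^ 2)⁻¹ = q := by rw [hQab _ ht2 q hq]; group
        rw [h1, h2]
        group
      let f := QuotientGroup.mk' N
      have hf1 : ∀ a, f a = 1 ↔ a ∈ N := fun a => QuotientGroup.eq_one_iff a
      have hcq : ∀ q ∈ Q, Commute (f t) (f q) := by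
        intro q hq
        have h2 : f t * f q * (f t)⁻¹ * (f q)⁻¹ = 1 := by
          rw [← (hf1 _).2 (hqt q hq)]; simp
        exact mul_inv_eq_iff_eq_mul.1 (mul_inv_eq_one.1 h2)
      have hqq : ∀ p ∈ Q, ∀ q ∈ Q, Commute (f p) (f q) := fun p hp q hq => by
        show f p * f q = f q * f p
        rw [← map_mul, hQab p hp q hq, map_mul]
      have hall : ∀ g h : G, Commute (f g) (f h) := by
        have hrep : ∀ g : G, f g ∈ (f '' (Q : Set G)) ∨ ∃ q ∈ Q, f g = f t * f q := by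
          intro g
          rcases hQtQ g with h | h
          · exact Or.inl ⟨g, h, rfl⟩
          · exact Or.inr ⟨_, h, by rw [← map_mul, mul_inv_cancel_left]⟩
        intro g h
        rcases hrep g with ⟨p, hp, hpe⟩ | ⟨p, hp, hpe⟩ <;>
          rcases hrep h with ⟨q, hq, hqe⟩ | ⟨q, hq, hqe⟩
        · rw [← hpe, ← hqe]
          exact hqq p hp q hq
        · rw [← hpe, hqe]
          exact (hcq p hp).symm.mul_right (hqq p hp q hq)
        · rw [hpe, ← hqe]
          exact (hcq q hq).mul_left (hqq p hp q hq)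
        · rw [hpe, hqe]
          exact ((Commute.refl _).mul_right (hcq q hq)).mul_left
            ((hcq p hp).symm.mul_right (hqq p hp q hq))
      rw [_root_.commutator_def, commutator_le]
      intro g _ h _
      rw [← hf1]
      have h1 := hall g h
      show f (g * h * g⁻¹ * h⁻¹) = 1
      rw [map_mul, map_mul, map_mul, map_inv, map_inv, h1.eq]
      group
    refine isCyclic_of_unique_involution (hG.to_subgroup _)
      (fun a c => Subtype.ext (A.com a a.2 c c.2)) ?_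
    rintro ⟨d, hd⟩ ⟨d', hd'⟩ h2 h2' hne hne'
    have e2 : d ^ 2 = 1 := congrArg Subtype.val h2
    have e2' : d' ^ 2 = 1 := congrArg Subtype.val h2'
    have hd1 : d ≠ 1 := fun h => hne (Subtype.ext h)
    have hd1' : d' ≠ 1 := fun h => hne' (Subtype.ext h)
    have hfix : ∀ x ∈ _root_.commutator G, x ^ 2 = 1 → x ∈ E ∧ t * x = x * t := by
      intro x hx hx2
      obtain ⟨hx1, hx3⟩ := hcN hx
      refine ⟨(hmem x).2 ⟨hQR x hx1, hx2⟩, ?_⟩
      have h3 : x⁻¹ = x := inv_eq_of_mul_eq_one_left (by rw [← pow_two]; exact hx2)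
      rw [h3, mul_inv_eq_iff_eq_mul] at hx3
      exact hx3
    obtain ⟨hdE, hdt⟩ := hfix d hd e2
    obtain ⟨hdE', hdt'⟩ := hfix d' hd' e2'
    by_contra hne2
    have hne3 : d ≠ d' := fun h => hne2 (Subtype.ext h)
    apply D.tQ
    refine hEQ t D.tN ?_
    -- the fixed points of `t` in `E`
    let K : Subgroup G := E ⊓ centralizer ({t} : Set G)
    have hK : ∀ x, x ∈ K ↔ x ∈ E ∧ t * x = x * t := by
      intro x
      rw [mem_inf, mem_centralizer_singleton_iff]
      exact ⟨fun h => ⟨h.1, h.2.symm⟩, fun h => ⟨h.1, h.2.symm⟩⟩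
    have hKE : K ≤ E := inf_le_left
    have hsub : ({1, d, d'} : Set G) ⊆ (K : Set G) := by
      rintro x (rfl | rfl | rfl)
      · exact one_mem _
      · exact (hK _).2 ⟨hdE, hdt⟩
      · exact (hK _).2 ⟨hdE', hdt'⟩
    have h4 := Set.ncard_le_ncard hsub (Set.toFinite _)
    have h5 : ({1, d, d'} : Set G).ncard = 3 := by
      rw [Set.ncard_eq_three]
      exact ⟨1, d, d', hd1.symm, hd1'.symm, hne3, rfl⟩
    have h6 : (K : Set G).ncard = Nat.card K := rfl
    have hEM : Nat.card E ≤ 4 := card_le_four (isMetacyclic_of_le A.met hES')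
      (fun x => Subtype.ext (hE2 x x.2))
    have h7 : Nat.card K ∣ Nat.card E := card_dvd_of_le hKE
    have h8 : Nat.card E = 4 := le_antisymm hEM hE4
    have h9 : Nat.card K = 4 := by
      rw [h8] at h7
      have h10 : Nat.card K ≤ 4 := Nat.le_of_dvd (by norm_num) h7
      have h11 : 3 ≤ Nat.card K := by omega
      interval_cases h12 : Nat.card K
      · exact absurd h7 (by decide)
      · rfl
    have h10 : K = E := Subgroup.eq_of_le_of_card_ge hKE (by omega)
    intro e he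
    rw [← h10, hK] at he
    exact he.2
  · exfalso
    have hsS : s ∉ Sq (⊤ : Subgroup G) := fun h => hs1 (hCS s hs h)
    have hsR : s ∉ Rr Q b := fun h => hs1 (hCR s hs h)
    have hs2 : s ^ 2 = 1 := by
      have h1 : s ^ 2 ∈ Sq (⊤ : Subgroup G) := sq_mem_Sq (mem_top s)
      exact hCS _ (pow_mem hs 2) h1
    obtain ⟨c, hc, hc1, r, hr, ht2⟩ := D.exists_mul hG D.t_sq_mem
    have hQrep : ∀ q ∈ Q, ∃ r ∈ Rr Q b, q = r ∨ q = s * r := by
      intro q hq
      obtain ⟨c, hc, hc1, r, hr, rfl⟩ := D.exists_mul hG hq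
      rcases hCs c ⟨hc, hc1⟩ with h | h
      · exact ⟨r, hr, Or.inl (by rw [h, one_mul])⟩
      · exact ⟨r, hr, Or.inr (by rw [h])⟩
    rcases hCs c ⟨hc, hc1⟩ with h | h
    · -- `t ^ 2 ∈ R`
      rw [h, one_mul] at ht2
      let f := QuotientGroup.mk' (Rr Q b)
      have hf1 : ∀ a, f a = 1 ↔ a ∈ Rr Q b := fun a => QuotientGroup.eq_one_iff a
      have hfs : f s * f s = 1 := by rw [← map_mul, ← pow_two, hs2, map_one]
      have hft : f t * f t = 1 := by
        rw [← map_mul, hf1, ← pow_two, ht2]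
        exact hr
      have hfst : f s * f t = f t * f s := by rw [← map_mul, hst, map_mul]
      have hSR : Sq (⊤ : Subgroup G) ≤ Rr Q b := by
        rw [Sq_le_iff]
        intro g _
        rw [← hf1, map_pow, pow_two]
        have hrep : ∃ q ∈ Q, f g = f q ∨ f g = f t * f q := by
          rcases hQtQ g with h | h
          · exact ⟨g, h, Or.inl rfl⟩
          · exact ⟨_, h, Or.inr (by rw [← map_mul, mul_inv_cancel_left])⟩
        have hq2 : ∀ q ∈ Q, f q = 1 ∨ f q = f s := by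
          intro q hq
          obtain ⟨r, hr, h | h⟩ := hQrep q hq
          · left; rw [h]; exact (hf1 r).2 hr
          · right; rw [h, map_mul, (hf1 r).2 hr, mul_one]
        obtain ⟨q, hq, h | h⟩ := hrep
        · rcases hq2 q hq with h' | h'
          · rw [h, h', one_mul]
          · rw [h, h', hfs]
        · rcases hq2 q hq with h' | h'
          · rw [h, h', mul_one, hft]
          · rw [h, h']
            calc f t * f s * (f t * f s) = f t * (f s * f t) * f s := by group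
              _ = f t * (f t * f s) * f s := by rw [hfst]
              _ = (f t * f t) * (f s * f s) := by group
              _ = 1 := by rw [hft, hfs, one_mul]
      have hSQ : Sq (⊤ : Subgroup G) ≤ Q := hSR.trans D.R_le
      have htS : t ∉ Sq (⊤ : Subgroup G) := fun h => D.tQ (hSQ h)
      have hRS : ∀ r ∈ Rr Q b, r ∈ Sq (⊤ : Subgroup G) := by
        intro r hr
        have hn : (Sq (⊤ : Subgroup G)).Normal := Sq_normal
        rcases coset_four A.idx (fun g => sq_mem_Sq (mem_top g)) hsS htS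
          (fun h => D.tQ (by
            have := mul_mem hs.1 (hSQ h)
            rwa [mul_inv_cancel_left] at this)) r with h1 | h1 | h1 | h1
        · exact h1
        · exfalso
          apply hsR
          have h2 := mul_mem hr (inv_mem (hSR h1))
          have h3 : r * (s⁻¹ * r)⁻¹ = r * r⁻¹ * s := by group
          rw [h3, mul_inv_cancel, one_mul] at h2
          exact h2
        · exfalso
          apply D.tQ
          have h2 := mul_mem (D.R_le hr) (inv_mem (hSQ h1))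
          have h3 : r * (t⁻¹ * r)⁻¹ = t := by group
          rwa [h3] at h2
        · exfalso
          apply D.tQ
          have h2 := mul_mem (inv_mem hs.1) (mul_mem (D.R_le hr) (inv_mem (hSQ h1)))
          have h3 : s⁻¹ * (r * ((s * t)⁻¹ * r)⁻¹) = t := by group
          rwa [h3] at h2
      refine A.false_of_gen hst ?_
      rw [eq_top_iff]
      intro g _
      have hs' : s ∈ Subgroup.closure {s, t} ⊔ Sq (⊤ : Subgroup G) :=
        mem_sup_left (subset_closure (by simp))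
      have ht' : t ∈ Subgroup.closure {s, t} ⊔ Sq (⊤ : Subgroup G) :=
        mem_sup_left (subset_closure (by simp))
      have hq' : ∀ q ∈ Q, q ∈ Subgroup.closure {s, t} ⊔ Sq (⊤ : Subgroup G) := by
        intro q hq
        obtain ⟨r, hr, h | h⟩ := hQrep q hq
        · rw [h]; exact mem_sup_right (hRS r hr)
        · rw [h]; exact mul_mem hs' (mem_sup_right (hRS r hr))
      rcases hQtQ g with h | h
      · exact hq' g h
      · have := mul_mem ht' (hq' _ h)
        rwa [mul_inv_cancel_left] at this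
    · -- `t ^ 2 = s r`
      rw [h] at ht2
      have hrt : t * r * t⁻¹ = r := by
        have h1 : r = s⁻¹ * t ^ 2 := by rw [ht2]; group
        rw [h1]
        have h2 : t * s⁻¹ = s⁻¹ * t := ((show Commute s t from hst).inv_left).eq.symm
        calc t * (s⁻¹ * t ^ 2) * t⁻¹ = (t * s⁻¹) * t ^ 2 * t⁻¹ := by group
          _ = (s⁻¹ * t) * t ^ 2 * t⁻¹ := by rw [h2]
          _ = s⁻¹ * t ^ 2 := by simp only [pow_two]; group
      obtain ⟨y, hy, hyt⟩ := D.exists_moved A
      have htR : ∀ r ∈ Rr Q b, t * r * t⁻¹ ∈ Rr Q b := fun r hr => D.tR hr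
      set Y : Rr Q b := ⟨y, hy⟩ with hY
      have hne : fR _ Y ≠ fR _ (cj t htR Y) := fun h => hyt (fR_eq.1 h)
      have hcr : cj t htR (⟨r, hr⟩ : Rr Q b) = ⟨r, hr⟩ := Subtype.ext hrt
      have htt : fR _ (cj t htR (cj t htR Y)) = fR _ Y := by
        symm
        rw [fR_eq]
        have h3 := D.Q_trivial A D.t_sq_mem hy
        have h4 : t ^ 2 * y * (t ^ 2)⁻¹ = t * (t * y * t⁻¹) * t⁻¹ := by simp only [pow_two]; group
        rw [h4] at h3
        exact h3
      have hy1 : y ∉ Sq (Rr Q b) := by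
        intro h
        apply hyt
        exact mul_mem (inv_mem h) (conj_mem_Sq htR h)
      have hy2 : t * y * t⁻¹ ∉ Sq (Rr Q b) := by
        intro h
        apply hy1
        have h1 : t⁻¹ * (t * y * t⁻¹) * t = y := by group
        rw [← h1]
        have h2 := conj_mem_Sq (g := t⁻¹) (H := Rr Q b)
          (fun h hh => by rw [inv_inv]; exact conj_eq_of_le htR hh) h
        rwa [inv_inv] at h2
      have hrS : r ∈ Sq (⊤ : Subgroup G) := by
        rcases D.cosets A hy (htR y hy) hy1 hy2 hyt hr with h1 | h1 | h1 | h1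
        · exact Sq_mono le_top h1
        · exfalso
          have e1 : fR _ Y = fR _ (⟨r, hr⟩ : Rr Q b) := fR_eq.2 h1
          have e2 := f_cj htR e1
          rw [hcr, ← e1] at e2
          exact hne e2.symm
        · exfalso
          have e1 : fR _ (cj t htR Y) = fR _ (⟨r, hr⟩ : Rr Q b) := fR_eq.2 h1
          have e2 := f_cj htR e1
          rw [hcr, htt, ← e1] at e2
          exact hne e2
        · have h2 : r = (y * (t * y * t⁻¹)) * ((y * (t * y * t⁻¹))⁻¹ * r) := by group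
          have h3 : y * (t * y * t⁻¹) = y ^ 2 * (y⁻¹ * t * (y⁻¹)⁻¹ * t⁻¹) := by
            simp only [pow_two]; group
          rw [h2]
          refine mul_mem ?_ (Sq_mono le_top h1)
          rw [h3]
          exact mul_mem (sq_mem_Sq (mem_top y)) (comm_mem_Sq (mem_top _) (mem_top _))
      apply hsS
      have h1 : s = t ^ 2 * r⁻¹ := by rw [ht2]; group
      rw [h1]
      exact mul_mem (sq_mem_Sq (mem_top t)) (inv_mem hrS)

end homocyclic

end Dat

end Cfsg.Agent.H774
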