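import Cfsg.Agent.H774.DatH

/-!
# The case where `R` is a four-group or quaternion of order eight: generalities (helper774)
-/

set_option autoImplicit false
set_option linter.unusedSectionVars false

namespace Cfsg.Agent.H774

open Subgroup Cfsg.Agent.OddOrderLocal.Metacyclic

/-- normalizers grow in 2-groups -/
theorem exists_normalizing {G : Type*} [Group G] [Finite G] {Q M : Subgroup G} (hM : IsPGroup 2 M)
    (hQM : Q ≤ M) (hne : Q ≠ M) : ∃ τ ∈ M, τ ∉ Q ∧ ∀ q ∈ Q, τ * q * τ⁻¹ ∈ Q := by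
  have : Fact (Nat.Prime 2) := ⟨Nat.prime_two⟩
  have hNC : NormalizerCondition M := by
    have := hM.isNilpotent
    exact Group.normalizerCondition_of_isNilpotent
  have h1 : Q.subgroupOf M ≠ ⊤ := by
    intro h
    rw [subgroupOf_eq_top] at h
    exact hne (le_antisymm hQM h)
  obtain ⟨τ, hτ, hτ'⟩ := SetLike.exists_of_lt (hNC _ (lt_top_iff_ne_top.2 h1))
  refine ⟨τ, τ.2, fun h => hτ' (mem_subgroupOf.2 h), fun q hq => ?_⟩
  have := (mem_normalizer_iff.1 hτ ⟨q, hQM hq⟩).1 (mem_subgroupOf.2 hq)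
  exact mem_subgroupOf.1 this

theorem commutator_le_Sq (G : Type*) [Group G] : _root_.commutator G ≤ Sq (⊤ : Subgroup G) := by
  rw [_root_.commutator_def, commutator_le]
  intro a _ b _
  exact comm_mem_Sq (mem_top a) (mem_top b)

namespace Dat

variable {G : Type*} [Group G] [Finite G] {Q : Subgroup G} {t : G} {b : G → G}

/-- an element acting trivially on two independent classes acts trivially on `R / Φ(R)`. -/
theorem trivial_of_two (D : Dat Q t b) (A : Amb G) {τ : G} (hτ : ∀ r ∈ Rr Q b, τ * r * τ⁻¹ ∈ Rr Q b)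
    {g h : G} (hgR : g ∈ Rr Q b) (hhR : h ∈ Rr Q b) (hg : g ∉ Sq (Rr Q b)) (hh : h ∉ Sq (Rr Q b))
    (hgh : g⁻¹ * h ∉ Sq (Rr Q b)) (h1 : g⁻¹ * (τ * g * τ⁻¹) ∈ Sq (Rr Q b))
    (h2 : h⁻¹ * (τ * h * τ⁻¹) ∈ Sq (Rr Q b)) : ∀ r ∈ Rr Q b, r⁻¹ * (τ * r * τ⁻¹) ∈ Sq (Rr Q b) := by
  let K : Subgroup G :=
    { carrier := {r | ∃ h : r ∈ Rr Q b, fR _ (cj τ hτ ⟨r, h⟩) = fR _ ⟨r, h⟩}
      one_mem' := ⟨one_mem _, by
        have : (⟨1, one_mem _⟩ : Rr Q b) = 1 := rfl
        rw [this, map_one]⟩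
      mul_mem' := by
        rintro p q ⟨hp, hp'⟩ ⟨hq, hq'⟩
        refine ⟨mul_mem hp hq, ?_⟩
        have : (⟨p * q, mul_mem hp hq⟩ : Rr Q b) = ⟨p, hp⟩ * ⟨q, hq⟩ := rfl
        rw [this, map_mul, map_mul, map_mul, hp', hq']
      inv_mem' := by
        rintro p ⟨hp, hp'⟩
        refine ⟨inv_mem hp, ?_⟩
        have : (⟨p⁻¹, inv_mem hp⟩ : Rr Q b) = (⟨p, hp⟩)⁻¹ := rfl
        rw [this, map_inv, map_inv, map_inv, hp'] }
  have hK : K = Rr Q b :=
    D.eq_R_of_mem A (g := g) (h := h) (fun r hr => hr.1) ⟨hgR, (fR_eq.2 h1).symm⟩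
      ⟨hhR, (fR_eq.2 h2).symm⟩ hg hh hgh
  intro r hr
  rw [← hK] at hr
  obtain ⟨h1, h3⟩ := hr
  exact fR_eq.1 h3.symm

/-- `C_G(R) ≤ Q`. -/
theorem centralizer_le (D : Dat Q t b) (A : Amb G) {x : G} (hx : ∀ r ∈ Rr Q b, x * r = r * x) :
    x ∈ Q := by
  have hG := A.two
  let M : Subgroup G :=
    { carrier := {m | ∃ q ∈ Q, ∃ y : G, (∀ r ∈ Rr Q b, y * r = r * y) ∧ m = q * y}
      one_mem' := ⟨1, one_mem _, 1, fun r _ => by simp, by simp⟩
      mul_mem' := by
        rintro _ _ ⟨q, hq, y, hy, rfl⟩ ⟨q', hq', y', hy', rfl⟩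
        refine ⟨q * q', mul_mem hq hq', q'⁻¹ * y * q' * y', fun r hr => ?_, by group⟩
        have h1 := hy _ (D.QR hq' hr)
        have h2 : q'⁻¹ * y * q' * r = r * (q'⁻¹ * y * q') := by
          calc q'⁻¹ * y * q' * r = q'⁻¹ * (y * (q' * r * q'⁻¹)) * q' := by group
            _ = q'⁻¹ * ((q' * r * q'⁻¹) * y) * q' := by rw [h1]
            _ = _ := by group
        rw [mul_assoc, hy' r hr, ← mul_assoc, h2, mul_assoc]
      inv_mem' := by
        rintro _ ⟨q, hq, y, hy, rfl⟩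
        refine ⟨q⁻¹, inv_mem hq, q * y⁻¹ * q⁻¹, fun r hr => ?_, by group⟩
        have h0 := D.QR (inv_mem hq) hr
        rw [inv_inv] at h0
        have h1 := hy _ h0
        have h2 : y⁻¹ * (q⁻¹ * r * q) = (q⁻¹ * r * q) * y⁻¹ := by
          rw [inv_mul_eq_iff_eq_mul, ← mul_assoc, h1, mul_inv_cancel_right]
        calc q * y⁻¹ * q⁻¹ * r = q * (y⁻¹ * (q⁻¹ * r * q)) * q⁻¹ := by group
          _ = q * ((q⁻¹ * r * q) * y⁻¹) * q⁻¹ := by rw [h2]
          _ = _ := by group }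
  have hQM : Q ≤ M := fun q hq => ⟨q, hq, 1, fun r _ => by simp, by simp⟩
  have hxM : x ∈ M := ⟨1, one_mem _, x, hx, by simp⟩
  by_contra hxQ
  obtain ⟨τ, ⟨q, hq, y, hy, rfl⟩, hτQ, hτ⟩ := exists_normalizing (hG.to_subgroup M) hQM
    (fun h => hxQ (h ▸ hxM))
  apply hτQ
  refine mul_mem hq ?_
  refine D.mem_Q_of_trivial A (fun p hp => ?_) (fun r hr => ?_)
  · have h1 := hτ p hp
    have h2 : y * p * y⁻¹ = q⁻¹ * (q * y * p * (q * y)⁻¹) * q := by group
    rw [h2]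
    exact mul_mem (mul_mem (inv_mem hq) h1) hq
  · rw [hy r hr]
    have : r⁻¹ * (r * y * y⁻¹) = 1 := by group
    rw [this]
    exact one_mem _

/-- `G = Q ∪ tQ`, `C ∩ Sq ⊤ = 1` and `R ≤ Sq ⊤` is impossible -/
theorem false_of_normal (D : Dat Q t b) (A : Amb G) (hQn : ∀ g : G, ∀ q ∈ Q, g * q * g⁻¹ ∈ Q)
    (hCS : ∀ c ∈ D.C, c ∈ Sq (⊤ : Subgroup G) → c = 1)
    (hRS : ∀ r ∈ Rr Q b, r ∈ Sq (⊤ : Subgroup G)) : False := by
  have hG := A.two
  obtain ⟨s, hs, hCs⟩ := D.exists_s A hCS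
  have hQtQ : ∀ g : G, g ∈ Q ∨ t⁻¹ * g ∈ Q := fun g => D.norm g (hQn g)
  have htc : t * s * t⁻¹ = s := by
    by_cases hs1 : s = 1
    · rw [hs1]; group
    · rcases hCs _ (D.tC hs) with h | h
      · exfalso
        apply hs1
        calc s = t⁻¹ * (t * s * t⁻¹) * t := by group
          _ = 1 := by rw [h]; group
      · exact h
  have hst : s * t = t * s := by
    rw [mul_inv_eq_iff_eq_mul] at htc
    exact htc.symm
  refine A.false_of_gen hst ?_
  rw [eq_top_iff]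
  intro g _
  have hs' : s ∈ Subgroup.closure {s, t} ⊔ Sq (⊤ : Subgroup G) :=
    mem_sup_left (subset_closure (by simp))
  have ht' : t ∈ Subgroup.closure {s, t} ⊔ Sq (⊤ : Subgroup G) :=
    mem_sup_left (subset_closure (by simp))
  have hq' : ∀ q ∈ Q, q ∈ Subgroup.closure {s, t} ⊔ Sq (⊤ : Subgroup G) := by
    intro q hq
    obtain ⟨c, hc, hc1, r, hr, rfl⟩ := D.exists_mul hG hq
    refine mul_mem ?_ (mem_sup_right (hRS r hr))
    rcases hCs c ⟨hc, hc1⟩ with h | h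
    · rw [h]; exact one_mem _
    · rw [h]; exact hs'
  rcases hQtQ g with h | h
  · exact hq' g h
  · have := mul_mem ht' (hq' _ h)
    rwa [mul_inv_cancel_left] at this

section small

variable (D : Dat Q t b) (A : Amb G) {z₀ : G} (hz₀ : z₀ ∈ Sq (Rr Q b)) (hz₀2 : z₀ ^ 2 = 1)
  (hz₀c : ∀ r ∈ Rr Q b, z₀ * r = r * z₀) (hS : ∀ x ∈ Sq (Rr Q b), x = 1 ∨ x = z₀)

include D A hz₀ hz₀2 hz₀c hS

/-- `C` centralizes `R`. -/
theorem C_comm : ∀ c ∈ D.C, ∀ r ∈ Rr Q b, c * r = r * c := by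
  have hG := A.two
  have hfix : ∀ (φ : G → G), φ 1 = 1 → (∀ x ∈ Sq (Rr Q b), φ x ∈ Sq (Rr Q b)) →
      (∀ x ∈ Sq (Rr Q b), φ x = 1 → x = 1) → ∀ x ∈ Sq (Rr Q b), φ x = x := by
    intro φ h1 h2 h3 x hx
    rcases hS x hx with h | h
    · rw [h, h1]
    · rcases hS _ (h2 x hx) with h4 | h4
      · have := h3 x hx h4
        rw [this, h1]
      · rw [h4, h]
  have hSR : ∀ x ∈ Sq (Rr Q b), x ∈ Rr Q b := fun x hx => Sq_le _ hx
  have hb : ∀ x ∈ Sq (Rr Q b), b x = x := by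
    refine hfix b D.b1 (fun x hx => D.bSqR hx) (fun x hx h => ?_)
    exact D.binj (D.R_le (hSR x hx)) (one_mem _) (by rw [h, D.b1])
  intro c hc r hr
  have hcc : ∀ x ∈ Sq (Rr Q b), c * x * c⁻¹ = x := by
    refine hfix (fun x => c * x * c⁻¹) (by simp) (fun x hx => ?_) (fun x hx h => ?_)
    · exact conj_mem_Sq (fun h hh => D.QR hc.1 hh) hx
    · have : c * x * c⁻¹ = 1 := h
      calc x = c⁻¹ * (c * x * c⁻¹) * c := by group
        _ = 1 := by rw [this]; group
  have hcen : ∀ x ∈ Sq (Rr Q b), ∀ r ∈ Rr Q b, x * r = r * x := by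
    intro x hx r hr
    rcases hS x hx with h | h
    · rw [h]; simp
    · rw [h]; exact hz₀c r hr
  have hsq : ∀ x ∈ Sq (Rr Q b), x ^ 2 = 1 := by
    intro x hx
    rcases hS x hx with h | h
    · rw [h]; simp
    · rw [h]; exact hz₀2
  set ε := r⁻¹ * (c * r * c⁻¹) with hε
  have hεS : ε ∈ Sq (Rr Q b) := D.Q_trivial A hc.1 hr
  have e1 : c * r * c⁻¹ = r * ε := by rw [hε]; group
  have e2 : c * b r * c⁻¹ = b r * ε := by
    have h1 : b (c * r * c⁻¹) = c * b r * c⁻¹ := by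
      have hx := D.R_le hr
      rw [D.bmul _ (mul_mem hc.1 hx) _ (inv_mem hc.1), D.bmul _ hc.1 _ hx, D.binv hc.1, hc.2]
    rw [← h1, e1, D.bmul _ (D.R_le hr) _ (D.R_le (hSR ε hεS)), hb ε hεS]
  have e3 : c * b (b r) * c⁻¹ = b (b r) * ε := by
    have h1 : b (c * b r * c⁻¹) = c * b (b r) * c⁻¹ := by
      have hx := D.R_le (D.bR hr)
      rw [D.bmul _ (mul_mem hc.1 hx) _ (inv_mem hc.1), D.bmul _ hc.1 _ hx, D.binv hc.1, hc.2]
    rw [← h1, e2, D.bmul _ (D.R_le (D.bR hr)) _ (D.R_le (hSR ε hεS)), hb ε hεS]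
  have hn := D.norm_mem hG (N := Sq (Rr Q b)) (fun x hx y hy => comm_mem_Sq hx hy)
    (fun r hr n hn => SqR_conj hr hn) hr
  have e4 := hcc _ hn
  have e5 : c * (r * b r * b (b r)) * c⁻¹ = (r * b r * b (b r)) * ε := by
    have h1 : c * (r * b r * b (b r)) * c⁻¹ = (c * r * c⁻¹) * (c * b r * c⁻¹) * (c * b (b r) * c⁻¹) := by
      group
    rw [h1, e1, e2, e3]
    have h2 := hcen ε hεS _ (D.bR hr)
    have h3 := hcen ε hεS _ (D.bR (D.bR hr))
    have h4 : ε * ε = 1 := by rw [← pow_two]; exact hsq ε hεS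
    calc r * ε * (b r * ε) * (b (b r) * ε) = r * (ε * b r) * (ε * b (b r)) * ε := by
          simp only [mul_assoc]
      _ = r * (b r * ε) * (b (b r) * ε) * ε := by rw [h2, h3]
      _ = r * b r * (ε * b (b r)) * (ε * ε) := by simp only [mul_assoc]
      _ = r * b r * (b (b r) * ε) * (ε * ε) := by rw [h3]
      _ = _ := by rw [h4, mul_one]; simp only [mul_assoc]
  rw [e4] at e5
  have e6 : ε = 1 := mul_eq_left.1 e5.symm
  rw [e6, mul_one, mul_inv_eq_iff_eq_mul] at e1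
  exact e1

/-- the centralizer of `R` is commutative -/
theorem centralizer_comm {x y : G} (hx : ∀ r ∈ Rr Q b, x * r = r * x)
    (hy : ∀ r ∈ Rr Q b, y * r = r * y) : x * y = y * x := by
  obtain ⟨c₀, hc₀, hgen⟩ := D.exists_gen A
  have hc := D.C_comm A hz₀ hz₀2 hz₀c hS
  obtain ⟨k, r, hr, rfl⟩ := hgen x (D.centralizer_le A hx)
  obtain ⟨l, s, hs, rfl⟩ := hgen y (D.centralizer_le A hy)
  have e1 : Commute r (c₀ ^ l) := ((show Commute c₀ r from hc c₀ hc₀ r hr).zpow_left l).symm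
  have e2 : Commute s (c₀ ^ k) := ((show Commute c₀ s from hc c₀ hc₀ s hs).zpow_left k).symm
  have e3 : r * s = s * r := by
    have h1 := hx s hs
    have h2 : c₀ ^ k * (r * s) = c₀ ^ k * (s * r) := by
      calc c₀ ^ k * (r * s) = c₀ ^ k * r * s := by group
        _ = s * (c₀ ^ k * r) := h1
        _ = (s * c₀ ^ k) * r := by group
        _ = (c₀ ^ k * s) * r := by rw [e2.eq]
        _ = _ := by group
    exact mul_left_cancel h2
  calc c₀ ^ k * r * (c₀ ^ l * s) = c₀ ^ k * (r * c₀ ^ l) * s := by group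
    _ = c₀ ^ k * (c₀ ^ l * r) * s := by rw [e1.eq]
    _ = (c₀ ^ k * c₀ ^ l) * (r * s) := by group
    _ = (c₀ ^ l * c₀ ^ k) * (s * r) := by rw [e3, ← zpow_add, ← zpow_add, add_comm]
    _ = c₀ ^ l * (c₀ ^ k * s) * r := by group
    _ = c₀ ^ l * (s * c₀ ^ k) * r := by rw [e2.eq]
    _ = _ := by group

/-- `C ∩ Sq ⊤ ≤ R` if `R ≤ Sq ⊤` -/
theorem C_inf_le (hRS : Rr Q b ≤ Sq (⊤ : Subgroup G)) : ∀ c ∈ D.C, c ∈ Sq (⊤ : Subgroup G) →
    c ∈ Rr Q b := by
  have hG := A.two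
  have hcom := D.C_comm A hz₀ hz₀2 hz₀c hS
  have key : ∀ k : ℕ, ∀ c ∈ D.C, c ∈ Sq (⊤ : Subgroup G) → c ^ 2 ^ k = 1 → c ∈ Rr Q b := by
    intro k
    induction k with
    | zero =>
      intro c _ _ h
      rw [pow_zero, pow_one] at h
      rw [h]; exact one_mem _
    | succ k ih =>
      intro c hc hcS h
      have h1 := ih (c ^ 2) (pow_mem hc 2) (pow_mem hcS 2)
        (by rw [← pow_mul, ← h]; congr 1; ring)
      have h2 : c ^ 2 ∈ Sq (Rr Q b) := by
        refine D.mem_Sq_of_fixed hG h1 ?_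
        have : b (c ^ 2) = c ^ 2 := (D.C.pow_mem hc 2).2
        rw [this, inv_mul_cancel]
        exact one_mem _
      by_contra hcR
      let K : Subgroup G :=
        { carrier := {x | x ∈ Rr Q b ∨ c⁻¹ * x ∈ Rr Q b}
          one_mem' := Or.inl (one_mem _)
          mul_mem' := by
            rintro x y (hx | hx) (hy | hy)
            · exact Or.inl (mul_mem hx hy)
            · refine Or.inr ?_
              have h3 : c⁻¹ * (x * y) = (c⁻¹ * x * c) * (c⁻¹ * y) := by group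
              rw [h3]
              refine mul_mem ?_ hy
              have := D.QR (inv_mem hc.1) hx
              rwa [inv_inv] at this
            · refine Or.inr ?_
              rw [← mul_assoc]
              exact mul_mem hx hy
            · refine Or.inl ?_
              have h3 : x * y = c ^ 2 * ((c⁻¹ * (c⁻¹ * x) * c) * (c⁻¹ * y)) := by
                rw [pow_two]; group
              rw [h3]
              refine mul_mem h1 (mul_mem ?_ hy)
              have := D.QR (inv_mem hc.1) hx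
              rwa [inv_inv] at this
          inv_mem' := by
            rintro x (hx | hx)
            · exact Or.inl (inv_mem hx)
            · refine Or.inr ?_
              have h3 : c⁻¹ * x⁻¹ = (c ^ 2)⁻¹ * (c * (c⁻¹ * x)⁻¹ * c⁻¹) := by
                rw [pow_two]; group
              rw [h3]
              exact mul_mem (inv_mem h1) (D.QR hc.1 (inv_mem hx)) }
      have hRK : Rr Q b ≤ K := fun x hx => Or.inl hx
      have hcK : c ∈ K := Or.inr (by rw [inv_mul_cancel]; exact one_mem _)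
      have hKrep : ∀ x ∈ K, ∃ r ∈ Rr Q b, x = r ∨ x = c * r := by
        rintro x (hx | hx)
        · exact ⟨x, hx, Or.inl rfl⟩
        · exact ⟨_, hx, Or.inr (by group)⟩
      have hKS : K ≤ Sq ⊤ := by
        intro x hx
        obtain ⟨r, hr, h | h⟩ := hKrep x hx
        · rw [h]; exact hRS hr
        · rw [h]; exact mul_mem hcS (hRS hr)
      have hle := relIndex_le_four A.met hKS (B := Sq (Rr Q b)) (fun x hx s hs _ => by
        obtain ⟨r, hr, h | h⟩ := hKrep x hx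
        · rw [h]; exact SqR_conj hr hs
        · rw [h]
          have h3 : c * r * s * (c * r)⁻¹ = c * (r * s * r⁻¹) * c⁻¹ := by group
          rw [h3]
          exact conj_mem_Sq (fun h hh => D.QR hc.1 hh) (SqR_conj hr hs))
        (fun x hx => by
        obtain ⟨r, hr, h | h⟩ := hKrep x hx
        · rw [h]; exact sq_mem_Sq hr
        · rw [h, (show Commute c r from hcom c hc r hr).mul_pow]
          exact mul_mem h2 (sq_mem_Sq hr))
      have h4 := relIndex_mul_relIndex (Sq (Rr Q b)) (Rr Q b) K (Sq_le _) hRK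
      rw [D.relIndex_SqR A] at h4
      have h5 : (Rr Q b).relIndex K ≠ 1 := fun h => hcR (relIndex_eq_one.1 h hcK)
      have h6 : (Rr Q b).relIndex K ≠ 0 := relIndex_ne_zero' _ _
      omega
  intro c hc hcS
  obtain ⟨k, hk⟩ := hG c
  exact key k c hc hcS hk

end small

end Dat

end Cfsg.Agent.H774
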