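import Cfsg.Agent.H774.DatS

/-!
# The case `R ≤ Φ(G)`, `R` a four-group or quaternion (helper774)
-/

set_option autoImplicit false
set_option linter.unusedSectionVars false

namespace Cfsg.Agent.H774

open Subgroup Cfsg.Agent.OddOrderLocal.Metacyclic

/-- The facts on `R ≅ Q₈` -/
structure Quat {G : Type*} [Group G] (R : Subgroup G) (z : G) : Prop where
  zS : z ∈ Sq R
  ne : z ≠ 1
  sq : z ^ 2 = 1
  cen : ∀ r ∈ R, z * r = r * z
  inv : ∀ r ∈ R, r ^ 2 = 1 → r = 1 ∨ r = z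
  four : ∀ r ∈ R, r ^ 2 = 1 ∨ r ^ 2 = z
  alt : ∀ r ∈ R, ∀ s ∈ R, r * s = s * r ∨ s * r * s⁻¹ = r⁻¹
  ctr : ∀ r ∈ R, (∀ s ∈ R, r * s = s * r) → r = 1 ∨ r = z

theorem exists_quat {G : Type*} [Group G] {R : Subgroup G} (e : R ≃* QuaternionGroup 2) :
    ∃ z, Quat R z := by
  set z : R := e.symm (QuaternionGroup.a 2) with hz
  have hez : e z = QuaternionGroup.a 2 := e.apply_symm_apply _
  have tr : ∀ x y : R, e x = e y → x = y := fun x y h => e.injective h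
  have hzs : z = (e.symm (QuaternionGroup.a 1)) ^ 2 := by
    apply tr
    rw [hez, map_pow, e.apply_symm_apply]; decide
  refine ⟨z, ⟨?_, ?_, ?_, ?_, ?_, ?_, ?_, ?_⟩⟩
  · have h1 : (z : G) = ((e.symm (QuaternionGroup.a 1) : R) : G) ^ 2 := congrArg Subtype.val hzs
    rw [h1]
    exact sq_mem_Sq (e.symm (QuaternionGroup.a 1)).2
  · intro h
    have h1 : z = 1 := Subtype.ext h
    have h2 := hez
    rw [h1, map_one] at h2
    exact absurd h2 (by decide)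
  · have h1 : z ^ 2 = 1 := by
      apply tr
      rw [map_pow, hez, map_one]; decide
    exact congrArg Subtype.val h1
  · intro r hr
    have h1 : z * ⟨r, hr⟩ = ⟨r, hr⟩ * z := by
      apply tr
      rw [map_mul, map_mul, hez]
      generalize e ⟨r, hr⟩ = g
      revert g; decide
    exact congrArg Subtype.val h1
  · intro r hr h
    have h1 : (e ⟨r, hr⟩) ^ 2 = 1 := by
      rw [← map_pow, ← map_one e]
      exact congrArg e (Subtype.ext h)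
    have h2 : e ⟨r, hr⟩ = 1 ∨ e ⟨r, hr⟩ = QuaternionGroup.a 2 := by
      revert h1
      generalize e ⟨r, hr⟩ = g
      revert g; decide
    rcases h2 with h2 | h2
    · exact Or.inl (congrArg Subtype.val (tr ⟨r, hr⟩ 1 (by rw [h2, map_one])))
    · exact Or.inr (congrArg Subtype.val (tr ⟨r, hr⟩ z (by rw [h2, hez])))
  · intro r hr
    have h2 : (e ⟨r, hr⟩) ^ 2 = 1 ∨ (e ⟨r, hr⟩) ^ 2 = QuaternionGroup.a 2 := by
      generalize e ⟨r, hr⟩ = g
      revert g; decide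
    rcases h2 with h2 | h2
    · exact Or.inl (congrArg Subtype.val (tr (⟨r, hr⟩ ^ 2) 1 (by rw [map_pow, h2, map_one])))
    · exact Or.inr (congrArg Subtype.val (tr (⟨r, hr⟩ ^ 2) z (by rw [map_pow, h2, hez])))
  · intro r hr s hs
    have h2 : ∀ g h : QuaternionGroup 2, g * h = h * g ∨ h * g * h⁻¹ = g⁻¹ := by decide
    rcases h2 (e ⟨r, hr⟩) (e ⟨s, hs⟩) with h2 | h2
    · left
      have h3 : (⟨r, hr⟩ * ⟨s, hs⟩ : R) = ⟨s, hs⟩ * ⟨r, hr⟩ := tr _ _ (by rw [map_mul, map_mul, h2])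
      exact congrArg Subtype.val h3
    · right
      have h3 : (⟨s, hs⟩ * ⟨r, hr⟩ * (⟨s, hs⟩)⁻¹ : R) = (⟨r, hr⟩)⁻¹ := tr _ _ (by
        rw [map_mul, map_mul, map_inv, map_inv, h2])
      exact congrArg Subtype.val h3
  · intro r hr h
    have h1 : ∀ s, e ⟨r, hr⟩ * s = s * e ⟨r, hr⟩ := by
      intro s
      have h3 : (⟨r, hr⟩ * e.symm s : R) = e.symm s * ⟨r, hr⟩ :=
        Subtype.ext (h _ (e.symm s).2)
      have h4 := congrArg e h3
      rwa [map_mul, map_mul, e.apply_symm_apply] at h4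
    have h2 : e ⟨r, hr⟩ = 1 ∨ e ⟨r, hr⟩ = QuaternionGroup.a 2 := by
      revert h1
      generalize e ⟨r, hr⟩ = g
      revert g; decide
    rcases h2 with h2 | h2
    · exact Or.inl (congrArg Subtype.val (tr ⟨r, hr⟩ 1 (by rw [h2, map_one])))
    · exact Or.inr (congrArg Subtype.val (tr ⟨r, hr⟩ z (by rw [h2, hez])))

theorem Quat.mem_Sq {G : Type*} [Group G] {R : Subgroup G} {z : G} (h : Quat R z) {x : G}
    (hx : x ∈ Sq R) : x = 1 ∨ x = z := by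
  refine Subgroup.closure_induction (p := fun x _ => x = 1 ∨ x = z) ?_ ?_ ?_ ?_ hx
  · rintro _ ⟨r, hr, rfl⟩
    exact h.four r hr
  · exact Or.inl rfl
  · rintro a c - - (rfl | rfl) (rfl | rfl)
    · left; simp
    · right; simp
    · right; simp
    · left; rw [← pow_two, h.sq]
  · rintro a - (rfl | rfl)
    · left; simp
    · right; exact inv_eq_of_mul_eq_one_left (by rw [← pow_two, h.sq])

namespace Dat

variable {G : Type*} [Group G] [Finite G] {Q : Subgroup G} {t : G} {b : G → G}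

/-- a central involution and a further element, central modulo it, in `Sq ⊤`. -/
theorem exists_uz (D : Dat Q t b) (A : Amb G) (hRS : Rr Q b ≤ Sq (⊤ : Subgroup G)) :
    ∃ k₀ u₀ : G, k₀ ∈ Sq (⊤ : Subgroup G) ∧ k₀ ≠ 1 ∧ (∀ g : G, k₀ * g = g * k₀) ∧
      u₀ ∈ Sq (⊤ : Subgroup G) ∧ u₀ ≠ 1 ∧ u₀ ≠ k₀ ∧ (∀ g : G, g * u₀ * g⁻¹ = u₀ ∨ g * u₀ * g⁻¹ = k₀ * u₀) ∧
      ∀ s ∈ Sq (⊤ : Subgroup G), s * u₀ = u₀ * s := by
  have hG := A.two
  have : Fact (Nat.Prime 2) := ⟨Nat.prime_two⟩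
  have hn : (Sq (⊤ : Subgroup G)).Normal := Sq_normal
  obtain ⟨g, hgR, hg⟩ := D.exists_notMem hG
  obtain ⟨hbg, hgbg⟩ := D.b_notMem hG hgR hg
  have hne : Sq (⊤ : Subgroup G) ≠ ⊥ := by
    intro h
    have h1 := hRS hgR
    rw [h, mem_bot] at h1
    exact hg (h1 ▸ one_mem _)
  obtain ⟨k₀, hk₀S, hk₀c, hk₀o⟩ := Involutions.NormalFour.exists_mem_center_of_normal hG _ hne
  have hk₀2 : k₀ ^ 2 = 1 := by rw [← hk₀o]; exact pow_orderOf_eq_one k₀
  have hk₀1 : k₀ ≠ 1 := by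
    rintro rfl
    rw [orderOf_one] at hk₀o
    omega
  have hcen : ∀ g : G, k₀ * g = g * k₀ := fun g => (mem_center_iff.1 hk₀c g).symm
  have hz : ∀ x ∈ zpowers k₀, x = 1 ∨ x = k₀ := by
    rintro _ ⟨k, rfl⟩
    have h2 : ∀ n : ℤ, k₀ ^ (2 * n) = 1 := by
      intro n
      rw [zpow_mul]
      have : k₀ ^ (2 : ℤ) = 1 := by exact_mod_cast hk₀2
      rw [this, one_zpow]
    rcases Int.even_or_odd k with ⟨s, hs⟩ | ⟨s, hs⟩
    · left
      show k₀ ^ k = 1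
      rw [hs, ← two_mul, h2]
    · right
      show k₀ ^ k = k₀
      rw [hs, zpow_add, h2, one_mul, zpow_one]
  have hzn : (zpowers k₀).Normal := by
    refine ⟨?_⟩
    rintro _ ⟨k, rfl⟩ g
    show g * k₀ ^ k * g⁻¹ ∈ zpowers k₀
    rw [((show Commute k₀ g from hcen g).zpow_left k).eq.symm, mul_inv_cancel_right]
    exact ⟨k, rfl⟩
  let f := QuotientGroup.mk' (zpowers k₀)
  have hf1 : ∀ a, f a = 1 ↔ a ∈ zpowers k₀ := fun a => QuotientGroup.eq_one_iff a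
  have hN : (Sq (⊤ : Subgroup G)).map f ≠ ⊥ := by
    intro h
    have h1 : ∀ x ∈ Rr Q b, x ∈ zpowers k₀ := by
      intro x hx
      have h2 : f x ∈ (Sq (⊤ : Subgroup G)).map f := mem_map_of_mem f (hRS hx)
      rw [h, mem_bot] at h2
      exact (hf1 x).1 h2
    rcases hz _ (h1 g hgR) with h2 | h2
    · exact hg (h2 ▸ one_mem _)
    · rcases hz _ (h1 _ (D.bR hgR)) with h3 | h3
      · exact hbg (h3 ▸ one_mem _)
      · apply hgbg
        rw [h2] at h3 ⊢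
        rw [h3, inv_mul_cancel]
        exact one_mem _
  have hNn : ((Sq (⊤ : Subgroup G)).map f).Normal := hn.map f (QuotientGroup.mk'_surjective _)
  obtain ⟨w, hwN, hwc, hwo⟩ := Involutions.NormalFour.exists_mem_center_of_normal
    (hG.to_quotient (zpowers k₀)) _ hN
  obtain ⟨u₀, hu₀, rfl⟩ := hwN
  have hu₀z : u₀ ∉ zpowers k₀ := by
    intro h
    rw [(hf1 u₀).2 h, orderOf_one] at hwo
    omega
  have hcon : ∀ g : G, g * u₀ * g⁻¹ = u₀ ∨ g * u₀ * g⁻¹ = k₀ * u₀ := by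
    intro g
    have h1 := mem_center_iff.1 hwc (f g)
    have h2 : f (g * u₀ * g⁻¹ * u₀⁻¹) = 1 := by
      rw [map_mul, map_mul, map_mul, map_inv, map_inv, h1]; group
    rcases hz _ ((hf1 _).1 h2) with h3 | h3
    · exact Or.inl (mul_inv_eq_one.1 h3)
    · exact Or.inr (mul_inv_eq_iff_eq_mul.1 h3)
  refine ⟨k₀, u₀, hk₀S, hk₀1, hcen, hu₀, fun h => hu₀z (h ▸ one_mem _),
    fun h => hu₀z (h ▸ mem_zpowers _), hcon, ?_⟩
  have hle : Sq (⊤ : Subgroup G) ≤ centralizer ({u₀} : Set G) := by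
    rw [Sq_le_iff]
    intro g _
    rw [mem_centralizer_singleton_iff]
    have h1 : g * (g * u₀ * g⁻¹) * g⁻¹ = u₀ := by
      rcases hcon g with h | h
      · rw [h, h]
      · rw [h]
        have h2 : g * (k₀ * u₀) * g⁻¹ = k₀ * (g * u₀ * g⁻¹) := by
          rw [← mul_assoc, ← hcen g]; group
        rw [h2, h, ← mul_assoc, ← pow_two, hk₀2, one_mul]
    have h2 : g ^ 2 * u₀ = (g * (g * u₀ * g⁻¹) * g⁻¹) * g ^ 2 := by rw [pow_two]; group
    rw [h2, h1]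
  intro s hs
  exact mem_centralizer_singleton_iff.1 (hle hs)

theorem mem_R_of_comm (D : Dat Q t b) (A : Amb G) {z₀ : G} (hz₀ : z₀ ∈ Sq (Rr Q b)) (hz₀2 : z₀ ^ 2 = 1)
    (hz₀c : ∀ r ∈ Rr Q b, z₀ * r = r * z₀) (hS : ∀ x ∈ Sq (Rr Q b), x = 1 ∨ x = z₀)
    (hRS : Rr Q b ≤ Sq (⊤ : Subgroup G)) {x : G} (hxS : x ∈ Sq (⊤ : Subgroup G))
    (hx : ∀ r ∈ Rr Q b, x * r = r * x) : x ∈ Rr Q b := by
  have hxQ := D.centralizer_le A hx
  obtain ⟨c, hc, hc1, r, hr, hcr⟩ := D.exists_mul A.two hxQ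
  have h1 : c = x * r⁻¹ := by rw [hcr]; group
  have h2 : c ∈ Sq (⊤ : Subgroup G) := by
    rw [h1]; exact mul_mem hxS (inv_mem (hRS hr))
  have h3 := D.C_inf_le A hz₀ hz₀2 hz₀c hS hRS c ⟨hc, hc1⟩ h2
  rw [hcr]
  exact mul_mem h3 hr

/-- `R` a four-group in `Sq ⊤`: impossible. -/
theorem false_four (D : Dat Q t b) (A : Amb G) (hV : ∀ r ∈ Rr Q b, r ^ 2 = 1)
    (hRS : Rr Q b ≤ Sq (⊤ : Subgroup G)) : False := by
  have hG := A.two
  have hS1 : ∀ x ∈ Sq (Rr Q b), x = 1 := by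
    have : Sq (Rr Q b) ≤ ⊥ := by
      rw [Sq_le_iff]
      intro r hr
      rw [mem_bot]
      exact hV r hr
    intro x hx
    exact mem_bot.1 (this hx)
  have hS : ∀ x ∈ Sq (Rr Q b), x = 1 ∨ x = 1 := fun x hx => Or.inl (hS1 x hx)
  have hc1 : ∀ r ∈ Rr Q b, (1 : G) * r = r * 1 := fun r _ => by simp
  have hab : ∀ r ∈ Rr Q b, ∀ s ∈ Rr Q b, r * s = s * r := by
    intro r hr s hs
    have h1 := hS1 _ (comm_mem_Sq hr hs)
    exact mul_inv_eq_iff_eq_mul.1 (mul_inv_eq_one.1 h1)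
  obtain ⟨k₀, u₀, hk₀S, hk₀1, hk₀c, hu₀S, hu₀1, hu₀k, hu₀g, hu₀S'⟩ := D.exists_uz A hRS
  have hk₀R : k₀ ∈ Rr Q b :=
    D.mem_R_of_comm A (one_mem _) (one_pow 2) hc1 hS hRS hk₀S (fun r _ => hk₀c r)
  have hu₀R : u₀ ∈ Rr Q b :=
    D.mem_R_of_comm A (one_mem _) (one_pow 2) hc1 hS hRS hu₀S (fun r hr => (hu₀S' r (hRS hr)).symm)
  have hRn : ∀ g : G, ∀ r ∈ Rr Q b, g * r * g⁻¹ ∈ Rr Q b := by
    intro g r hr
    have hu : g * u₀ * g⁻¹ ∈ Rr Q b := by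
      rcases hu₀g g with h | h
      · rw [h]; exact hu₀R
      · rw [h]; exact mul_mem hk₀R hu₀R
    have hk : g * k₀ * g⁻¹ = k₀ := by rw [← hk₀c g]; group
    rcases D.cosets A hk₀R hu₀R (fun h => hk₀1 (hS1 _ h)) (fun h => hu₀1 (hS1 _ h))
      (fun h => hu₀k (inv_mul_eq_one.1 (hS1 _ h)).symm) hr with h | h | h | h
    · rw [hS1 _ h]; simp
    · have := hS1 _ h
      rw [← inv_mul_eq_one.1 this, hk]
      exact hk₀R
    · have := hS1 _ h
      rw [← inv_mul_eq_one.1 this]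
      exact hu
    · have := hS1 _ h
      rw [← inv_mul_eq_one.1 this]
      have h1 : g * (k₀ * u₀) * g⁻¹ = (g * k₀ * g⁻¹) * (g * u₀ * g⁻¹) := by group
      rw [h1, hk]
      exact mul_mem hk₀R hu
  have hQR : ∀ q ∈ Q, ∀ r ∈ Rr Q b, q * r = r * q := by
    intro q hq r hr
    obtain ⟨c, hc, hc', s, hs, rfl⟩ := D.exists_mul hG hq
    have h1 := D.C_comm A (one_mem _) (one_pow 2) hc1 hS c ⟨hc, hc'⟩ r hr
    rw [mul_assoc, hab s hs r hr, ← mul_assoc, h1, mul_assoc]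
  have hQn : ∀ g : G, ∀ q ∈ Q, g * q * g⁻¹ ∈ Q := by
    intro g q hq
    refine D.centralizer_le A fun r hr => ?_
    have h1 := hRn g⁻¹ r hr
    rw [inv_inv] at h1
    have h2 := hQR q hq _ h1
    calc g * q * g⁻¹ * r = g * (q * (g⁻¹ * r * g)) * g⁻¹ := by group
      _ = g * ((g⁻¹ * r * g) * q) * g⁻¹ := by rw [h2]
      _ = _ := by group
  refine D.false_of_normal A hQn (fun c hc hcS => ?_) (fun r hr => hRS hr)
  have h1 := D.C_inf_le A (one_mem _) (one_pow 2) hc1 hS hRS c hc hcS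
  refine hS1 _ (D.mem_Sq_of_fixed hG h1 ?_)
  rw [hc.2, inv_mul_cancel]
  exact one_mem _

/-- `R` quaternion in `Sq ⊤`: impossible. -/
theorem false_quat (D : Dat Q t b) (A : Amb G) {z : G} (hq : Quat (Rr Q b) z)
    (hRS : Rr Q b ≤ Sq (⊤ : Subgroup G)) : False := by
  obtain ⟨k₀, u₀, hk₀S, hk₀1, hk₀c, hu₀S, hu₀1, hu₀k, hu₀g, hu₀S'⟩ := D.exists_uz A hRS
  have hS : ∀ x ∈ Sq (Rr Q b), x = 1 ∨ x = z := fun x hx => hq.mem_Sq hx
  have hk₀R : k₀ ∈ Rr Q b :=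
    D.mem_R_of_comm A hq.zS hq.sq hq.cen hS hRS hk₀S (fun r _ => hk₀c r)
  have hu₀R : u₀ ∈ Rr Q b :=
    D.mem_R_of_comm A hq.zS hq.sq hq.cen hS hRS hu₀S (fun r hr => (hu₀S' r (hRS hr)).symm)
  rcases hq.ctr k₀ hk₀R (fun s _ => hk₀c s) with h | h
  · exact hk₀1 h
  · rcases hq.ctr u₀ hu₀R (fun s hs => (hu₀S' s (hRS hs)).symm) with h' | h'
    · exact hu₀1 h'
    · exact hu₀k (h'.trans h.symm)

end Dat

end Cfsg.Agent.H774
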