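import Cfsg.Agent.H774.DatSa

/-!
# The case `R ≰ Φ(G)`, `R` a four-group or quaternion (helper774)
-/

set_option autoImplicit false
set_option linter.unusedSectionVars false

namespace Cfsg.Agent.H774

open Subgroup Cfsg.Agent.OddOrderLocal.Metacyclic

namespace Dat

variable {G : Type*} [Group G] [Finite G] {Q : Subgroup G} {t : G} {b : G → G}

/-- The element `u ∈ R ∩ G'` and `v ∈ R ∖ Φ(G)`. -/
theorem exists_uv (D : Dat Q t b) (A : Amb G) (hRS : ¬ Rr Q b ≤ Sq (⊤ : Subgroup G)) :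
    ∃ u v : G, u ∈ Rr Q b ∧ v ∈ Rr Q b ∧ v ∉ Sq (⊤ : Subgroup G) ∧ u ∈ _root_.commutator G ∧
      u ∉ Sq (Rr Q b) := by
  have hG := A.two
  obtain ⟨v, hvR, hvS⟩ := SetLike.not_le_iff_exists.1 hRS
  refine ⟨v⁻¹ * (t * v * t⁻¹), v, mul_mem (inv_mem hvR) (D.tR hvR), hvR, hvS, ?_, ?_⟩
  · have h1 : v⁻¹ * (t * v * t⁻¹) = v⁻¹ * t * (v⁻¹)⁻¹ * t⁻¹ := by group
    rw [h1]
    exact comm_mem_commutator _ _
  · intro hu
    have hvS' : v ∉ Sq (Rr Q b) := fun h => hvS (Sq_mono le_top h)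
    obtain ⟨u', hu'R, hu'S, hu'⟩ : ∃ u' ∈ Rr Q b, u' ∈ Sq (⊤ : Subgroup G) ∧ u' ∉ Sq (Rr Q b) := by
      by_contra hall
      push Not at hall
      have h1 := A.rel _ D.R_ne_top
      have h2 : (Sq (⊤ : Subgroup G)).relIndex (Rr Q b) = (Sq (Rr Q b)).relIndex (Rr Q b) := by
        rw [← inf_relIndex_right, ← inf_relIndex_right (Sq (Rr Q b))]
        congr 1
        apply le_antisymm
        · exact fun x hx => ⟨hall x hx.2 hx.1, hx.2⟩
        · exact fun x hx => ⟨Sq_mono le_top hx.1, hx.2⟩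
      rw [h2, D.relIndex_SqR A] at h1
      omega
    have hu'v : u'⁻¹ * v ∉ Sq (Rr Q b) := by
      intro h
      apply hvS
      have := mul_mem hu'S (Sq_mono le_top h : u'⁻¹ * v ∈ Sq (⊤ : Subgroup G))
      rwa [mul_inv_cancel_left] at this
    have hk : t * u' * t⁻¹ ∈ Sq (⊤ : Subgroup G) := Amb.Sq_conj hu'S t
    have htR : ∀ r ∈ Rr Q b, t * r * t⁻¹ ∈ Rr Q b := fun r hr => D.tR hr
    have hu'1 : u'⁻¹ * (t * u' * t⁻¹) ∈ Sq (Rr Q b) := by
      rcases D.cosets A hu'R hvR hu' hvS' hu'v (D.tR hu'R) with h | h | h | h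
      · exfalso
        apply hu'
        have h1 : t⁻¹ * (t * u' * t⁻¹) * t = u' := by group
        rw [← h1]
        have h2 := conj_mem_Sq (g := t⁻¹) (H := Rr Q b)
          (fun h hh => by rw [inv_inv]; exact conj_eq_of_le htR hh) h
        rwa [inv_inv] at h2
      · exact h
      · exfalso
        apply hvS
        have h1 := mul_mem hk (inv_mem (Sq_mono le_top h : v⁻¹ * (t * u' * t⁻¹) ∈ Sq (⊤ : Subgroup G)))
        have h2 : t * u' * t⁻¹ * (v⁻¹ * (t * u' * t⁻¹))⁻¹ = v := by group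
        rwa [h2] at h1
      · exfalso
        apply hvS
        have h1 := mul_mem (inv_mem hu'S) (mul_mem hk (inv_mem
          (Sq_mono le_top h : (u' * v)⁻¹ * (t * u' * t⁻¹) ∈ Sq (⊤ : Subgroup G))))
        have h2 : u'⁻¹ * (t * u' * t⁻¹ * ((u' * v)⁻¹ * (t * u' * t⁻¹))⁻¹) = v := by group
        rwa [h2] at h1
    exact D.tQ (D.mem_Q_of_trivial A D.tN (D.trivial_of_two A htR hu'R hvR hu' hvS' hu'v hu'1 hu))

/-- The configuration used in the last part. -/
structure UV {G : Type*} [Group G] (Q : Subgroup G) (b : G → G) (u v z : G) : Prop where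
  uR : u ∈ Rr Q b
  vR : v ∈ Rr Q b
  vS : v ∉ Sq (⊤ : Subgroup G)
  uA : u ∈ _root_.commutator G
  zR : z ∈ Rr Q b
  zA : z ∈ _root_.commutator G
  z2 : z ^ 2 = 1
  z1 : z ≠ 1
  cenQ : ∀ x : G, x * u = u * x → x * v = v * x → x ∈ Q
  cenC : ∀ x y : G, x * u = u * x → x * v = v * x → y * u = u * y → y * v = v * y → x * y = y * x
  fac : ∀ q ∈ Q, ∃ c r : G, c * u = u * c ∧ c * v = v * c ∧ r ∈ Rr Q b ∧ q = c * r
  two : ∀ y ∈ _root_.commutator G, y ^ 2 = 1 → y ∈ Rr Q b → y = 1 ∨ y = z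

variable {u v z : G}

/-- Elements normalizing `⟨v⟩J` normalize `Q`. -/
theorem normalizes (D : Dat Q t b) (A : Amb G) (U : UV Q b u v z) (J : Subgroup G)
    (hJA : J ≤ _root_.commutator G)
    (hJ : ∀ a ∈ J, ∃ y ∈ _root_.commutator G, y * v = v * y ∧ (a = y ∨ a = u * y))
    (hgen : ∀ r ∈ Rr Q b, r ∈ J ∨ v⁻¹ * r ∈ J) (huJ : u ∈ J) {g : G}
    (hg : ∀ a ∈ J, g * a * g⁻¹ ∈ J) {y : G} (hy : y ∈ J) (hgv : g * v * g⁻¹ = v * y) :
    ∀ q ∈ Q, g * q * g⁻¹ ∈ Q := by
  have hyQ : ∀ y ∈ _root_.commutator G, y * v = v * y → y ∈ Q := fun y hy hyv =>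
    U.cenQ y (A.com y hy u U.uA) hyv
  have hJQ : ∀ a ∈ J, a ∈ Q := by
    intro a ha
    obtain ⟨y, hy, hyv, h | h⟩ := hJ a ha
    · rw [h]; exact hyQ y hy hyv
    · rw [h]; exact mul_mem (D.R_le U.uR) (hyQ y hy hyv)
  have hvQ : v ∈ Q := D.R_le U.vR
  have hcJ : ∀ c, c * u = u * c → c * v = v * c → ∀ a ∈ J, c * a = a * c := by
    intro c hcu hcv a ha
    obtain ⟨y, hy, hyv, h | h⟩ := hJ a ha
    · rw [h]; exact U.cenC c y hcu hcv (A.com y hy u U.uA) hyv
    · rw [h, ← mul_assoc, hcu, mul_assoc, U.cenC c y hcu hcv (A.com y hy u U.uA) hyv, mul_assoc]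
  have hg' : ∀ a ∈ J, g⁻¹ * a * g ∈ J := fun a ha => conj_eq_of_le hg ha
  intro q hq
  obtain ⟨c, r, hcu, hcv, hr, rfl⟩ := U.fac q hq
  have h1 : g * (c * r) * g⁻¹ = (g * c * g⁻¹) * (g * r * g⁻¹) := by group
  rw [h1]
  refine mul_mem ?_ ?_
  · refine U.cenQ _ ?_ ?_
    · have h2 := hcJ c hcu hcv _ (hg' u huJ)
      calc g * c * g⁻¹ * u = g * (c * (g⁻¹ * u * g)) * g⁻¹ := by group
        _ = g * ((g⁻¹ * u * g) * c) * g⁻¹ := by rw [h2]
        _ = _ := by group
    · have h3 : g⁻¹ * v * g = v * (g⁻¹ * y * g)⁻¹ := by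
        have h4 : v = (g⁻¹ * v * g) * (g⁻¹ * y * g) := by
          calc v = g⁻¹ * (g * v * g⁻¹) * g := by group
            _ = g⁻¹ * (v * y) * g := by rw [hgv]
            _ = _ := by group
        nth_rewrite 2 [h4]
        group
      have h2 : c * (g⁻¹ * v * g) = (g⁻¹ * v * g) * c := by
        rw [h3, ← mul_assoc, hcv, mul_assoc, hcJ c hcu hcv _ (inv_mem (hg' y hy)), ← mul_assoc]
      calc g * c * g⁻¹ * v = g * (c * (g⁻¹ * v * g)) * g⁻¹ := by group
        _ = g * ((g⁻¹ * v * g) * c) * g⁻¹ := by rw [h2]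
        _ = _ := by group
  · rcases hgen r hr with h | h
    · exact hJQ _ (hg r h)
    · have h2 : g * r * g⁻¹ = (g * v * g⁻¹) * (g * (v⁻¹ * r) * g⁻¹) := by group
      rw [h2, hgv]
      exact mul_mem (mul_mem hvQ (hJQ y hy)) (hJQ _ (hg _ h))

/-- the main argument: `G'` is cyclic. -/
theorem isCyclic_of_UV (D : Dat Q t b) (A : Amb G) (U : UV Q b u v z)
    (hv2 : ∀ g : G, v ^ 2 * g = g * v ^ 2) (hv4 : v ^ 4 = 1) (hu2 : u ^ 2 = 1 ∨ u ^ 2 = v ^ 2)
    (hJ : ∀ a ∈ _root_.commutator G, a ^ 2 = v ^ 2 → a ^ 2 = 1 ∨ (u⁻¹ * a) ^ 2 = 1)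
    (hgen : ∀ r ∈ Rr Q b, (r ∈ _root_.commutator G ∧ (r ^ 2 = 1 ∨ r ^ 2 = v ^ 2)) ∨
      (v⁻¹ * r ∈ _root_.commutator G ∧ ((v⁻¹ * r) ^ 2 = 1 ∨ (v⁻¹ * r) ^ 2 = v ^ 2))) :
    IsCyclic (_root_.commutator G) := by
  have hG := A.two
  set P := _root_.commutator G with hP
  have hPn : P.Normal := inferInstance
  have hPcomm : ∀ a ∈ P, ∀ c ∈ P, Commute a c := fun a ha c hc => A.com a ha c hc
  -- `w`
  obtain ⟨w, hw⟩ : ∃ w, Subgroup.closure {v, w} = ⊤ := by
    have hn : (Sq (⊤ : Subgroup G)).Normal := Sq_normal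
    obtain ⟨w, hw1, hw2⟩ : ∃ w, w ∉ Sq (⊤ : Subgroup G) ∧ v⁻¹ * w ∉ Sq (⊤ : Subgroup G) := by
      by_contra hall
      push Not at hall
      have hle : (Sq (⊤ : Subgroup G)).index ≤ 2 := by
        have h1 : Nat.card (G ⧸ Sq (⊤ : Subgroup G)) ≤ Nat.card (Fin 2) := by
          refine Nat.card_le_card_of_surjective
            (fun i : Fin 2 => if i = 0 then (1 : G ⧸ Sq (⊤ : Subgroup G)) else (v : G ⧸ Sq (⊤ : Subgroup G))) ?_
          intro x
          obtain ⟨x, rfl⟩ := QuotientGroup.mk_surjective x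
          by_cases hx : x ∈ Sq (⊤ : Subgroup G)
          · exact ⟨0, by simp only [if_true]; exact ((QuotientGroup.eq_one_iff x).2 hx).symm⟩
          · refine ⟨1, ?_⟩
            have : (1 : Fin 2) ≠ 0 := by decide
            simp only [this, if_false]
            exact QuotientGroup.eq.2 (hall x hx)
        have h2 : Nat.card (Fin 2) = 2 := by simp
        rw [h2] at h1
        exact h1
      rw [A.idx] at hle
      omega
    refine ⟨w, eq_of_le_sup_Sq (hG.to_subgroup ⊤) le_top ?_⟩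
    intro k _
    have hv' : v ∈ Subgroup.closure {v, w} ⊔ Sq (⊤ : Subgroup G) :=
      mem_sup_left (subset_closure (by simp))
    have hw' : w ∈ Subgroup.closure {v, w} ⊔ Sq (⊤ : Subgroup G) :=
      mem_sup_left (subset_closure (by simp))
    rcases coset_four A.idx (fun g => sq_mem_Sq (mem_top g)) U.vS hw1 hw2 k with h | h | h | h
    · exact mem_sup_right h
    · have := mul_mem hv' (mem_sup_right h : v⁻¹ * k ∈ Subgroup.closure {v, w} ⊔ Sq (⊤ : Subgroup G))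
      rwa [mul_inv_cancel_left] at this
    · have := mul_mem hw' (mem_sup_right h : w⁻¹ * k ∈ Subgroup.closure {v, w} ⊔ Sq (⊤ : Subgroup G))
      rwa [mul_inv_cancel_left] at this
    · have := mul_mem (mul_mem hv' hw')
        (mem_sup_right h : (v * w)⁻¹ * k ∈ Subgroup.closure {v, w} ⊔ Sq (⊤ : Subgroup G))
      rwa [mul_inv_cancel_left] at this
  set e := v * w * v⁻¹ * w⁻¹ with he
  have heP : e ∈ P := comm_mem_commutator v w
  -- every normal subgroup containing `e` contains `P`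
  have hPN : ∀ N : Subgroup G, N.Normal → e ∈ N → P ≤ N := by
    intro N hN heN
    rw [hP, _root_.commutator_def, commutator_le]
    intro a _ c _
    exact comm_mem_of_closure hw heN a c
  -- `v` inverts `P`
  have hinv : ∀ a ∈ P, v * a * v⁻¹ = a⁻¹ := by
    let N : Subgroup G :=
      { carrier := {a | a ∈ P ∧ v * a * v⁻¹ = a⁻¹}
        one_mem' := ⟨one_mem _, by simp⟩
        mul_mem' := by
          rintro x y ⟨hx, hx'⟩ ⟨hy, hy'⟩
          refine ⟨mul_mem hx hy, ?_⟩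
          have h1 : v * (x * y) * v⁻¹ = (v * x * v⁻¹) * (v * y * v⁻¹) := by group
          rw [h1, hx', hy', ← mul_inv_rev, (hPcomm y hy x hx).eq]
        inv_mem' := by
          rintro x ⟨hx, hx'⟩
          refine ⟨inv_mem hx, ?_⟩
          have h1 : v * x⁻¹ * v⁻¹ = (v * x * v⁻¹)⁻¹ := by group
          rw [h1, hx'] }
    have hN : N.Normal := by
      refine ⟨?_⟩
      rintro a ⟨ha, ha'⟩ g
      refine ⟨hPn.conj_mem a ha g, ?_⟩
      have hd : v⁻¹ * g⁻¹ * v * g ∈ P := by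
        have := comm_mem_commutator v⁻¹ g⁻¹
        rwa [inv_inv, inv_inv] at this
      set d := v⁻¹ * g⁻¹ * v * g with hd'
      have h1 : v * (g * a * g⁻¹) * v⁻¹ = g * (v * (d * a * d⁻¹) * v⁻¹) * g⁻¹ := by
        rw [hd']; group
      have h2 : d * a * d⁻¹ = a := by rw [(hPcomm d hd a ha).eq]; group
      rw [h1, h2, ha']
      group
    have heN : e ∈ N := by
      refine ⟨heP, ?_⟩
      have h1 : v * e * v⁻¹ = v ^ 2 * w * v⁻¹ * w⁻¹ * v⁻¹ := by
        rw [he, pow_two]; group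
      rw [h1, hv2 w, he, pow_two]; group
    intro a ha
    exact (hPN N hN heN ha).2
  have hinv' : ∀ a ∈ P, v⁻¹ * a * v = a⁻¹ := by
    intro a ha
    have h1 := hinv _ (inv_mem ha)
    rw [inv_inv] at h1
    calc v⁻¹ * a * v = v⁻¹ * (v * a⁻¹ * v⁻¹) * v := by rw [h1]
      _ = a⁻¹ := by group
  have hYv : ∀ y ∈ P, y ^ 2 = 1 → y * v = v * y := by
    intro y hy hy2
    have h1 := hinv y hy
    have h2 : y⁻¹ = y := inv_eq_of_mul_eq_one_left (by rw [← pow_two]; exact hy2)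
    rw [h2, mul_inv_eq_iff_eq_mul] at h1
    exact h1.symm
  -- the subgroup `J`
  let J : Subgroup G :=
    { carrier := {a | a ∈ P ∧ (a ^ 2 = 1 ∨ a ^ 2 = v ^ 2)}
      one_mem' := ⟨one_mem _, Or.inl (one_pow 2)⟩
      mul_mem' := by
        rintro x y ⟨hx, hx'⟩ ⟨hy, hy'⟩
        refine ⟨mul_mem hx hy, ?_⟩
        rw [(hPcomm x hx y hy).mul_pow]
        rcases hx' with h | h <;> rcases hy' with h' | h' <;> rw [h, h']
        · left; simp
        · right; simp
        · right; simp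
        · left; rw [← pow_add, hv4]
      inv_mem' := by
        rintro x ⟨hx, hx'⟩
        refine ⟨inv_mem hx, ?_⟩
        rw [inv_pow]
        rcases hx' with h | h
        · left; rw [h, inv_one]
        · right; rw [h]
          exact inv_eq_of_mul_eq_one_left (by rw [← pow_add, hv4]) }
  have hJmem : ∀ a, a ∈ J ↔ a ∈ P ∧ (a ^ 2 = 1 ∨ a ^ 2 = v ^ 2) := fun a => Iff.rfl
  have hJn : ∀ g : G, ∀ a ∈ J, g * a * g⁻¹ ∈ J := by
    rintro g a ⟨ha, ha'⟩
    refine ⟨hPn.conj_mem a ha g, ?_⟩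
    rw [conj_pow]
    rcases ha' with h | h
    · left; rw [h]; group
    · right; rw [h, ← hv2 g]; group
  have hJ1 : J ≤ P := fun a ha => ha.1
  have hJ2 : ∀ a ∈ J, ∃ y ∈ P, y * v = v * y ∧ (a = y ∨ a = u * y) := by
    rintro a ⟨ha, ha'⟩
    have hcase : a ^ 2 = 1 ∨ (u⁻¹ * a) ^ 2 = 1 := by
      rcases ha' with h | h
      · exact Or.inl h
      · exact hJ a ha h
    rcases hcase with h | h
    · exact ⟨a, ha, hYv a ha h, Or.inl rfl⟩
    · have h1 : u⁻¹ * a ∈ P := mul_mem (inv_mem U.uA) ha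
      exact ⟨_, h1, hYv _ h1 h, Or.inr (by group)⟩
  have huJ : u ∈ J := ⟨U.uA, hu2⟩
  have hnorm : ∀ g y : G, y ∈ P → y ^ 2 = 1 → g * v * g⁻¹ = v * y → ∀ q ∈ Q, g * q * g⁻¹ ∈ Q := by
    intro g y hy hy2 hgv
    exact D.normalizes A U J hJ1 hJ2 hgen huJ (hJn g) (y := y) ⟨hy, Or.inl hy2⟩ hgv
  have hkey : ∀ g y : G, y ∈ P → y ^ 2 = 1 → g * v * g⁻¹ = v * y → y = 1 ∨ y = z := by
    intro g y hy hy2 hgv
    have h1 := D.normR (hnorm g y hy hy2 hgv) U.vR
    rw [hgv] at h1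
    have h2 := mul_mem (inv_mem U.vR) h1
    rw [inv_mul_cancel_left] at h2
    exact U.two y hy hy2 h2
  have hfour : ∀ a ∈ P, (a ^ 2) ^ 2 = 1 → a ^ 2 = 1 ∨ a ^ 2 = z := by
    intro a ha h4
    have h1 : a * v * a⁻¹ = v * (a ^ 2)⁻¹ := by
      calc a * v * a⁻¹ = v * (v⁻¹ * a * v) * a⁻¹ := by group
        _ = v * (a ^ 2)⁻¹ := by rw [hinv' a ha, pow_two]; group
    rcases hkey a (a ^ 2)⁻¹ (inv_mem (pow_mem ha 2)) (by rw [inv_pow, h4, inv_one]) h1 with h | h
    · left; exact inv_eq_one.1 h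
    · right
      rw [inv_eq_iff_eq_inv] at h
      rw [h]
      exact inv_eq_of_mul_eq_one_left (by rw [← pow_two]; exact U.z2)
  by_cases hall : ∀ a ∈ P, a ^ 2 = 1
  · -- `P` elementary abelian
    have hd : ∀ g : G, v⁻¹ * g * v * g⁻¹ = 1 ∨ v⁻¹ * g * v * g⁻¹ = z := by
      intro g
      have h1 : v⁻¹ * g * v * g⁻¹ ∈ P := by
        have := comm_mem_commutator v⁻¹ g
        rwa [inv_inv] at this
      exact hkey g _ h1 (hall _ h1) (by group)
    have hQn : ∀ g : G, ∀ q ∈ Q, g * q * g⁻¹ ∈ Q := by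
      intro g
      have h1 : v⁻¹ * g * v * g⁻¹ ∈ P := by
        have := comm_mem_commutator v⁻¹ g
        rwa [inv_inv] at this
      exact hnorm g _ h1 (hall _ h1) (by group)
    have hzc : ∀ g : G, g * z * g⁻¹ = z := by
      intro g
      have h1 : g * z * g⁻¹ ∈ P := hPn.conj_mem z U.zA g
      rcases U.two _ h1 (hall _ h1) (D.normR (hQn g) U.zR) with h | h
      · exfalso
        apply U.z1
        calc z = g⁻¹ * (g * z * g⁻¹) * g := by group
          _ = 1 := by rw [h]; group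
      · exact h
    have hzn : (zpowers z).Normal := by
      refine ⟨?_⟩
      rintro _ ⟨k, rfl⟩ g
      show g * z ^ k * g⁻¹ ∈ zpowers z
      rw [← conj_zpow, hzc]
      exact ⟨k, rfl⟩
    have hez : e ∈ zpowers z := by
      have h1 : e = v * (v⁻¹ * w * v * w⁻¹)⁻¹ * v⁻¹ := by rw [he]; group
      rw [h1]
      rcases hd w with h | h
      · rw [h]; simp
      · rw [h]
        exact hzn.conj_mem _ (inv_mem (mem_zpowers z)) v
    have hle := hPN _ hzn hez
    exact isCyclic_of_injective (Subgroup.inclusion hle) (Subgroup.inclusion_injective hle)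
  · -- there is an element with nontrivial square
    push Not at hall
    have hex : ∃ a ∈ P, a ^ 2 = z := by
      have key : ∀ k : ℕ, ∀ a ∈ P, a ^ 2 ^ k = 1 → a ^ 2 ≠ 1 → ∃ a' ∈ P, a' ^ 2 = z := by
        intro k
        induction k with
        | zero =>
          intro a _ h hne
          rw [pow_zero, pow_one] at h
          exact absurd (by rw [h]; simp) hne
        | succ k ih =>
          intro a ha h hne
          by_cases h2 : (a ^ 2) ^ 2 = 1
          · rcases hfour a ha h2 with h3 | h3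
            · exact absurd h3 hne
            · exact ⟨a, ha, h3⟩
          · exact ih (a ^ 2) (pow_mem ha 2) (by rw [← pow_mul, ← h]; congr 1; ring) h2
      obtain ⟨a, ha, hne⟩ := hall
      obtain ⟨k, hk⟩ := hG a
      exact key k a ha hk hne
    -- the squares of `P`
    let A₀ : Subgroup G :=
      { carrier := {x | ∃ a ∈ P, x = a ^ 2}
        one_mem' := ⟨1, one_mem _, by simp⟩
        mul_mem' := by
          rintro _ _ ⟨a, ha, rfl⟩ ⟨c, hc, rfl⟩
          exact ⟨a * c, mul_mem ha hc, ((hPcomm a ha c hc).mul_pow 2).symm⟩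
        inv_mem' := by
          rintro _ ⟨a, ha, rfl⟩
          exact ⟨a⁻¹, inv_mem ha, by rw [inv_pow]⟩ }
    have hA₀P : A₀ ≤ P := by
      rintro _ ⟨a, ha, rfl⟩
      exact pow_mem ha 2
    have hA₀c : IsCyclic A₀ := by
      refine isCyclic_of_unique_involution (hG.to_subgroup _)
        (fun a c => Subtype.ext (A.com a (hA₀P a.2) c (hA₀P c.2))) ?_
      have h1 : ∀ x : A₀, x ^ 2 = 1 → x ≠ 1 → (x : G) = z := by
        rintro ⟨x, a, ha, rfl⟩ h2 hne
        have h3 : (a ^ 2) ^ 2 = 1 := congrArg Subtype.val h2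
        rcases hfour a ha h3 with h | h
        · exact absurd (Subtype.ext h) hne
        · exact h
      intro a c ha hc hne hne'
      exact Subtype.ext ((h1 a ha hne).trans (h1 c hc hne').symm)
    obtain ⟨⟨g₀, hg₀⟩, hg₀gen⟩ := hA₀c.exists_generator
    have hg₀' : ∀ x ∈ A₀, ∃ k : ℤ, x = g₀ ^ k := by
      intro x hx
      obtain ⟨k, hk⟩ := hg₀gen ⟨x, hx⟩
      exact ⟨k, (congrArg Subtype.val hk).symm⟩
    have hA₀n : ∀ g : G, ∀ x ∈ A₀, g * x * g⁻¹ ∈ A₀ := by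
      rintro g _ ⟨a, ha, rfl⟩
      exact ⟨g * a * g⁻¹, hPn.conj_mem a ha g, by rw [conj_pow]⟩
    have he2A : e ^ 2 ∈ A₀ := ⟨e, heP, rfl⟩
    have hze2 : (zpowers (e ^ 2)).Normal := by
      refine ⟨?_⟩
      rintro _ ⟨k, rfl⟩ g
      show g * (e ^ 2) ^ k * g⁻¹ ∈ zpowers (e ^ 2)
      rw [← conj_zpow]
      refine zpow_mem ?_ k
      obtain ⟨l, hl⟩ := hg₀' _ he2A
      obtain ⟨n, hn⟩ := hg₀' _ (hA₀n g g₀ hg₀)
      rw [hl, ← conj_zpow, hn, ← zpow_mul, mul_comm, zpow_mul]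
      exact ⟨n, rfl⟩
    have hsq : ∀ a ∈ P, a ^ 2 ∈ zpowers (e ^ 2) := by
      let N : Subgroup G :=
        { carrier := {a | a ∈ P ∧ a ^ 2 ∈ zpowers (e ^ 2)}
          one_mem' := ⟨one_mem _, by rw [one_pow]; exact one_mem _⟩
          mul_mem' := by
            rintro x y ⟨hx, hx'⟩ ⟨hy, hy'⟩
            exact ⟨mul_mem hx hy, by rw [(hPcomm x hx y hy).mul_pow]; exact mul_mem hx' hy'⟩
          inv_mem' := by
            rintro x ⟨hx, hx'⟩
            exact ⟨inv_mem hx, by rw [inv_pow]; exact inv_mem hx'⟩ }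
      have hN : N.Normal := by
        refine ⟨?_⟩
        rintro a ⟨ha, ha'⟩ g
        exact ⟨hPn.conj_mem a ha g, by rw [conj_pow]; exact hze2.conj_mem _ ha' g⟩
      intro a ha
      exact (hPN N hN ⟨heP, mem_zpowers _⟩ ha).2
    have hze : z ∈ zpowers e := by
      obtain ⟨a, ha, haz⟩ := hex
      have h1 := hsq a ha
      rw [haz] at h1
      exact (zpowers_le.2 (pow_mem (mem_zpowers e) 2)) h1
    -- the action of `w` on `e`
    have hwe : w * e * w⁻¹ ∈ P := hPn.conj_mem e heP w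
    obtain ⟨i, hi⟩ := hsq _ hwe
    have hi' : (e ^ 2) ^ i = (w * e * w⁻¹) ^ 2 := hi
    set y₁ := e ^ (-i) * (w * e * w⁻¹) with hy₁
    have hy₁P : y₁ ∈ P := mul_mem (zpow_mem heP _) hwe
    have hy₁2 : y₁ ^ 2 = 1 := by
      rw [hy₁, (hPcomm _ (zpow_mem heP _) _ hwe).mul_pow, ← hi', ← zpow_natCast, ← zpow_natCast,
        ← zpow_mul, ← zpow_mul, ← zpow_add]
      have : -i * ((2 : ℕ) : ℤ) + ((2 : ℕ) : ℤ) * i = 0 := by push_cast; ring
      rw [this, zpow_zero]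
    have hwe' : w * e * w⁻¹ = e ^ i * y₁ := by rw [hy₁]; group
    have hiodd : Odd i := by
      by_contra heven
      rw [Int.not_odd_iff_even] at heven
      obtain ⟨j, hj⟩ := heven
      -- `e ^ 2 ≠ 1`
      have he2 : e ^ 2 ≠ 1 := by
        intro h
        obtain ⟨a, ha, haz⟩ := hex
        have h1 := hsq a ha
        rw [haz, h, zpowers_one_eq_bot, mem_bot] at h1
        exact U.z1 h1
      obtain ⟨k, hk⟩ := IsPGroup.iff_orderOf.1 hG (e ^ 2)
      have hk0 : k ≠ 0 := by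
        rintro rfl
        rw [pow_zero, orderOf_eq_one_iff] at hk
        exact he2 hk
      obtain ⟨l, rfl⟩ := Nat.exists_eq_succ_of_ne_zero hk0
      have h1 : (w * e ^ 2 * w⁻¹) ^ 2 ^ l = 1 := by
        rw [← conj_pow (i := 2), ← hi', hj]
        have h2 : ((e ^ 2) ^ (j + j)) ^ 2 ^ l = ((e ^ 2) ^ 2 ^ (l + 1)) ^ j := by
          rw [← zpow_natCast, ← zpow_natCast (e ^ 2) (2 ^ (l + 1)), ← zpow_mul, ← zpow_mul]
          congr 1; push_cast; ring
        rw [h2, ← Nat.succ_eq_add_one, ← hk, pow_orderOf_eq_one, one_zpow]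
      rw [conj_pow] at h1
      have h2 : (e ^ 2) ^ 2 ^ l = 1 := by
        calc (e ^ 2) ^ 2 ^ l = w⁻¹ * (w * (e ^ 2) ^ 2 ^ l * w⁻¹) * w := by group
          _ = 1 := by rw [h1]; group
      have h3 := orderOf_dvd_of_pow_eq_one h2
      rw [hk, Nat.pow_dvd_pow_iff_le_right (by norm_num)] at h3
      omega
    obtain ⟨k, hk⟩ : ∃ k, i + 1 = 2 * k := by
      obtain ⟨j, hj⟩ := hiodd
      exact ⟨j + 1, by rw [hj]; ring⟩
    have hwv : w * v * w⁻¹ = e⁻¹ * v := by rw [he]; group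
    have hvek : ∀ n : ℤ, v * e ^ n = e ^ (-n) * v := by
      intro n
      have h1 := hinv _ (zpow_mem heP n)
      rw [mul_inv_eq_iff_eq_mul] at h1
      rw [h1, zpow_neg]
    have hgv : (e ^ k * w ^ 2) * v * (e ^ k * w ^ 2)⁻¹ = v * y₁ := by
      have h1 : w ^ 2 * v * (w ^ 2)⁻¹ = w * (e⁻¹ * v) * w⁻¹ := by
        rw [← hwv, pow_two]; group
      have h2 : w * (e⁻¹ * v) * w⁻¹ = (w * e * w⁻¹)⁻¹ * (w * v * w⁻¹) := by group
      have hy₁i : y₁⁻¹ = y₁ := inv_eq_of_mul_eq_one_left (by rw [← pow_two]; exact hy₁2)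
      have h3 : w ^ 2 * v * (w ^ 2)⁻¹ = y₁ * e ^ (-(2 * k)) * v := by
        rw [h1, h2, hwe', hwv, mul_inv_rev, hy₁i, ← hk]
        group
      have hy₁e : ∀ n : ℤ, e ^ n * y₁ = y₁ * e ^ n := fun n => (hPcomm _ (zpow_mem heP n) _ hy₁P).eq
      calc (e ^ k * w ^ 2) * v * (e ^ k * w ^ 2)⁻¹ = e ^ k * (w ^ 2 * v * (w ^ 2)⁻¹) * e ^ (-k) := by
            group
        _ = e ^ k * (y₁ * e ^ (-(2 * k)) * v) * e ^ (-k) := by rw [h3]
        _ = (e ^ k * y₁) * e ^ (-(2 * k)) * (v * e ^ (-k)) := by group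
        _ = (y₁ * e ^ k) * e ^ (-(2 * k)) * (e ^ (-(-k)) * v) := by rw [hy₁e, hvek]
        _ = y₁ * v := by
          have h4 : e ^ k * e ^ (-(2 * k)) * e ^ (-(-k)) = 1 := by
            rw [← zpow_add, ← zpow_add]
            have : k + -(2 * k) + -(-k) = 0 := by ring
            rw [this, zpow_zero]
          calc (y₁ * e ^ k) * e ^ (-(2 * k)) * (e ^ (-(-k)) * v)
              = y₁ * (e ^ k * e ^ (-(2 * k)) * e ^ (-(-k))) * v := by group
            _ = y₁ * v := by rw [h4, mul_one]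
        _ = v * y₁ := hYv y₁ hy₁P hy₁2
    have hy₁e : y₁ ∈ zpowers e := by
      rcases hkey _ y₁ hy₁P hy₁2 hgv with h | h
      · rw [h]; exact one_mem _
      · rw [h]; exact hze
    have hen : (zpowers e).Normal := by
      have h1 : v ∈ normalizer ((zpowers e : Subgroup G) : Set G) := by
        refine mem_normalizer_of_conj ?_
        rintro _ ⟨n, rfl⟩
        show v * e ^ n * v⁻¹ ∈ zpowers e
        rw [hinv _ (zpow_mem heP n)]
        exact inv_mem ⟨n, rfl⟩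
      have h2 : w ∈ normalizer ((zpowers e : Subgroup G) : Set G) := by
        refine mem_normalizer_of_conj ?_
        rintro _ ⟨n, rfl⟩
        show w * e ^ n * w⁻¹ ∈ zpowers e
        rw [← conj_zpow, hwe']
        exact zpow_mem (mul_mem (zpow_mem (mem_zpowers e) i) hy₁e) n
      have h3 : normalizer ((zpowers e : Subgroup G) : Set G) = ⊤ := by
        rw [← top_le_iff, ← hw, closure_le]
        rintro x (rfl | rfl)
        · exact h1
        · exact h2
      exact normalizer_eq_top_iff.1 h3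
    have hle := hPN _ hen (mem_zpowers e)
    exact isCyclic_of_injective (Subgroup.inclusion hle) (Subgroup.inclusion_injective hle)

end Dat

end Cfsg.Agent.H774
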