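import Cfsg.Agent.H774.DatS

/-!
# TI two-subgroups of `Aut V`, `V` elementary abelian of order at most eight (helper774)
-/

set_option autoImplicit false
set_option linter.unusedSectionVars false
set_option linter.unusedSimpArgs false

namespace Cfsg.Agent.H774

open Subgroup

section Tv

variable {V : Type*} [CommGroup V] [Finite V]

/-- an involution is a transvection -/
theorem exists_axis (hV2 : ∀ x : V, x * x = 1) (hV8 : Nat.card V ≤ 8) {s : MulAut V} (hs : s * s = 1)
    (hs1 : s ≠ 1) : ∃ p : V, s p = p ∧ ∀ x, s x = x ∨ s x = x * p := by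
  have hss : ∀ x, s (s x) = x := fun x => DFunLike.congr_fun hs x
  let d : V →* V :=
    { toFun := fun x => x * s x
      map_one' := by simp
      map_mul' := fun x y => by rw [map_mul]; exact mul_mul_mul_comm _ _ _ _ }
  have hd : ∀ x, d x = x * s x := fun _ => rfl
  have h1 : d.range ≤ d.ker := by
    rintro _ ⟨x, rfl⟩
    rw [MonoidHom.mem_ker, hd, hd, map_mul, hss, mul_comm (s x) x]
    exact hV2 _
  have h2 : Nat.card d.range * Nat.card d.ker = Nat.card V := by
    have e2 := d.ker.card_mul_index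
    rw [index_ker] at e2
    rw [← e2, mul_comm]
  have h3 : Nat.card d.range ≤ Nat.card d.ker := Nat.card_le_card_of_injective _
    (inclusion_injective h1)
  have h4 : Nat.card d.range ≤ 2 := by
    by_contra hlt
    push Not at hlt
    have : 3 * 3 ≤ Nat.card d.range * Nat.card d.ker := Nat.mul_le_mul hlt (hlt.trans_le h3)
    omega
  obtain ⟨x₀, hx₀⟩ : ∃ x, s x ≠ x := by
    by_contra hall
    push Not at hall
    exact hs1 (MulEquiv.ext hall)
  have hp1 : d x₀ ≠ 1 := by
    intro h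
    apply hx₀
    rw [hd] at h
    have h' := hV2 x₀
    exact mul_left_cancel (h.trans h'.symm)
  refine ⟨d x₀, ?_, fun x => ?_⟩
  · rw [hd, map_mul, hss, mul_comm]
  · by_contra hcon
    push Not at hcon
    obtain ⟨hc1, hc2⟩ := hcon
    have hx1 : d x ≠ 1 := by
      intro h
      apply hc1
      rw [hd] at h
      have h' := hV2 x
      exact mul_left_cancel (h.trans h'.symm)
    have hx2 : d x ≠ d x₀ := by
      intro h
      apply hc2
      rw [← h, hd, ← mul_assoc, hV2, one_mul]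
    have : Nat.card (Fin 3) ≤ Nat.card d.range := by
      refine Nat.card_le_card_of_injective
        (fun i : Fin 3 => if i = 0 then (1 : d.range) else if i = 1 then ⟨d x₀, x₀, rfl⟩ else ⟨d x, x, rfl⟩) ?_
      intro i j hij
      have h5 : (⟨d x₀, x₀, rfl⟩ : d.range) ≠ 1 := fun h => hp1 (congrArg Subtype.val h)
      have h6 : (⟨d x, x, rfl⟩ : d.range) ≠ 1 := fun h => hx1 (congrArg Subtype.val h)
      have h7 : (⟨d x, x, rfl⟩ : d.range) ≠ ⟨d x₀, x₀, rfl⟩ := fun h => hx2 (congrArg Subtype.val h)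
      fin_cases i <;> fin_cases j
      · rfl
      · exact absurd hij.symm h5
      · exact absurd hij.symm h6
      · exact absurd hij h5
      · rfl
      · exact absurd hij.symm h7
      · exact absurd hij h6
      · exact absurd hij h7
      · rfl
    rw [Nat.card_fin] at this
    omega

/-- products of two transvections -/
theorem pow_four_eq_one (hV2 : ∀ x : V, x * x = 1) {s s' : MulAut V} {p p' : V}
    (hp : s p = p) (hsx : ∀ x, s x = x ∨ s x = x * p) (hp' : s' p' = p')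
    (hsx' : ∀ x, s' x = x ∨ s' x = x * p') (h : s' p = p) : (s * s') ^ 4 = 1 := by
  have e1 : ∀ x y : V, x * y * y = x := fun x y => by rw [mul_assoc, hV2, mul_one]
  have e2 : ∀ x y z : V, x * y * z * y = x * z := fun x y z => by
    rw [mul_assoc, mul_comm z y, ← mul_assoc, e1]
  refine MulEquiv.ext fun x => ?_
  have h4 : ((s * s') ^ 4) x = s (s' (s (s' (s (s' (s (s' x))))))) := rfl
  rw [h4, MulAut.one_apply]
  rcases hsx p' with h1 | h1 <;> rcases hsx x with h2 | h2 <;> rcases hsx' x with h3 | h3 <;>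
    simp only [h1, h2, h3, hp, hp', h, map_mul, e1, e2]

/-- products of two transvections not fixing each other's centres -/
theorem pow_three_eq_one (hV2 : ∀ x : V, x * x = 1) {s s' : MulAut V} {p p' : V}
    (hp : s p = p) (hsx : ∀ x, s x = x ∨ s x = x * p) (hp' : s' p' = p')
    (hsx' : ∀ x, s' x = x ∨ s' x = x * p') (h : s' p = p * p') (h' : s p' = p' * p) :
    (s * s') ^ 3 = 1 := by
  have e1 : ∀ x y : V, x * y * y = x := fun x y => by rw [mul_assoc, hV2, mul_one]
  have e2 : ∀ x y z : V, x * y * z * y = x * z := fun x y z => by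
    rw [mul_assoc, mul_comm z y, ← mul_assoc, e1]
  have e3 : ∀ x y z : V, x * (y * z) = x * y * z := fun x y z => (mul_assoc _ _ _).symm
  refine MulEquiv.ext fun x => ?_
  have h4 : ((s * s') ^ 3) x = s (s' (s (s' (s (s' x))))) := rfl
  rw [h4, MulAut.one_apply]
  rcases hsx x with h2 | h2 <;> rcases hsx' x with h3 | h3 <;>
    simp only [h2, h3, hp, hp', h, h', map_mul, e1, e2, e3]

/-- apartness of involutions in different conjugates of a TI subgroup -/
theorem apart {M : Type*} [Group M] {A B : Subgroup M} (hBA : B ≤ A)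
    (hTI : ∀ a ∈ A, ∀ β ∈ B, β ≠ 1 → a * β * a⁻¹ ∈ B → a ∈ B) {x y g : M} (hx : x ∈ B) (hy : y ∈ B)
    (hx1 : x ≠ 1) (hx2 : x * x = 1) (hy1 : y ≠ 1) (hy2 : y * y = 1) (hg : g ∈ A) (hgB : g ∉ B) :
    (x * (g * y * g⁻¹)) ^ 4 ≠ 1 := by
  have hxi : x⁻¹ = x := inv_eq_of_mul_eq_one_left hx2
  set y' := g * y * g⁻¹ with hy'
  have hy'2 : y' * y' = 1 := by
    rw [hy']
    calc g * y * g⁻¹ * (g * y * g⁻¹) = g * (y * y) * g⁻¹ := by group
      _ = 1 := by rw [hy2]; group
  have hy'i : y'⁻¹ = y' := inv_eq_of_mul_eq_one_left hy'2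
  have hy'A : y' ∈ A := mul_mem (mul_mem hg (hBA hy)) (inv_mem hg)
  have hy'B : y' ∉ B := fun h => hgB (hTI g hg y hy hy1 h)
  have hxA := hBA hx
  clear_value y'
  intro h4
  set z := x * y' * x * y' with hz
  have hzA : z ∈ A := mul_mem (mul_mem (mul_mem hxA hy'A) hxA) hy'A
  have hz2 : z * z = 1 := by
    rw [← h4, hz]
    simp only [pow_succ, pow_zero, one_mul, mul_assoc]
  have hzi : z⁻¹ = z := inv_eq_of_mul_eq_one_left hz2
  have hzi' : z⁻¹ = y' * x * y' * x := by
    rw [hz, mul_inv_rev, mul_inv_rev, mul_inv_rev, hxi, hy'i]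
    simp only [mul_assoc]
  clear_value z
  by_cases hz1 : z = 1
  · apply hy'B
    refine hTI y' hy'A x hx hx1 ?_
    have h1 : y' * x * y'⁻¹ = x := by
      have h2 : x * (y' * x * y') = 1 := by rw [← hz1, hz]; simp only [mul_assoc]
      rw [hy'i]
      calc y' * x * y' = x⁻¹ * (x * (y' * x * y')) := by group
        _ = x := by rw [h2, mul_one, hxi]
    rw [h1]; exact hx
  · have h1 : z * x * z⁻¹ = x := by
      have h2 : x * z = z * x := by
        have h3 : x * z = (y' * x * y' * x) * x := by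
          rw [hz]
          calc x * (x * y' * x * y') = (x * x) * (y' * x * y') := by simp only [mul_assoc]
            _ = (y' * x * y') * (x * x) := by rw [hx2, one_mul, mul_one]
            _ = _ := by simp only [mul_assoc]
        rw [h3, ← hzi', hzi]
      rw [← h2, mul_inv_cancel_right]
    have hzB : z ∈ B := hTI z hzA x hx hx1 (by rw [h1]; exact hx)
    apply hy'B
    refine hTI y' hy'A z hzB hz1 ?_
    have h2 : y' * z * y'⁻¹ = z := by
      have h3 : y' * z * y'⁻¹ = y' * x * y' * x := by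
        rw [hy'i, hz]
        calc y' * (x * y' * x * y') * y' = y' * x * y' * x * (y' * y') := by simp only [mul_assoc]
          _ = _ := by rw [hy'2, mul_one]
      rw [h3, ← hzi', hzi]
    rw [h2]; exact hzB

theorem apart' {M : Type*} [Group M] {A B : Subgroup M} (hBA : B ≤ A)
    (hTI : ∀ a ∈ A, ∀ β ∈ B, β ≠ 1 → a * β * a⁻¹ ∈ B → a ∈ B) {x g k : M} (hx : x ∈ B)
    (hx1 : x ≠ 1) (hx2 : x * x = 1) (hg : g ∈ A) (hk : k ∈ A) (hgk : g⁻¹ * k ∉ B) :
    ((g * x * g⁻¹) * (k * x * k⁻¹)) ^ 4 ≠ 1 := by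
  intro h
  refine apart hBA hTI hx hx hx1 hx2 hx1 hx2 (mul_mem (inv_mem hg) hk) hgk ?_
  have h1 : x * (g⁻¹ * k * x * (g⁻¹ * k)⁻¹) = g⁻¹ * ((g * x * g⁻¹) * (k * x * k⁻¹)) * (g⁻¹)⁻¹ := by
    group
  rw [h1, conj_pow, h]
  group

theorem two_mul_card_le {V : Type*} [Group V] [Finite V] {H K : Subgroup V} (h : H ≤ K) {x : V}
    (hxK : x ∈ K) (hxH : x ∉ H) : 2 * Nat.card H ≤ Nat.card K := by
  obtain ⟨n, hn⟩ := card_dvd_of_le h
  have h1 : n ≠ 0 := by
    rintro rfl
    rw [mul_zero] at hn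
    exact absurd hn Nat.card_pos.ne'
  have h2 : n ≠ 1 := by
    rintro rfl
    rw [mul_one] at hn
    exact hxH ((eq_of_le_of_card_ge h hn.le) ▸ hxK)
  rw [hn, mul_comm]
  exact Nat.mul_le_mul_left _ (by omega)

/-- four pairwise apart involutions do not exist -/
theorem false_of_four (hV2 : ∀ x : V, x * x = 1) (hV8 : Nat.card V ≤ 8) (s : Fin 4 → MulAut V)
    (hs : ∀ i, s i * s i = 1) (hs1 : ∀ i, s i ≠ 1) (h : ∀ i j, i ≠ j → (s i * s j) ^ 4 ≠ 1) : False := by
  have e1 : ∀ x y : V, x * y * y = x := fun x y => by rw [mul_assoc, hV2, mul_one]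
  have e2 : ∀ x y z : V, x * y * z * y = x * z := fun x y z => by
    rw [mul_assoc, mul_comm z y, ← mul_assoc, e1]
  have e3 : ∀ x y z : V, x * (y * z) = x * y * z := fun x y z => (mul_assoc _ _ _).symm
  choose p hp hpx using fun i => exists_axis hV2 hV8 (hs i) (hs1 i)
  have hm : ∀ i j, i ≠ j → s i (p j) = p j * p i := by
    intro i j hij
    rcases hpx i (p j) with h1 | h1
    · exfalso
      exact h j i hij.symm (pow_four_eq_one hV2 (hp j) (hpx j) (hp i) (hpx i) h1)
    · exact h1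
  have hne : ∀ i j, i ≠ j → p j * p i ≠ p j := by
    intro i j hij h1
    have h2 : s i (p j) = p j := by rw [hm i j hij, h1]
    exact h j i hij.symm (pow_four_eq_one hV2 (hp j) (hpx j) (hp i) (hpx i) h2)
  let F : Fin 4 → Subgroup V := fun i => (s i).toMonoidHom.eqLocus (MonoidHom.id V)
  have hF : ∀ i x, x ∈ F i ↔ s i x = x := fun i x => Iff.rfl
  have hp1 : ∀ i, p i ≠ 1 := by
    intro i h1
    obtain ⟨j, hj⟩ : ∃ j : Fin 4, i ≠ j := by
      by_cases h0 : i = 0
      · exact ⟨1, by rw [h0]; decide⟩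
      · exact ⟨0, h0⟩
    exact hne i j hj (by rw [h1, mul_one])
  have c1 : 2 * Nat.card (F 0) ≤ Nat.card (⊤ : Subgroup V) :=
    two_mul_card_le le_top (x := p 1) (mem_top _) (fun h1 => hne 0 1 (by decide)
      (by rw [← hm 0 1 (by decide)]; exact h1))
  have c2 : 2 * Nat.card (F 0 ⊓ F 1 : Subgroup V) ≤ Nat.card (F 0) :=
    two_mul_card_le inf_le_left (x := p 0) (hp 0) (fun h1 => hne 1 0 (by decide)
      (by rw [← hm 1 0 (by decide)]; exact h1.2))
  have e4 : ∀ x y : V, x * (x * y) = y := fun x y => by rw [← mul_assoc, hV2, one_mul]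
  have c3 : 2 * Nat.card (F 0 ⊓ F 1 ⊓ F 2 : Subgroup V) ≤ Nat.card (F 0 ⊓ F 1 : Subgroup V) := by
    refine two_mul_card_le inf_le_left (x := p 0 * p 1 * p 3) ⟨?_, ?_⟩ (fun h1 => ?_)
    · show s 0 (p 0 * p 1 * p 3) = p 0 * p 1 * p 3
      rw [map_mul, map_mul, hp, hm 0 1 (by decide), hm 0 3 (by decide)]
      simp only [mul_assoc, mul_comm, mul_left_comm, e4, hV2, mul_one, one_mul]
    · show s 1 (p 0 * p 1 * p 3) = p 0 * p 1 * p 3
      rw [map_mul, map_mul, hp, hm 1 0 (by decide), hm 1 3 (by decide)]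
      simp only [mul_assoc, mul_comm, mul_left_comm, e4, hV2, mul_one, one_mul]
    · have h2 : s 2 (p 0 * p 1 * p 3) = p 0 * p 1 * p 3 := h1.2
      have h3 : s 2 (p 0 * p 1 * p 3) = p 0 * p 1 * p 3 * p 2 := by
        rw [map_mul, map_mul, hm 2 0 (by decide), hm 2 1 (by decide), hm 2 3 (by decide)]
        simp only [mul_assoc, mul_comm, mul_left_comm, e4, hV2, mul_one, one_mul]
      exact hp1 2 (mul_eq_left.1 (h3.symm.trans h2))
  have c4 : 2 * Nat.card (F 0 ⊓ F 1 ⊓ F 2 ⊓ F 3 : Subgroup V) ≤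
      Nat.card (F 0 ⊓ F 1 ⊓ F 2 : Subgroup V) := by
    refine two_mul_card_le inf_le_left (x := p 0 * p 1 * p 2) ⟨⟨?_, ?_⟩, ?_⟩ (fun h1 => ?_)
    · show s 0 (p 0 * p 1 * p 2) = p 0 * p 1 * p 2
      rw [map_mul, map_mul, hp, hm 0 1 (by decide), hm 0 2 (by decide)]
      simp only [mul_assoc, mul_comm, mul_left_comm, e4, hV2, mul_one, one_mul]
    · show s 1 (p 0 * p 1 * p 2) = p 0 * p 1 * p 2
      rw [map_mul, map_mul, hp, hm 1 0 (by decide), hm 1 2 (by decide)]
      simp only [mul_assoc, mul_comm, mul_left_comm, e4, hV2, mul_one, one_mul]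
    · show s 2 (p 0 * p 1 * p 2) = p 0 * p 1 * p 2
      rw [map_mul, map_mul, hp, hm 2 0 (by decide), hm 2 1 (by decide)]
      simp only [mul_assoc, mul_comm, mul_left_comm, e4, hV2, mul_one, one_mul]
    · have h2 : s 3 (p 0 * p 1 * p 2) = p 0 * p 1 * p 2 := h1.2
      have h3 : s 3 (p 0 * p 1 * p 2) = p 0 * p 1 * p 2 * p 3 := by
        rw [map_mul, map_mul, hm 3 0 (by decide), hm 3 1 (by decide), hm 3 2 (by decide)]
        simp only [mul_assoc, mul_comm, mul_left_comm, e4, hV2, mul_one, one_mul]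
      exact hp1 3 (mul_eq_left.1 (h3.symm.trans h2))
  have c5 : 0 < Nat.card (F 0 ⊓ F 1 ⊓ F 2 ⊓ F 3 : Subgroup V) := Nat.card_pos
  rw [card_top] at c1
  omega

/-- **the structure of `A ≤ Aut V` with a TI two-subgroup.** -/
theorem exists_of_ti (hV2 : ∀ x : V, x * x = 1) (hV8 : Nat.card V ≤ 8) {A B : Subgroup (MulAut V)}
    (hBA : B ≤ A) (hB : IsPGroup 2 B) (hB1 : B ≠ ⊥) (hAB : ¬ A ≤ B)
    (hTI : ∀ a ∈ A, ∀ β ∈ B, β ≠ 1 → a * β * a⁻¹ ∈ B → a ∈ B) :
    ∃ s ∈ B, s ≠ 1 ∧ s * s = 1 ∧ (∀ β ∈ B, β = 1 ∨ β = s) ∧ ∃ g ∈ A,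
      (s * (g * s * g⁻¹)) ^ 3 = 1 ∧ s * (g * s * g⁻¹) ≠ 1 := by
  have : Fact (Nat.Prime 2) := ⟨Nat.prime_two⟩
  obtain ⟨g, hg, hgB⟩ := SetLike.not_le_iff_exists.1 hAB
  obtain ⟨s, hsB, hs1, hs2⟩ : ∃ s ∈ B, s ≠ 1 ∧ s * s = 1 := by
    have hnt : Nontrivial B := (nontrivial_iff_ne_bot B).2 hB1
    obtain ⟨n, hn0, hn⟩ := (IsPGroup.nontrivial_iff_card hB).1 hnt
    have h2 : 2 ∣ Nat.card B := by rw [hn]; exact dvd_pow_self 2 hn0.ne'
    obtain ⟨x, hx⟩ := exists_prime_orderOf_dvd_card' 2 h2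
    refine ⟨x, x.2, ?_, ?_⟩
    · intro h
      have : x = 1 := Subtype.ext h
      rw [this, orderOf_one] at hx
      omega
    · have h3 : x * x = 1 := by rw [← pow_two, ← hx, pow_orderOf_eq_one]
      exact congrArg Subtype.val h3
  have hap : ∀ g k : MulAut V, g ∈ A → k ∈ A → g⁻¹ * k ∉ B →
      ((g * s * g⁻¹) * (k * s * k⁻¹)) ^ 4 ≠ 1 :=
    fun g k h1 h2 h3 => apart' hBA hTI hsB hs1 hs2 h1 h2 h3
  have hnI : ∀ k : MulAut V, (k * s * k⁻¹) * (k * s * k⁻¹) = 1 := by
    intro k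
    calc (k * s * k⁻¹) * (k * s * k⁻¹) = k * (s * s) * k⁻¹ := by group
      _ = 1 := by rw [hs2]; group
  have hn1 : ∀ k : MulAut V, k * s * k⁻¹ ≠ 1 := by
    intro k h
    apply hs1
    calc s = k⁻¹ * (k * s * k⁻¹) * k := by group
      _ = 1 := by rw [h]; group
  refine ⟨s, hsB, hs1, hs2, ?_, g, hg, ?_, ?_⟩
  · intro τ hτ
    by_contra hcon
    push Not at hcon
    obtain ⟨hτ1, hτs⟩ := hcon
    -- the four conjugating elements
    have hconj : ∀ c ∈ B, c ≠ 1 → g⁻¹ * c * g ∉ B := by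
      intro c hc hc1 h
      have h1 := hTI g⁻¹ (inv_mem hg) c hc hc1 (by rwa [inv_inv])
      exact hgB (inv_mem_iff.1 h1)
    let k : Fin 4 → MulAut V := ![1, g, τ * g, s * g]
    have hk : ∀ i, k i ∈ A := by
      intro i
      fin_cases i
      · exact one_mem _
      · exact hg
      · exact mul_mem (hBA hτ) hg
      · exact mul_mem (hBA hsB) hg
    have hkk : ∀ i j, i ≠ j → (k i)⁻¹ * k j ∉ B := by
      have hsym : ∀ i j, (k i)⁻¹ * k j ∉ B → (k j)⁻¹ * k i ∉ B := by
        intro i j h h'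
        apply h
        have h1 := inv_mem h'
        rwa [mul_inv_rev, inv_inv] at h1
      have h01 : (k 0)⁻¹ * k 1 ∉ B := by
        show (1 : MulAut V)⁻¹ * g ∉ B
        rwa [inv_one, one_mul]
      have h02 : (k 0)⁻¹ * k 2 ∉ B := by
        show (1 : MulAut V)⁻¹ * (τ * g) ∉ B
        rw [inv_one, one_mul]
        intro h
        apply hgB
        have := mul_mem (inv_mem hτ) h
        rwa [inv_mul_cancel_left] at this
      have h03 : (k 0)⁻¹ * k 3 ∉ B := by
        show (1 : MulAut V)⁻¹ * (s * g) ∉ B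
        rw [inv_one, one_mul]
        intro h
        apply hgB
        have := mul_mem (inv_mem hsB) h
        rwa [inv_mul_cancel_left] at this
      have h12 : (k 1)⁻¹ * k 2 ∉ B := by
        show g⁻¹ * (τ * g) ∉ B
        rw [← mul_assoc]
        exact hconj τ hτ hτ1
      have h13 : (k 1)⁻¹ * k 3 ∉ B := by
        show g⁻¹ * (s * g) ∉ B
        rw [← mul_assoc]
        exact hconj s hsB hs1
      have h23 : (k 2)⁻¹ * k 3 ∉ B := by
        show (τ * g)⁻¹ * (s * g) ∉ B
        have h1 : (τ * g)⁻¹ * (s * g) = g⁻¹ * (τ⁻¹ * s) * g := by group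
        rw [h1]
        refine hconj _ (mul_mem (inv_mem hτ) hsB) ?_
        intro h
        exact hτs (inv_mul_eq_one.1 h)
      intro i j hij
      fin_cases i <;> fin_cases j
      · exact absurd rfl hij
      · exact h01
      · exact h02
      · exact h03
      · exact hsym _ _ h01
      · exact absurd rfl hij
      · exact h12
      · exact h13
      · exact hsym _ _ h02
      · exact hsym _ _ h12
      · exact absurd rfl hij
      · exact h23
      · exact hsym _ _ h03
      · exact hsym _ _ h13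
      · exact hsym _ _ h23
      · exact absurd rfl hij
    exact false_of_four hV2 hV8 (fun i => k i * s * (k i)⁻¹) (fun i => hnI _) (fun i => hn1 _)
      (fun i j hij => hap _ _ (hk i) (hk j) (hkk i j hij))
  · obtain ⟨p, hp, hpx⟩ := exists_axis hV2 hV8 hs2 hs1
    obtain ⟨p', hp', hpx'⟩ := exists_axis hV2 hV8 (hnI g) (hn1 g)
    have h1 := apart hBA hTI hsB hsB hs1 hs2 hs1 hs2 hg hgB
    refine pow_three_eq_one hV2 hp hpx hp' hpx' ?_ ?_
    · rcases hpx' p with h | h
      · exact absurd (pow_four_eq_one hV2 hp hpx hp' hpx' h) h1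
      · exact h
    · rcases hpx p' with h | h
      · exfalso
        have h2 := pow_four_eq_one hV2 hp' hpx' hp hpx h
        apply h1
        have h3 : (s * (g * s * g⁻¹)) ^ 4 = s * ((g * s * g⁻¹) * s) ^ 4 * s⁻¹ := by
          rw [← conj_pow]
          congr 1
          group
        rw [h3, h2]; group
      · exact h
  · intro h
    exact apart hBA hTI hsB hsB hs1 hs2 hs1 hs2 hg hgB (by rw [h, one_pow])

end Tv

end Cfsg.Agent.H774
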