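import Cfsg.Agent.H774.Ext
import Cfsg.Agent.H774.Tv

/-!
# Groups generated by `c` and `v` inverting `c` (helper774)
-/

set_option autoImplicit false

namespace Cfsg.Agent.H774

open Subgroup

section dih

variable {X : Type*} [Group X] {c v : X}

theorem dih_conj (hvc : v * c * v⁻¹ = c⁻¹) (i : ℤ) : v * c ^ i = c ^ (-i) * v := by
  have h1 : v * c ^ i * v⁻¹ = c ^ (-i) := by
    rw [← conj_zpow, hvc, inv_zpow, zpow_neg]
  rw [← h1]; group

theorem dih_cases (hvc : v * c * v⁻¹ = c⁻¹) (hv2 : v ^ 2 ∈ zpowers c) {p : X}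
    (hp : p ∈ Subgroup.closure {c, v}) : ∃ i : ℤ, p = c ^ i ∨ p = c ^ i * v := by
  obtain ⟨e, he⟩ := hv2
  have he' : v * v = c ^ e := by rw [← pow_two]; exact he.symm
  have hvi : v⁻¹ = c ^ (-e) * v := by
    rw [zpow_neg, ← he']; group
  have hmul : ∀ p q : X, (∃ i : ℤ, p = c ^ i ∨ p = c ^ i * v) → (∃ i : ℤ, q = c ^ i ∨ q = c ^ i * v) →
      ∃ i : ℤ, p * q = c ^ i ∨ p * q = c ^ i * v := by
    rintro p q ⟨i, rfl | rfl⟩ ⟨j, rfl | rfl⟩
    · exact ⟨i + j, Or.inl (zpow_add _ _ _).symm⟩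
    · exact ⟨i + j, Or.inr (by rw [← mul_assoc, zpow_add])⟩
    · exact ⟨i + -j, Or.inr (by rw [mul_assoc, dih_conj hvc, ← mul_assoc, zpow_add])⟩
    · refine ⟨i + -j + e, Or.inl ?_⟩
      rw [mul_assoc, ← mul_assoc v, dih_conj hvc, mul_assoc, he', ← mul_assoc, ← zpow_add, ← zpow_add]
  refine Subgroup.closure_induction (p := fun p _ => ∃ i : ℤ, p = c ^ i ∨ p = c ^ i * v) ?_ ?_ ?_ ?_ hp
  · rintro x (rfl | rfl)
    · exact ⟨1, Or.inl (zpow_one _).symm⟩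
    · exact ⟨0, Or.inr (by simp)⟩
  · exact ⟨0, Or.inl (by simp)⟩
  · intro a b _ _ ha hb
    exact hmul a b ha hb
  · rintro a - ⟨i, rfl | rfl⟩
    · exact ⟨-i, Or.inl (zpow_neg _ _).symm⟩
    · refine ⟨-e + i, Or.inr ?_⟩
      rw [mul_inv_rev, hvi, ← zpow_neg, mul_assoc, dih_conj hvc, neg_neg, ← mul_assoc, ← zpow_add]

theorem zpowers_le_dih : zpowers c ≤ Subgroup.closure {c, v} :=
  zpowers_le.2 (subset_closure (Set.mem_insert _ _))

theorem v_mem_dih : v ∈ Subgroup.closure {c, v} :=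
  subset_closure (Set.mem_insert_of_mem _ (Set.mem_singleton _))

theorem c_mem_dih : c ∈ Subgroup.closure {c, v} := subset_closure (Set.mem_insert _ _)

theorem dih_card [Finite X] (hvc : v * c * v⁻¹ = c⁻¹) (hv2 : v ^ 2 ∈ zpowers c)
    (hvn : v ∉ zpowers c) : Nat.card (Subgroup.closure {c, v}) = 2 * orderOf c := by
  apply le_antisymm
  · have h1 : Nat.card (Subgroup.closure {c, v}) ≤ Nat.card (Bool × zpowers c) := by
      refine Nat.card_le_card_of_surjective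
        (fun p : Bool × zpowers c => (⟨if p.1 then (p.2 : X) * v else p.2, by
          split_ifs
          · exact mul_mem (zpowers_le_dih p.2.2) v_mem_dih
          · exact zpowers_le_dih p.2.2⟩ : Subgroup.closure {c, v})) ?_
      rintro ⟨p, hp⟩
      obtain ⟨i, rfl | rfl⟩ := dih_cases hvc hv2 hp
      · exact ⟨(false, ⟨c ^ i, i, rfl⟩), Subtype.ext (by simp)⟩
      · exact ⟨(true, ⟨c ^ i, i, rfl⟩), Subtype.ext (by simp)⟩
    rw [Nat.card_prod, Nat.card_zpowers] at h1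
    have h2 : Nat.card Bool = 2 := by simp
    rwa [h2] at h1
  · have h1 := two_mul_card_le zpowers_le_dih v_mem_dih hvn
    rwa [Nat.card_zpowers] at h1

theorem dih_dvd (hv2 : v ^ 2 ∈ zpowers c) (hvn : v ∉ zpowers c) (i : ℤ) (h : v ^ i ∈ zpowers c) :
    (2 : ℤ) ∣ i := by
  by_contra hodd
  rw [← even_iff_two_dvd, Int.not_even_iff_odd] at hodd
  obtain ⟨k, rfl⟩ := hodd
  apply hvn
  have h1 : v ^ (2 * k) ∈ zpowers c := by
    rw [zpow_mul]
    refine zpow_mem ?_ k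
    have : v ^ (2 : ℤ) = v ^ 2 := by norm_cast
    rw [this]; exact hv2
  have h2 : v = (v ^ (2 * k))⁻¹ * v ^ (2 * k + 1) := by
    rw [zpow_add, zpow_one, inv_mul_cancel_left]
  rw [h2]
  exact mul_mem (inv_mem h1) h

/-- Homomorphisms from `⟨c, v⟩`. -/
theorem exists_dih {Γ : Type*} [Group Γ] (hvc : v * c * v⁻¹ = c⁻¹) (hvn : v ∉ zpowers c) {e : ℕ}
    (hv2 : v ^ 2 = c ^ e) {γ ν : Γ} (hγ : γ ^ orderOf c = 1) (hνγ : ν * γ * ν⁻¹ = γ⁻¹)
    (hν2 : ν ^ 2 = γ ^ e) :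
    ∃ F : X → Γ, (∀ p ∈ Subgroup.closure {c, v}, ∀ q ∈ Subgroup.closure {c, v}, F (p * q) = F p * F q) ∧
      F c = γ ∧ F v = ν := by
  have hv2' : v ^ 2 ∈ zpowers c := by rw [hv2]; exact pow_mem (mem_zpowers c) e
  obtain ⟨F₁, h1, h2, h3⟩ := exists_extend (N := (⊥ : Subgroup X)) (M := zpowers c) (f := fun _ => (1 : Γ))
    (fun _ _ _ _ => by simp) (x := c) (fun a ha => by rw [mem_bot] at ha ⊢; rw [ha]; group)
    (fun a ha => by rw [mem_bot] at ha ⊢; rw [ha]; group) (fun p hp => by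
      obtain ⟨i, rfl⟩ := hp
      exact ⟨-i, by rw [mem_bot, ← zpow_add, add_neg_cancel, zpow_zero]⟩)
    (n := orderOf c) (by rw [mem_bot, pow_orderOf_eq_one]) (fun i hi => by
      rw [mem_bot] at hi
      exact orderOf_dvd_iff_zpow_eq_one.2 hi) (α := γ) (fun _ _ => by simp) hγ.symm
  have hF₁ : ∀ i : ℤ, F₁ (c ^ i) = γ ^ i := by
    intro i
    have := h3 1 (one_mem _) i
    rwa [one_mul, one_mul] at this
  have hvc' : ∀ i : ℤ, v * c ^ i * v⁻¹ = c ^ (-i) := fun i => by rw [dih_conj hvc]; group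
  obtain ⟨F₂, h4, h5, h6⟩ := exists_extend (N := zpowers c) (M := Subgroup.closure {c, v}) (f := F₁) h1
    (x := v) (by
      rintro _ ⟨i, rfl⟩
      exact ⟨-i, (hvc' i).symm⟩) (by
      rintro _ ⟨i, rfl⟩
      refine ⟨-i, ?_⟩
      show c ^ (-i) = v⁻¹ * c ^ i * v
      have := hvc' (-i)
      rw [neg_neg] at this
      rw [← this]; group) (fun p hp => by
      obtain ⟨i, rfl | rfl⟩ := dih_cases hvc hv2' hp
      · exact ⟨0, i, by simp⟩
      · exact ⟨-1, i, by rw [zpow_neg_one]; group⟩) (n := 2) hv2'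
    (fun i hi => dih_dvd hv2' hvn i hi) (α := ν) (by
      rintro _ ⟨i, rfl⟩
      show F₁ (v * c ^ i * v⁻¹) = ν * F₁ (c ^ i) * ν⁻¹
      rw [hvc', hF₁, hF₁, ← conj_zpow, hνγ, inv_zpow, zpow_neg]) (by
      have := hF₁ e
      rw [zpow_natCast, zpow_natCast] at this
      rw [hv2, this, hν2])
  refine ⟨F₂, h4, ?_, ?_⟩
  · rw [h5 c (mem_zpowers c)]
    have := hF₁ 1
    rwa [zpow_one, zpow_one] at this
  · have := h6 1 (one_mem _) 1
    rw [one_mul, zpow_one, zpow_one] at this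
    rw [this]
    have h7 := hF₁ 0
    rw [zpow_zero, zpow_zero] at h7
    rw [h7, one_mul]

end dih

end Cfsg.Agent.H774
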