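import Cfsg.Prelude.Def_PLocal

/-!
# The Thompson subgroup `J(P)` generated by the abelian subgroups of largest order (helper774)
-/

set_option autoImplicit false

namespace Cfsg.Agent.H774

open Cfsg

variable {Ω : Type*} [Group Ω]

/-- `A` is an abelian subgroup of `P` of largest order. -/
def IsMaxAb (P A : Subgroup Ω) : Prop :=
  A ≤ P ∧ (∀ a ∈ A, ∀ b ∈ A, a * b = b * a) ∧
    ∀ B : Subgroup Ω, B ≤ P → (∀ a ∈ B, ∀ b ∈ B, a * b = b * a) → Nat.card B ≤ Nat.card A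

theorem isMaxAb_iff (P : Subgroup Ω) (A : Subgroup ↥P) :
    A ∈ maxAbelianSubgroups ↥P ↔ IsMaxAb P (A.map P.subtype) := by
  have hcard : ∀ B : Subgroup ↥P, Nat.card (B.map P.subtype) = Nat.card B := fun B =>
    (Nat.card_congr (B.equivMapOfInjective _ P.subtype_injective).toEquiv).symm
  have hcomm : ∀ B : Subgroup ↥P, IsMulCommutative B ↔
      ∀ a ∈ B.map P.subtype, ∀ b ∈ B.map P.subtype, a * b = b * a := by
    intro B
    constructor
    · rintro h _ ⟨a, ha, rfl⟩ _ ⟨b, hb, rfl⟩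
      have h1 := h.is_comm.comm ⟨a, ha⟩ ⟨b, hb⟩
      exact congrArg (fun z : B => (((z : ↥P)) : Ω)) h1
    · intro h
      refine ⟨⟨fun a b => ?_⟩⟩
      apply Subtype.ext
      apply Subtype.ext
      exact h _ ⟨a, a.2, rfl⟩ _ ⟨b, b.2, rfl⟩
  constructor
  · rintro ⟨h1, h2⟩
    refine ⟨Subgroup.map_subtype_le A, (hcomm A).1 h1, fun B hB hBc => ?_⟩
    have h3 : (B.subgroupOf P).map P.subtype = B := by
      rw [Subgroup.subgroupOf_map_subtype, inf_eq_left.2 hB]
    have h4 := h2 (B.subgroupOf P) ((hcomm _).2 (by rw [h3]; exact hBc))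
    rw [← hcard, ← hcard, h3] at h4
    exact h4
  · rintro ⟨-, h1, h2⟩
    refine ⟨(hcomm A).2 h1, fun B hB => ?_⟩
    have h4 := h2 (B.map P.subtype) (Subgroup.map_subtype_le B) ((hcomm B).1 hB)
    rwa [hcard, hcard] at h4

/-- `J(P)` is generated by the abelian subgroups of `P` of largest order. -/
theorem thompsonSubgroupAOf_eq (P : Subgroup Ω) :
    thompsonSubgroupAOf P = sSup {A | IsMaxAb P A} := by
  rw [thompsonSubgroupAOf, thompsonSubgroupA]
  apply le_antisymm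
  · rw [Subgroup.map_le_iff_le_comap]
    refine sSup_le fun A hA => ?_
    rw [← Subgroup.map_le_iff_le_comap]
    exact le_sSup ((isMaxAb_iff P A).1 hA)
  · refine sSup_le fun A hA => ?_
    have h3 : (A.subgroupOf P).map P.subtype = A := by
      rw [Subgroup.subgroupOf_map_subtype, inf_eq_left.2 hA.1]
    rw [← h3]
    refine Subgroup.map_mono (le_sSup ((isMaxAb_iff P _).2 ?_))
    rw [h3]
    exact hA

theorem IsMaxAb.le_thompson {P A : Subgroup Ω} (h : IsMaxAb P A) : A ≤ thompsonSubgroupAOf P := by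
  rw [thompsonSubgroupAOf_eq]
  exact le_sSup h

theorem thompson_le_of_forall {P H : Subgroup Ω} (h : ∀ A, IsMaxAb P A → A ≤ H) :
    thompsonSubgroupAOf P ≤ H := by
  rw [thompsonSubgroupAOf_eq]
  exact sSup_le h

theorem thompson_le (P : Subgroup Ω) : thompsonSubgroupAOf P ≤ P :=
  thompson_le_of_forall fun _ hA => hA.1

theorem exists_isMaxAb (P : Subgroup Ω) [Finite P] : ∃ A, IsMaxAb P A := by
  classical
  have hfin : (Set.range fun B : {B : Subgroup Ω // B ≤ P ∧ ∀ a ∈ B, ∀ b ∈ B, a * b = b * a} =>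
      Nat.card B.1).Finite := by
    refine (Set.finite_Iic (Nat.card P)).subset ?_
    rintro _ ⟨B, rfl⟩
    exact Nat.card_le_card_of_injective _ (Subgroup.inclusion_injective B.2.1)
  obtain ⟨m, ⟨A, hA⟩, hm⟩ := hfin.exists_maximal ⟨_, ⟨⟨⊥, bot_le, by
    intro a ha b hb
    rw [Subgroup.mem_bot.1 ha, Subgroup.mem_bot.1 hb]⟩, rfl⟩⟩
  refine ⟨A.1, A.2.1, A.2.2, fun B hB hBc => ?_⟩
  by_contra hlt
  push Not at hlt
  have h1 : m ≤ Nat.card B := by
    rw [← hA]
    exact hlt.le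
  have h2 := hm ⟨⟨B, hB, hBc⟩, rfl⟩ h1
  rw [← hA] at h2
  exact absurd h2 (not_le.2 hlt)

theorem IsMaxAb.of_le {P Q A : Subgroup Ω} (h : IsMaxAb P A) (hAQ : A ≤ Q) (hQP : Q ≤ P) :
    IsMaxAb Q A :=
  ⟨hAQ, h.2.1, fun B hB hBc => h.2.2 B (hB.trans hQP) hBc⟩

/-- If `J(P) ≤ Q ≤ P` then `J(Q) = J(P)`. -/
theorem thompson_eq_of_le {P Q : Subgroup Ω} [Finite P] (h : thompsonSubgroupAOf P ≤ Q)
    (hQP : Q ≤ P) : thompsonSubgroupAOf Q = thompsonSubgroupAOf P := by
  apply le_antisymm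
  · obtain ⟨A₀, hA₀⟩ := exists_isMaxAb P
    refine thompson_le_of_forall fun A hA => IsMaxAb.le_thompson ⟨hA.1.trans hQP, hA.2.1, ?_⟩
    intro B hB hBc
    exact (hA₀.2.2 B hB hBc).trans (hA.2.2 A₀ (hA₀.le_thompson.trans h) hA₀.2.1)
  · exact thompson_le_of_forall fun A hA => (hA.of_le (hA.le_thompson.trans h) hQP).le_thompson

/-- The image of `J(P)` under an injective homomorphism is `J` of the image. -/
theorem map_thompson {P : Subgroup Ω} (φ : ↥P →* Ω) (hφ : Function.Injective φ) :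
    ((thompsonSubgroupAOf P).subgroupOf P).map φ = thompsonSubgroupAOf φ.range := by
  have hcard : ∀ B : Subgroup Ω, B ≤ P → Nat.card ((B.subgroupOf P).map φ) = Nat.card B := by
    intro B hB
    rw [← Nat.card_congr ((B.subgroupOf P).equivMapOfInjective φ hφ).toEquiv]
    exact Nat.card_congr (Subgroup.subgroupOfEquivOfLe hB).toEquiv
  have hcomm : ∀ B : Subgroup Ω, (∀ a ∈ B, ∀ b ∈ B, a * b = b * a) →
      ∀ a ∈ (B.subgroupOf P).map φ, ∀ b ∈ (B.subgroupOf P).map φ, a * b = b * a := by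
    rintro B hB _ ⟨a, ha, rfl⟩ _ ⟨b, hb, rfl⟩
    rw [← map_mul, ← map_mul]
    congr 1
    exact Subtype.ext (hB a ha b hb)
  -- pulling back
  have hback : ∀ B : Subgroup Ω, B ≤ φ.range → ∃ B' : Subgroup Ω, B' ≤ P ∧
      (B'.subgroupOf P).map φ = B := by
    intro B hB
    refine ⟨(B.comap φ).map P.subtype, Subgroup.map_subtype_le _, ?_⟩
    rw [Subgroup.subgroupOf, Subgroup.comap_map_eq_self_of_injective P.subtype_injective,
      Subgroup.map_comap_eq, inf_eq_right.2 hB]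
  have hbackcomm : ∀ B : Subgroup Ω, B ≤ P →
      (∀ a ∈ (B.subgroupOf P).map φ, ∀ b ∈ (B.subgroupOf P).map φ, a * b = b * a) →
      ∀ a ∈ B, ∀ b ∈ B, a * b = b * a := by
    intro B hB h a ha b hb
    have h1 := h (φ ⟨a, hB ha⟩) ⟨⟨a, hB ha⟩, ha, rfl⟩ (φ ⟨b, hB hb⟩) ⟨⟨b, hB hb⟩, hb, rfl⟩
    rw [← map_mul, ← map_mul] at h1
    exact congrArg Subtype.val (hφ h1)
  have hmax : ∀ A : Subgroup Ω, IsMaxAb P A → IsMaxAb φ.range ((A.subgroupOf P).map φ) := by
    intro A hA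
    refine ⟨Subgroup.map_le_range _ _, hcomm A hA.2.1, fun B hB hBc => ?_⟩
    obtain ⟨B', hB', rfl⟩ := hback B hB
    rw [hcard B' hB', hcard A hA.1]
    exact hA.2.2 B' hB' (hbackcomm B' hB' hBc)
  have hmax' : ∀ A : Subgroup Ω, A ≤ P → IsMaxAb φ.range ((A.subgroupOf P).map φ) → IsMaxAb P A := by
    intro A hAP hA
    refine ⟨hAP, hbackcomm A hAP hA.2.1, fun B hB hBc => ?_⟩
    have := hA.2.2 ((B.subgroupOf P).map φ) (Subgroup.map_le_range _ _) (hcomm B hBc)
    rwa [hcard B hB, hcard A hAP] at this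
  apply le_antisymm
  · rw [Subgroup.map_le_iff_le_comap]
    have h1 : thompsonSubgroupAOf P ≤ ((thompsonSubgroupAOf φ.range).comap φ).map P.subtype := by
      refine thompson_le_of_forall fun A hA => ?_
      intro a ha
      refine ⟨⟨a, hA.1 ha⟩, ?_, rfl⟩
      exact (hmax A hA).le_thompson ⟨⟨a, hA.1 ha⟩, ha, rfl⟩
    intro x hx
    obtain ⟨y, hy, hyx⟩ := h1 hx
    have : y = x := Subtype.ext hyx
    rw [← this]
    exact hy
  · refine thompson_le_of_forall fun A hA => ?_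
    obtain ⟨A', hA', rfl⟩ := hback A hA.1
    exact Subgroup.map_mono (fun x hx => (hmax' A' hA' hA).le_thompson hx)

/-- The centre of `Q` lies in `J(Q)`. -/
theorem center_le_thompson {Q : Subgroup Ω} [Finite Q] (z : Ω) (hz : z ∈ Q)
    (hzc : ∀ q ∈ Q, q * z = z * q) : z ∈ thompsonSubgroupAOf Q := by
  obtain ⟨A, hA⟩ := exists_isMaxAb Q
  have hfA : Finite A := Finite.of_injective _ (Subgroup.inclusion_injective hA.1)
  set B : Subgroup Ω := A ⊔ Subgroup.zpowers z with hB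
  have hBQ : B ≤ Q := sup_le hA.1 (by rwa [Subgroup.zpowers_le])
  have hfB : Finite B := Finite.of_injective _ (Subgroup.inclusion_injective hBQ)
  have hBc : ∀ a ∈ B, ∀ b ∈ B, a * b = b * a := by
    have hcomm : ∀ a ∈ (A : Set Ω) ∪ {z}, ∀ b ∈ (A : Set Ω) ∪ {z}, a * b = b * a := by
      rintro a (ha | ha) b (hb | hb)
      · exact hA.2.1 a ha b hb
      · rw [Set.mem_singleton_iff.1 hb]
        exact hzc a (hA.1 ha)
      · rw [Set.mem_singleton_iff.1 ha]
        exact (hzc b (hA.1 hb)).symm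
      · rw [Set.mem_singleton_iff.1 ha, Set.mem_singleton_iff.1 hb]
    have hsup : B = Subgroup.closure ((A : Set Ω) ∪ {z}) := by
      rw [Subgroup.closure_union, Subgroup.closure_eq, ← Subgroup.zpowers_eq_closure]
    rw [hsup]
    intro a ha b hb
    have h1 := (Subgroup.isMulCommutative_closure hcomm).is_comm.comm ⟨a, ha⟩ ⟨b, hb⟩
    exact congrArg Subtype.val h1
  have h1 : A = B := Subgroup.eq_of_le_of_card_ge le_sup_left (hA.2.2 B hBQ hBc)
  apply hA.le_thompson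
  rw [h1]
  exact Subgroup.mem_sup_right (Subgroup.mem_zpowers z)

end Cfsg.Agent.H774
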