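import Cfsg.Agent.H774.Str

/-!
# Existence of a group with the given Sylow 2-subgroup (helper774)
-/

set_option autoImplicit false

universe u

namespace Cfsg.Agent.H774

open Subgroup Cfsg.Agent.H781 Cfsg.Agent.OddOrderLocal.Metacyclic

section arith

/-- the geometric sum -/
def gs (w n : ℕ) : ℕ := ∑ i ∈ Finset.range n, w ^ i

theorem gs_mul (w n : ℕ) : (w : ℤ) ^ n - 1 = (w - 1) * gs w n := by
  induction n with
  | zero => simp [gs]
  | succ n ih =>
    have h1 : (gs w (n + 1) : ℤ) = gs w n + (w : ℤ) ^ n := by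
      unfold gs; rw [Finset.sum_range_succ]; push_cast; rfl
    rw [h1, mul_add, ← ih, pow_succ]; ring

theorem gs_two_mul (w h : ℕ) : gs w (2 * h) = gs w h * (1 + w ^ h) := by
  unfold gs
  rw [two_mul, Finset.sum_range_add, mul_add, mul_one, Finset.sum_mul]
  congr 1
  refine Finset.sum_congr rfl fun i _ => ?_
  rw [pow_add, mul_comm]

theorem wn_of {K n w j : ℕ} (hK : 1 ≤ K) (hs : gs w n ≡ 2 * j [MOD 2 ^ K])
    (hj : (2 : ℤ) ^ (K - 1) ∣ j * (w - 1)) : w ^ n ≡ 1 [MOD 2 ^ K] := by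
  have h1 : (2 : ℤ) ^ K ∣ 2 * j - gs w n := by
    have := Int.modEq_iff_dvd.1 (Int.natCast_modEq_iff.2 hs)
    push_cast at this
    exact this
  have h2 : (2 : ℤ) ^ K ∣ 2 * (j * (w - 1)) := by
    obtain ⟨t, ht⟩ := hj
    refine ⟨t, ?_⟩
    rw [ht, ← mul_assoc, ← pow_succ']
    congr 2; omega
  have h3 : (2 : ℤ) ^ K ∣ 1 - (w : ℤ) ^ n := by
    have h4 : 1 - (w : ℤ) ^ n = (w - 1) * (2 * j - gs w n) - 2 * (j * (w - 1)) := by
      have := gs_mul w n
      linear_combination -this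
    rw [h4]
    exact dvd_sub (Dvd.dvd.mul_left h1 _) h2
  apply Int.natCast_modEq_iff.1
  apply Int.modEq_iff_dvd.2
  push_cast
  exact h3

theorem dvd_of_ju {k u j : ℕ} (h : j * u ≡ j [MOD 2 ^ k]) : (2 : ℤ) ^ k ∣ j * (u - 1) := by
  have h1 := Int.modEq_iff_dvd.1 (Int.natCast_modEq_iff.2 h)
  push_cast at h1
  have h2 : (j : ℤ) * (u - 1) = -(j - j * u) := by ring
  rw [h2]
  exact h1.neg_right

theorem even_gs {w h : ℕ} (hw : Odd w) : Even (gs w (2 * h)) := by
  rw [gs_two_mul]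
  exact Even.mul_left (odd_one.add_odd hw.pow) _

/-- the arithmetic in the last case -/
theorem last_case {k m u j : ℕ} (hk : 1 ≤ k) (hm : 2 ≤ m) (hu : Odd u) (hju : j * u ≡ j [MOD 2 ^ k])
    (hsu : gs u (2 ^ m) ≡ 2 * j [MOD 2 ^ k]) (hn : ¬ gs u (2 ^ m) ≡ 2 * j [MOD 2 ^ (k + 1)]) :
    (2 : ℤ) ^ k ∣ gs u (2 ^ (m - 1)) - j - 2 ^ (k - 1) := by
  obtain ⟨l, rfl⟩ : ∃ l, k = l + 1 := ⟨k - 1, by omega⟩
  obtain ⟨r, rfl⟩ : ∃ r, m = r + 2 := ⟨m - 2, by omega⟩
  have e0 : r + 2 - 1 = r + 1 := by omega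
  have e1 : l + 1 - 1 = l := by omega
  rw [e0, e1]
  set A : ℕ := gs u (2 ^ (r + 1)) with hA
  set U : ℕ := u ^ 2 ^ (r + 1) with hU
  have hN : (2 : ℕ) ^ (r + 2) = 2 * 2 ^ (r + 1) := by ring
  have hs : (gs u (2 ^ (r + 2)) : ℤ) = A * (1 + U) := by
    rw [hN, gs_two_mul]; push_cast; rfl
  -- `s = 2 j + 2 ^ (l + 1) * t`, `t` odd
  have h1 := Int.modEq_iff_dvd.1 (Int.natCast_modEq_iff.2 hsu)
  push_cast at h1
  obtain ⟨t, ht⟩ := h1
  have htodd : Odd t := by
    by_contra he
    rw [Int.not_odd_iff_even] at he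
    obtain ⟨t', ht'⟩ := he
    apply hn
    apply Int.natCast_modEq_iff.1
    apply Int.modEq_iff_dvd.2
    push_cast
    exact ⟨t', by rw [ht, ht']; ring⟩
  -- `2 ^ (l + 2) ∣ u ^ N - 1`
  have h2 : (2 : ℤ) ^ (l + 2) ∣ (u : ℤ) ^ 2 ^ (r + 2) - 1 := by
    rw [gs_mul]
    obtain ⟨q, hq⟩ := dvd_of_ju hju
    obtain ⟨w, hw⟩ := hu
    have h3 : (gs u (2 ^ (r + 2)) : ℤ) = 2 * j - 2 ^ (l + 1) * t := by rw [← ht]; ring
    refine ⟨q - w * t, ?_⟩
    have h4 : ((u : ℤ) - 1) = 2 * w := by rw [hw]; push_cast; ring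
    calc ((u : ℤ) - 1) * gs u (2 ^ (r + 2)) = 2 * (j * (u - 1)) - 2 ^ (l + 1) * t * (u - 1) := by
          rw [h3]; ring
      _ = 2 * (2 ^ (l + 1) * q) - 2 ^ (l + 1) * t * (2 * w) := by rw [hq, h4]
      _ = _ := by ring
  -- `U = 1 mod 4`
  have hU4 : ∃ y : ℤ, (U : ℤ) + 1 = 2 * (2 * y + 1) := by
    obtain ⟨w, hw⟩ : Odd (u ^ 2 ^ r) := hu.pow
    refine ⟨w * w + w, ?_⟩
    have : U = (2 * w + 1) ^ 2 := by rw [hU, ← hw, ← pow_mul, ← pow_succ]
    rw [this]; push_cast; ring
  obtain ⟨y, hy⟩ := hU4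
  have h3 : (2 : ℤ) ^ (l + 1) ∣ U - 1 := by
    have h4 : (2 : ℤ) ^ (l + 2) ∣ 2 * ((U - 1) * (2 * y + 1)) := by
      have h5 : (2 : ℤ) * ((U - 1) * (2 * y + 1)) = (u : ℤ) ^ 2 ^ (r + 2) - 1 := by
        have h6 : (u : ℤ) ^ 2 ^ (r + 2) = U * U := by
          rw [hU]; push_cast; rw [← pow_add]; congr 1; ring
        rw [h6]
        linear_combination (-(U : ℤ) + 1) * hy
      rw [h5]; exact h2
    have h7 : (2 : ℤ) ^ (l + 1) ∣ (U - 1) * (2 * y + 1) := by
      rw [pow_succ', ] at h4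
      exact (mul_dvd_mul_iff_left (by norm_num : (2 : ℤ) ≠ 0)).1 h4
    have h8 : IsCoprime ((2 : ℤ) ^ (l + 1)) (2 * y + 1) := IsCoprime.pow_left ⟨-y, 1, by ring⟩
    exact h8.dvd_of_dvd_mul_right h7
  obtain ⟨a, ha⟩ : Even A := by
    rw [hA, show (2 : ℕ) ^ (r + 1) = 2 * 2 ^ r by ring]
    exact even_gs hu
  have h4 : (2 : ℤ) ^ (l + 2) ∣ 2 * A - 2 * j - 2 ^ (l + 1) := by
    obtain ⟨z, hz⟩ := h3
    obtain ⟨t', ht'⟩ := htodd
    refine ⟨-(t' + 1) - a * z, ?_⟩
    have h5 : (2 : ℤ) * j - A * (1 + U) = 2 ^ (l + 1) * t := by rw [← hs]; exact ht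
    have h6 : (A : ℤ) = 2 * a := by rw [ha]; push_cast; ring
    have h7 : (A : ℤ) * (1 + U) = 2 * A + 2 * a * (2 ^ (l + 1) * z) := by
      have : (1 : ℤ) + U = 2 + (U - 1) := by ring
      rw [this, hz, mul_add, ← h6]; ring
    rw [h7, ht'] at h5
    have h8 : (2 : ℤ) ^ (l + 2) = 2 * 2 ^ (l + 1) := by ring
    rw [h8]
    linear_combination -h5
  have h5 : (2 : ℤ) * A - 2 * j - 2 ^ (l + 1) = 2 * (A - j - 2 ^ l) := by ring
  rw [h5, show l + 2 = (l + 1) + 1 by ring, pow_succ'] at h4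
  exact (mul_dvd_mul_iff_left (by norm_num : (2 : ℤ) ≠ 0)).1 h4

end arith

section

variable {P : Type u} [Group P] [Finite P] {x v c : P} {k m u j : ℕ}

theorem Str.sum (S : Str x v c k m u j) (i : ℕ) : x ^ i * v * (x ^ i)⁻¹ = c ^ gs u i * v := by
  unfold gs
  induction i with
  | zero => simp
  | succ i ih =>
    have h1 : x ^ (i + 1) * v * (x ^ (i + 1))⁻¹ = x * (x ^ i * v * (x ^ i)⁻¹) * x⁻¹ := by
      rw [pow_succ']; group
    have h2 : x * (c ^ (∑ l ∈ Finset.range i, u ^ l) * v) * x⁻¹ =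
        (x * c ^ (∑ l ∈ Finset.range i, u ^ l) * x⁻¹) * (x * v * x⁻¹) := by group
    rw [h1, ih, h2, S.xv, ← conj_pow, S.xc, ← mul_assoc, ← pow_mul, ← pow_succ, Finset.sum_range_succ',
      pow_zero, Finset.mul_sum]
    simp only [pow_succ']

/-- the conclusion -/
def HasModel (P : Type u) [Group P] : Prop :=
  ∃ (G : Type u) (_ : Group G) (_ : Finite G) (ι : P →* G), Function.Injective ι ∧
    (∃ T : Sylow 2 G, (T : Subgroup G) = ι.range) ∧ HasTri G

/-- the case `v ^ 2 ≠ 1` -/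
theorem Str.model_quat (S : Str x v c k m u j) (hP : IsPGroup 2 P) (hv : v ^ 2 ≠ 1) : HasModel P := by
  obtain ⟨hk2, hv2⟩ := S.v2.resolve_left hv
  have R : Rel x v c k (2 ^ m) u j :=
    { hK := hk2
      hn := (even_two).pow_of_ne_zero (by have := S.hm; omega)
      hw := S.hu
      hwn := wn_of S.hk S.su ((pow_dvd_pow (2 : ℤ) (Nat.sub_le k 1)).trans (dvd_of_ju S.ju))
      hs := S.su
      xc := S.xc
      xv := S.xv
      vc := S.vc
      v2 := hv2
      cK := by rw [← S.oc, pow_orderOf_eq_one]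
      co := by rw [S.oc]; exact pow_dvd_pow 2 (Nat.sub_le k 1)
      vn := S.vn
      xn := S.xn
      xd := S.xd
      gen := S.gen }
  exact R.exists_group hP

theorem Str.model (S : Str x v c k m u j) (hP : IsPGroup 2 P) (hm : ¬ Cfsg.IsMetacyclic P)
    (hcyc : IsCyclic (_root_.commutator P)) : HasModel P := by
  by_cases hv : v ^ 2 = 1
  swap
  · exact S.model_quat hP hv
  have hck : c ^ 2 ^ k = 1 := by rw [← S.oc, pow_orderOf_eq_one]
  have hck' : c ^ 2 ^ (k + 1) = 1 := by rw [pow_succ, pow_mul, hck, one_pow]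
  have hn : Even (2 ^ m) := (even_two).pow_of_ne_zero (by have := S.hm; omega)
  have hk := S.hk
  by_cases h1 : gs u (2 ^ m) ≡ 2 * j [MOD 2 ^ (k + 1)]
  · have R : Rel x v c (k + 1) (2 ^ m) u j :=
      { hK := by omega
        hn := hn
        hw := S.hu
        hwn := wn_of (by omega) h1 (by rw [Nat.add_sub_cancel]; exact dvd_of_ju S.ju)
        hs := h1
        xc := S.xc
        xv := S.xv
        vc := S.vc
        v2 := by rw [Nat.add_sub_cancel, hck, hv]
        cK := hck'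
        co := by rw [Nat.add_sub_cancel, S.oc]
        vn := S.vn
        xn := S.xn
        xd := S.xd
        gen := S.gen }
    exact R.exists_group hP
  · rcases Nat.lt_or_ge m 2 with hm2 | hm2
    · -- `m = 1`
      have hm1 : m = 1 := by have := S.hm; omega
      subst hm1
      have h2 : gs (u + 2 ^ k) (2 ^ 1) ≡ 2 * j [MOD 2 ^ (k + 1)] := by
        have hg : ∀ w, gs w (2 ^ 1) = 1 + w := by
          intro w; simp [gs, Finset.sum_range_succ]
        have h3 := S.su
        change gs u (2 ^ 1) ≡ 2 * j [MOD 2 ^ k] at h3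
        rw [hg] at h1 h3 ⊢
        have h4 := Int.modEq_iff_dvd.1 (Int.natCast_modEq_iff.2 h3)
        push_cast at h4
        obtain ⟨t, ht⟩ := h4
        apply Int.natCast_modEq_iff.1
        apply Int.modEq_iff_dvd.2
        push_cast
        rcases Int.even_or_odd t with ⟨t', ht'⟩ | ⟨t', ht'⟩
        · exfalso
          apply h1
          apply Int.natCast_modEq_iff.1
          apply Int.modEq_iff_dvd.2
          push_cast
          exact ⟨t', by rw [ht, ht']; ring⟩
        · refine ⟨t', ?_⟩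
          rw [ht'] at ht
          linear_combination ht
      have R : Rel x v c (k + 1) (2 ^ 1) (u + 2 ^ k) j :=
        { hK := by omega
          hn := hn
          hw := S.hu.add_even ((even_two).pow_of_ne_zero (by omega))
          hwn := wn_of (by omega) h2 (by
            rw [Nat.add_sub_cancel]
            obtain ⟨q, hq⟩ := dvd_of_ju S.ju
            refine ⟨q + j, ?_⟩
            push_cast
            linear_combination hq)
          hs := h2
          xc := by rw [pow_add, hck, mul_one]; exact S.xc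
          xv := S.xv
          vc := S.vc
          v2 := by rw [Nat.add_sub_cancel, hck, hv]
          cK := hck'
          co := by rw [Nat.add_sub_cancel, S.oc]
          vn := S.vn
          xn := S.xn
          xd := S.xd
          gen := S.gen }
      exact R.exists_group hP
    · -- `m ≥ 2`
      have h2 := last_case S.hk hm2 S.hu S.ju S.su h1
      set h := 2 ^ (m - 1) with hh
      have hN : 2 ^ m = h + h := by
        rw [hh, ← two_mul, ← pow_succ']
        congr 1; omega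
      set v' := v * x ^ h with hv'
      have hv'2 : v' ^ 2 = c ^ 2 ^ (k - 1) := by
        have e1 : v' ^ 2 = v * (x ^ h * v * (x ^ h)⁻¹) * x ^ 2 ^ m := by
          rw [hN, pow_add, hv', pow_two]; group
        have e2 : v * c ^ (gs u h : ℤ) = c ^ (-(gs u h : ℤ)) * v := dih_conj S.vc _
        rw [zpow_natCast] at e2
        rw [e1, S.sum, S.xn, ← mul_assoc, e2, mul_assoc (c ^ (-(gs u h : ℤ))), ← pow_two, hv, mul_one,
          ← zpow_natCast, ← zpow_natCast, ← zpow_add, zpow_eq_zpow_iff_modEq, S.oc]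
        refine Int.modEq_iff_dvd.2 ?_
        obtain ⟨q, hq⟩ := h2
        push_cast
        refine ⟨q + 1, ?_⟩
        have e3 : (2 : ℤ) ^ k = 2 * 2 ^ (k - 1) := by
          rw [← pow_succ']; congr 1; omega
        rw [mul_add, ← hq, mul_one, e3]; ring
      have hgen' : Subgroup.closure {x, v'} = ⊤ := by
        rw [← top_le_iff, ← S.gen, closure_le]
        rintro y (rfl | rfl)
        · exact subset_closure (by simp)
        · have e1 : y = v' * (x ^ h)⁻¹ := by rw [hv']; group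
          rw [e1]
          exact mul_mem (subset_closure (by simp)) (inv_mem (pow_mem (subset_closure (by simp)) _))
      rcases Nat.lt_or_ge k 2 with hk2 | hk2
      · exfalso
        have hk1 : k = 1 := by omega
        subst hk1
        apply hm
        refine isMetacyclic_of_comm_mem v' x (fun a b => ?_) (by rw [Set.pair_comm]; exact hgen')
        have h3 := comm_mem_commutator a b
        rw [← S.der] at h3
        refine (zpowers_le.2 ?_) h3
        have h4 : v' ^ 2 = c := by rw [hv'2]; simp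
        rw [← h4]
        exact pow_mem (mem_zpowers v') 2
      · obtain ⟨l, rfl⟩ : ∃ l, k = l + 2 := ⟨k - 2, by omega⟩
        have e1 : l + 2 - 1 = l + 1 := by omega
        rw [e1] at hv'2
        have h3 : v' ^ 2 ∈ Sq (_root_.commutator P) := by
          rw [hv'2, pow_succ, pow_mul]
          refine sq_mem_Sq ?_
          rw [← S.der]
          exact pow_mem (mem_zpowers c) _
        obtain ⟨c', k', m', u', j', S'⟩ := exists_str hP hm hcyc hgen' h3
        refine S'.model_quat hP ?_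
        rw [hv'2]
        intro h4
        have h5 := orderOf_dvd_of_pow_eq_one h4
        rw [S.oc, Nat.pow_dvd_pow_iff_le_right (by norm_num)] at h5
        omega

end

end Cfsg.Agent.H774
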