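import Cfsg.Agent.Lib.FrattiniPGroup
import Mathlib

/-!
# The subgroup generated by the squares in a finite 2-group (helper774)
-/

set_option autoImplicit false

namespace Cfsg.Agent.H774

open Subgroup

variable {G : Type*} [Group G]

/-- The subgroup generated by the squares of the elements of `H`. -/
def Sq (H : Subgroup G) : Subgroup G := Subgroup.closure {g | ∃ h ∈ H, g = h ^ 2}

theorem sq_mem_Sq {H : Subgroup G} {h : G} (hh : h ∈ H) : h ^ 2 ∈ Sq H :=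
  subset_closure ⟨h, hh, rfl⟩

theorem Sq_le_iff {H K : Subgroup G} : Sq H ≤ K ↔ ∀ h ∈ H, h ^ 2 ∈ K := by
  constructor
  · exact fun h x hx => h (sq_mem_Sq hx)
  · intro h
    rw [Sq, closure_le]
    rintro _ ⟨x, hx, rfl⟩
    exact h x hx

theorem Sq_le (H : Subgroup G) : Sq H ≤ H := Sq_le_iff.2 fun _ hx => H.pow_mem hx 2

theorem Sq_mono {H K : Subgroup G} (h : H ≤ K) : Sq H ≤ Sq K :=
  Sq_le_iff.2 fun _ hx => sq_mem_Sq (h hx)

theorem comm_eq_sq (x y : G) :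
    x * y * x⁻¹ * y⁻¹ = (x * y) ^ 2 * (y⁻¹ * x⁻¹ * y) ^ 2 * (y⁻¹) ^ 2 := by
  simp only [pow_two]; group

theorem comm_mem_Sq {H : Subgroup G} {x y : G} (hx : x ∈ H) (hy : y ∈ H) :
    x * y * x⁻¹ * y⁻¹ ∈ Sq H := by
  rw [comm_eq_sq]
  refine mul_mem (mul_mem (sq_mem_Sq (mul_mem hx hy)) (sq_mem_Sq ?_)) (sq_mem_Sq (inv_mem hy))
  exact mul_mem (mul_mem (inv_mem hy) (inv_mem hx)) hy

theorem map_Sq {G' : Type*} [Group G'] (f : G →* G') (H : Subgroup G) :
    (Sq H).map f = Sq (H.map f) := by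
  refine le_antisymm ?_ ?_
  · rw [map_le_iff_le_comap, Sq_le_iff]
    intro h hh
    rw [mem_comap, map_pow]
    exact sq_mem_Sq (mem_map_of_mem f hh)
  · rw [Sq_le_iff]
    rintro _ ⟨h, hh, rfl⟩
    exact ⟨h ^ 2, sq_mem_Sq hh, map_pow f h 2⟩

theorem conj_mem_Sq {H : Subgroup G} {g : G} (hg : ∀ h ∈ H, g * h * g⁻¹ ∈ H) {s : G} (hs : s ∈ Sq H) :
    g * s * g⁻¹ ∈ Sq H := by
  have h1 : Sq H ≤ (Sq H).comap (MulAut.conj g).toMonoidHom := by
    rw [Sq_le_iff]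
    intro h hh
    rw [mem_comap]
    have h2 : (MulAut.conj g).toMonoidHom (h ^ 2) = (g * h * g⁻¹) ^ 2 := by
      rw [conj_pow]; rfl
    rw [h2]
    exact sq_mem_Sq (hg h hh)
  exact h1 hs

theorem Sq_normal {H : Subgroup G} [hn : H.Normal] : (Sq H).Normal :=
  ⟨fun _ hs g => conj_mem_Sq (fun h hh => hn.conj_mem h hh g) hs⟩

/-- a function preserving products on `H` and mapping `H` to `H` preserves `Sq H`. -/
theorem apply_mem_Sq {H : Subgroup G} {β : G → G} (hβ : ∀ h ∈ H, β h ∈ H)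
    (hmul : ∀ x ∈ H, ∀ y ∈ H, β (x * y) = β x * β y) {s : G} (hs : s ∈ Sq H) : β s ∈ Sq H := by
  have h1 : β 1 = 1 := by
    have := hmul 1 (one_mem _) 1 (one_mem _)
    rw [mul_one] at this
    exact left_eq_mul.1 this
  have hinv : ∀ x ∈ H, β x⁻¹ = (β x)⁻¹ := by
    intro x hx
    have := hmul x⁻¹ (inv_mem hx) x hx
    rw [inv_mul_cancel, h1] at this
    exact eq_inv_of_mul_eq_one_left this.symm
  have key : ∀ x (hx : x ∈ Sq H), x ∈ H ∧ β x ∈ Sq H := by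
    intro x hx
    refine Subgroup.closure_induction (p := fun x _ => x ∈ H ∧ β x ∈ Sq H) ?_ ?_ ?_ ?_ hx
    · rintro _ ⟨h, hh, rfl⟩
      refine ⟨pow_mem hh 2, ?_⟩
      rw [pow_two, hmul h hh h hh, ← pow_two]
      exact sq_mem_Sq (hβ h hh)
    · exact ⟨one_mem _, by rw [h1]; exact one_mem _⟩
    · rintro a b - - ⟨ha, ha'⟩ ⟨hb, hb'⟩
      exact ⟨mul_mem ha hb, by rw [hmul a ha b hb]; exact mul_mem ha' hb'⟩
    · rintro a - ⟨ha, ha'⟩
      exact ⟨inv_mem ha, by rw [hinv a ha]; exact inv_mem ha'⟩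
  exact (key s hs).2

section two
variable [Finite G]

/-- A proper subgroup of a 2-group `H` is contained in a subgroup of index two. -/
theorem exists_relIndex_two {H K : Subgroup G} (hH : IsPGroup 2 H) (hKH : K ≤ H) (hne : K ≠ H) :
    ∃ M : Subgroup G, K ≤ M ∧ M ≤ H ∧ M.relIndex H = 2 := by
  have : Fact (Nat.Prime 2) := ⟨Nat.prime_two⟩
  have h1 : K.subgroupOf H ≠ ⊤ := by
    intro h
    rw [subgroupOf_eq_top] at h
    exact hne (le_antisymm hKH h)
  obtain ⟨M, hM, hKM⟩ := (eq_top_or_exists_le_coatom (K.subgroupOf H)).resolve_left h1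
  refine ⟨M.map H.subtype, ?_, map_subtype_le M, ?_⟩
  · intro k hk
    exact ⟨⟨k, hKH hk⟩, hKM (mem_subgroupOf.2 hk), rfl⟩
  · have h2 := Lib.FrattiniPGroup.index_of_coatom hH hM
    rw [relIndex, subgroupOf, comap_map_eq_self_of_injective H.subtype_injective, h2]

theorem sq_mem_of_relIndex {H M : Subgroup G} (hi : M.relIndex H = 2) {h : G} (hh : h ∈ H) :
    h ^ 2 ∈ M := by
  rw [relIndex] at hi
  have := normal_of_index_eq_two hi
  have h1 := (M.subgroupOf H).pow_index_mem ⟨h, hh⟩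
  rw [hi] at h1
  exact mem_subgroupOf.1 h1

/-- `Sq H` consists of non-generators of the 2-group `H`. -/
theorem eq_of_le_sup_Sq {H K : Subgroup G} (hH : IsPGroup 2 H) (hKH : K ≤ H) (h : H ≤ K ⊔ Sq H) :
    K = H := by
  by_contra hne
  obtain ⟨M, hKM, hMH, hi⟩ := exists_relIndex_two hH hKH hne
  have h1 : H ≤ M := h.trans (sup_le hKM (Sq_le_iff.2 fun x hx => sq_mem_of_relIndex hi hx))
  have h2 : M.relIndex H = 1 := relIndex_eq_one.2 h1
  omega

end two

end Cfsg.Agent.H774
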