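import Cfsg.Agent.OddOrderLocal.Metacyclic
import Cfsg.Agent.H774.TwoSq

/-!
# Metacyclic 2-groups: basic facts (helper774)
-/

set_option autoImplicit false

namespace Cfsg.Agent.H774

open Subgroup Cfsg.Agent.OddOrderLocal.Metacyclic

theorem cyclic_card_le_two {C : Type*} [Group C] (h : IsCyclic C) (he : ∀ x : C, x ^ 2 = 1) :
    Nat.card C ≤ 2 := by
  obtain ⟨g, hg⟩ := h.exists_generator
  rw [← orderOf_eq_card_of_forall_mem_zpowers hg]
  exact Nat.le_of_dvd (by norm_num) (orderOf_dvd_of_pow_eq_one (he g))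

theorem card_le_four {A : Type*} [Group A] (hm : Cfsg.IsMetacyclic A) (he : ∀ a : A, a ^ 2 = 1) :
    Nat.card A ≤ 4 := by
  obtain ⟨N, hN, hc, hq⟩ := hm
  have h1 : Nat.card N ≤ 2 := cyclic_card_le_two hc (fun x => Subtype.ext (he x))
  have h2 : Nat.card (A ⧸ N) ≤ 2 := by
    refine cyclic_card_le_two hq (fun x => ?_)
    obtain ⟨a, rfl⟩ := QuotientGroup.mk_surjective x
    rw [← QuotientGroup.mk_pow, he a, QuotientGroup.mk_one]
  rw [← N.card_mul_index]
  exact Nat.mul_le_mul h1 h2

theorem isMetacyclic_of_mulEquiv {G H : Type*} [Group G] [Group H] (e : G ≃* H)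
    (h : Cfsg.IsMetacyclic G) : Cfsg.IsMetacyclic H :=
  isMetacyclic_of_surjective e.toMonoidHom e.surjective h

/-- Sections of exponent two of a metacyclic subgroup have order at most four. -/
theorem relIndex_le_four {G : Type*} [Group G] {M A B : Subgroup G} (hM : Cfsg.IsMetacyclic M)
    (hA : A ≤ M) (hB : ∀ a ∈ A, ∀ b ∈ B, b ∈ A → a * b * a⁻¹ ∈ B) (hsq : ∀ a ∈ A, a ^ 2 ∈ B) :
    B.relIndex A ≤ 4 := by
  have hn : (B.subgroupOf A).Normal :=
    ⟨fun n hn g => hB g g.2 n (mem_subgroupOf.1 hn) n.2⟩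
  have h1 : Cfsg.IsMetacyclic A := isMetacyclic_of_le hM hA
  have h2 : Cfsg.IsMetacyclic (A ⧸ B.subgroupOf A) :=
    isMetacyclic_of_surjective (QuotientGroup.mk' _) (QuotientGroup.mk'_surjective _) h1
  exact card_le_four h2 (fun x => by
    obtain ⟨a, rfl⟩ := QuotientGroup.mk_surjective x
    rw [← QuotientGroup.mk_pow, QuotientGroup.eq_one_iff]
    exact hsq a a.2)

theorem isMetacyclic_of_normal {G : Type*} [Group G] (a g : G) (ha : (zpowers a).Normal)
    (h : ∀ x : G, ∃ i j : ℤ, x = a ^ i * g ^ j) : Cfsg.IsMetacyclic G := by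
  refine ⟨zpowers a, ha, inferInstance, ⟨(g : G ⧸ zpowers a), fun x => ?_⟩⟩
  obtain ⟨x, rfl⟩ := QuotientGroup.mk_surjective x
  obtain ⟨i, j, rfl⟩ := h x
  refine ⟨j, ?_⟩
  show ((g : G ⧸ zpowers a)) ^ j = _
  rw [QuotientGroup.mk_mul, ← QuotientGroup.mk_zpow,
    (QuotientGroup.eq_one_iff (a ^ i)).2 (zpow_mem (mem_zpowers a) i), one_mul]

theorem isMetacyclic_of_normal_closure {G : Type*} [Group G] (a g : G) (ha : (zpowers a).Normal)
    (h : Subgroup.closure {a, g} = ⊤) : Cfsg.IsMetacyclic G := by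
  refine isMetacyclic_of_normal a g ha fun x => ?_
  have h1 : x ∈ zpowers a ⊔ zpowers g := by
    have h2 : Subgroup.closure {a, g} ≤ zpowers a ⊔ zpowers g := by
      rw [closure_le]
      rintro y (rfl | rfl)
      · exact (le_sup_left : zpowers y ≤ _) (mem_zpowers y)
      · exact (le_sup_right : zpowers y ≤ _) (mem_zpowers y)
    exact h2 (h ▸ mem_top x)
  rw [mem_sup_of_normal_left] at h1
  obtain ⟨_, ⟨i, rfl⟩, _, ⟨j, rfl⟩, h3⟩ := h1
  exact ⟨i, j, h3.symm⟩

/-- A subgroup containing all commutators is normal. -/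
theorem normal_of_comm_mem {G : Type*} [Group G] {N : Subgroup G}
    (h : ∀ n ∈ N, ∀ g : G, g * n * g⁻¹ * n⁻¹ ∈ N) : N.Normal :=
  ⟨fun n hn g => by
    have := N.mul_mem (h n hn g) hn
    rwa [inv_mul_cancel_right] at this⟩

/-- If `⟨a⟩` contains all commutators and `a`, `g` generate then the group is metacyclic. -/
theorem isMetacyclic_of_comm_mem {G : Type*} [Group G] (a g : G)
    (hc : ∀ x y : G, x * y * x⁻¹ * y⁻¹ ∈ zpowers a) (h : Subgroup.closure {a, g} = ⊤) :
    Cfsg.IsMetacyclic G :=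
  isMetacyclic_of_normal_closure a g (normal_of_comm_mem fun n _ g => hc g n) h

theorem isMetacyclic_of_isCyclic {G : Type*} [Group G] (h : IsCyclic G) : Cfsg.IsMetacyclic G := by
  obtain ⟨g, hg⟩ := h.exists_generator
  refine isMetacyclic_of_normal_closure g 1 ?_ ?_
  · have : zpowers g = ⊤ := by rw [eq_top_iff]; exact fun x _ => hg x
    rw [this]; infer_instance
  · rw [eq_top_iff]
    intro x _
    have h1 : zpowers g ≤ Subgroup.closure {g, 1} := by
      rw [zpowers_le]; exact subset_closure (by simp)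
    exact h1 (hg x)

/-! ### The subgroup `Φ(G') [G', G]` -/

/-- `Φ(G') [G', G]` (for a 2-group). -/
def KK (G : Type*) [Group G] : Subgroup G := ⁅_root_.commutator G, (⊤ : Subgroup G)⁆ ⊔ Sq (_root_.commutator G)

theorem KK_le_commutator (G : Type*) [Group G] : KK G ≤ _root_.commutator G :=
  sup_le (commutator_le_left _ _) (Sq_le _)

instance KK_normal (G : Type*) [Group G] : (KK G).Normal := by
  have : (Sq (_root_.commutator G)).Normal := Sq_normal
  unfold KK
  infer_instance

theorem map_KK {G H : Type*} [Group G] [Group H] (f : G →* H) (hf : Function.Surjective f) :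
    (KK G).map f = KK H := by
  have h1 : (_root_.commutator G).map f = _root_.commutator H := by
    rw [_root_.commutator_def, _root_.commutator_def, map_commutator, map_top_of_surjective f hf]
  rw [KK, KK, Subgroup.map_sup, map_commutator, map_Sq, h1, map_top_of_surjective f hf]

theorem comm_mem_commutator {G : Type*} [Group G] (x y : G) : x * y * x⁻¹ * y⁻¹ ∈ _root_.commutator G := by
  rw [_root_.commutator_def]
  exact commutator_mem_commutator (mem_top x) (mem_top y)

theorem conj_mem_KK {G : Type*} [Group G] {d : G} (hd : d ∈ _root_.commutator G) (g : G) :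
    g * d * g⁻¹ * d⁻¹ ∈ KK G := by
  refine (le_sup_left : _ ≤ KK G) ?_
  rw [commutator_comm]
  exact commutator_mem_commutator (mem_top g) hd

theorem sq_mem_KK {G : Type*} [Group G] {d : G} (hd : d ∈ _root_.commutator G) : d ^ 2 ∈ KK G :=
  (le_sup_right : _ ≤ KK G) (sq_mem_Sq hd)

end Cfsg.Agent.H774
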