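import Mathlib

/-!
# A commutative algebra lemma about `(1+t)^p = 1`, `t` nilpotent (helper774)
-/

set_option autoImplicit false

namespace Cfsg.Agent.H774

open Polynomial

/-- `(1+t)^p = 1 + t^p + p t (1 + t c)` in any commutative ring. -/
theorem exists_one_add_pow_eq {A : Type*} [CommRing A] {p : ℕ} (hp : p.Prime) (t : A) :
    ∃ c : A, (1 + t) ^ p = 1 + t ^ p + p * t * (1 + t * c) := by
  obtain ⟨r, hr⟩ := exists_add_pow_prime_eq hp (X : ℤ[X]) 1
  have h0 : r.coeff 0 = 1 := by
    have h1 := congrArg (fun f : ℤ[X] => f.coeff 1) hr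
    have h2 : ((X + 1 : ℤ[X]) ^ p).coeff 1 = p := by
      rw [Polynomial.coeff_X_add_one_pow]
      simp
    have h3 : ((X : ℤ[X]) ^ p).coeff 1 = 0 := by
      rw [Polynomial.coeff_X_pow, if_neg]
      exact hp.one_lt.ne
    have h4 : ((p : ℤ[X]) * X * 1 * r).coeff 1 = p * r.coeff 0 := by
      have : ((p : ℤ[X]) * X * 1 * r) = X * (C (p : ℤ) * r) := by
        simp; ring
      rw [this, Polynomial.coeff_X_mul, Polynomial.coeff_C_mul]
    simp only [Polynomial.coeff_add, one_pow] at h1
    rw [h2, h3, h4] at h1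
    have h5 : (1 : ℤ[X]).coeff 1 = 0 := by
      rw [Polynomial.coeff_one]; simp
    rw [h5] at h1
    have hp0 : (p : ℤ) ≠ 0 := by exact_mod_cast hp.ne_zero
    have h6 : (p : ℤ) * r.coeff 0 = p * 1 := by linarith
    exact mul_left_cancel₀ hp0 h6
  have h7 : r = 1 + X * r.divX := by
    conv_lhs => rw [← Polynomial.X_mul_divX_add r, h0]
    simp; ring
  refine ⟨aeval t r.divX, ?_⟩
  have h8 := congrArg (aeval t) hr
  rw [h7] at h8
  simp only [map_pow, map_add, map_mul, aeval_X, map_one, one_pow, mul_one, map_natCast] at h8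
  rw [add_comm 1 t, h8]
  ring_nf

/-- If `(1+t)^p = 1` and `t^(n(p-1)+1) = 0` then `p^n t = 0`. -/
theorem pow_mul_eq_zero {A : Type*} [CommRing A] {p : ℕ} (hp : p.Prime) (n : ℕ) (t : A)
    (h1 : (1 + t) ^ p = 1) (h2 : t ^ (n * (p - 1) + 1) = 0) : (p : A) ^ n * t = 0 := by
  obtain ⟨c, hc⟩ := exists_one_add_pow_eq hp t
  have hnil : IsNilpotent (t * c) := by
    have : IsNilpotent t := ⟨_, h2⟩
    exact (Commute.all t c).isNilpotent_mul_right this
  have hu : IsUnit (1 + t * c) := hnil.isUnit_one_add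
  have h3 : (p : A) * t * (1 + t * c) = - t ^ p := by
    have : t ^ p + p * t * (1 + t * c) = 0 := by
      have := h1.symm.trans hc
      linear_combination -this
    linear_combination this
  have key : ∀ k ≤ n, (p : A) ^ k * t ^ ((n - k) * (p - 1) + 1) = 0 := by
    intro k
    induction k with
    | zero => intro _; simpa using h2
    | succ k ih =>
      intro hk
      have ihk := ih (by omega)
      have hp2 := hp.two_le
      have e1 : (n - k) * (p - 1) + 1 = (n - (k + 1)) * (p - 1) + p := by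
        have : n - k = (n - (k + 1)) + 1 := by omega
        rw [this]
        have : ((n - (k + 1)) + 1) * (p - 1) = (n - (k + 1)) * (p - 1) + (p - 1) := by ring
        rw [this]
        omega
      rw [e1] at ihk
      have h4 : (p : A) ^ (k + 1) * t ^ ((n - (k + 1)) * (p - 1) + 1) * (1 + t * c) = 0 := by
        calc (p : A) ^ (k + 1) * t ^ ((n - (k + 1)) * (p - 1) + 1) * (1 + t * c)
            = (p : A) ^ k * t ^ ((n - (k + 1)) * (p - 1)) * ((p : A) * t * (1 + t * c)) := by ring
          _ = - ((p : A) ^ k * t ^ ((n - (k + 1)) * (p - 1) + p)) := by rw [h3]; ring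
          _ = 0 := by rw [ihk]; simp
      exact (hu.mul_left_eq_zero).1 h4
  have := key n le_rfl
  simpa using this

/-- The action form: if `f` is an additive endomorphism of `V`, `f^p y = y` and
`(f-1)^(n(p-1)+1) y = 0`, then `p^n • f y = p^n • y`. -/
theorem end_smul_eq {V : Type*} [AddCommGroup V] {p : ℕ} (hp : p.Prime) (n : ℕ)
    (f : Module.End ℤ V) (y : V) (h1 : (f ^ p) y = y)
    (h2 : ((f - 1) ^ (n * (p - 1) + 1)) y = 0) : p ^ n • f y = p ^ n • y := by
  let I : Ideal ℤ[X] :=
    { carrier := {g | (aeval f g) y = 0}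
      add_mem' := by
        intro a b ha hb
        simp only [Set.mem_setOf_eq] at *
        rw [map_add, LinearMap.add_apply, ha, hb, add_zero]
      zero_mem' := by simp
      smul_mem' := by
        intro c a ha
        simp only [Set.mem_setOf_eq] at *
        rw [smul_eq_mul, map_mul, Module.End.mul_apply, ha, map_zero] }
  have hI : ∀ g : ℤ[X], g ∈ I ↔ (aeval f g) y = 0 := fun g => Iff.rfl
  have hA := pow_mul_eq_zero (A := ℤ[X] ⧸ I) hp n (Ideal.Quotient.mk I (X - 1)) ?_ ?_
  · have h3 : (Ideal.Quotient.mk I) ((p : ℤ[X]) ^ n * (X - 1)) = 0 := by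
      rw [map_mul, map_pow, map_natCast]
      exact hA
    rw [Ideal.Quotient.eq_zero_iff_mem, hI] at h3
    rw [map_mul, map_pow, map_natCast, Module.End.mul_apply] at h3
    have h4 : (aeval f (X - 1 : ℤ[X])) y = f y - y := by
      simp
    rw [h4] at h3
    have h5 : ((p : Module.End ℤ V) ^ n) (f y - y) = p ^ n • (f y - y) := by
      have : ((p : Module.End ℤ V) ^ n) = ((p ^ n : ℕ) : Module.End ℤ V) := by push_cast; rfl
      rw [this, Module.End.natCast_apply]
    rw [h5, smul_sub] at h3
    exact sub_eq_zero.1 h3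
  · have : (1 : ℤ[X] ⧸ I) + (Ideal.Quotient.mk I) (X - 1) = Ideal.Quotient.mk I X := by
      rw [map_sub, map_one]; ring
    rw [this, ← map_pow, ← map_one (Ideal.Quotient.mk I), Ideal.Quotient.mk_eq_mk_iff_sub_mem, hI]
    simp [h1]
  · rw [← map_pow, Ideal.Quotient.eq_zero_iff_mem, hI]
    simpa using h2

end Cfsg.Agent.H774
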