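import Cfsg.Agent.H774.Sl
import Cfsg.Agent.H774.Dih

/-!
# `SL(2, 5^(2^(K-2)))` (helper774)
-/

set_option autoImplicit false

namespace Cfsg.Agent.H774

open Matrix Cfsg.Agent.H781

/-! ### Arithmetic -/

theorem exists_five {K : ℕ} (hK : 2 ≤ K) (a : ℤ) (ha : a % 4 = 1) : ∃ i : ℕ, (2 : ℤ) ^ K ∣ a - 5 ^ i := by
  obtain ⟨k, rfl⟩ : ∃ k, K = k + 2 := ⟨K - 2, by omega⟩
  induction k with
  | zero => exact ⟨0, by norm_num; omega⟩
  | succ k ih =>
    obtain ⟨i, t, ht⟩ := ih (by omega)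
    obtain ⟨o, ho, h⟩ := pow_two_pow_sub_one_five k
    rcases Int.even_or_odd t with ⟨s, hs⟩ | ⟨s, hs⟩
    · refine ⟨i, s, ?_⟩
      rw [ht, hs]; ring
    · refine ⟨i + 2 ^ k, ?_⟩
      have h1 : (5 : ℤ) ^ 2 ^ k = 1 + 2 ^ (k + 2) * o := by
        have h2 : 1 ≤ 5 ^ 2 ^ k := Nat.one_le_pow _ _ (by norm_num)
        have h3 : 5 ^ 2 ^ k = 1 + 2 ^ (k + 2) * o := by omega
        exact_mod_cast h3
      obtain ⟨m, hm⟩ := ho
      have h5 : Odd ((5 : ℤ) ^ i) := (show Odd (5 : ℤ) by decide).pow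
      obtain ⟨r, hr⟩ := h5
      refine ⟨s - (r * (2 * m + 1) + m), ?_⟩
      rw [pow_add, h1, mul_add, mul_one, ← sub_sub, ht, hs, hm, hr]
      push_cast
      ring

theorem exists_pm_five {K : ℕ} (hK : 2 ≤ K) (u : ℕ) (hu : Odd u) :
    ∃ i : ℕ, (2 : ℤ) ^ K ∣ u - 5 ^ i ∨ (2 : ℤ) ^ K ∣ u + 5 ^ i := by
  obtain ⟨m, hm⟩ := hu
  rcases Nat.even_or_odd m with ⟨s, hs⟩ | ⟨s, hs⟩
  · obtain ⟨i, hi⟩ := exists_five hK u (by subst hm hs; push_cast; omega)
    exact ⟨i, Or.inl hi⟩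
  · obtain ⟨i, hi⟩ := exists_five hK (-u) (by subst hm hs; push_cast; omega)
    refine ⟨i, Or.inr ?_⟩
    have := hi.neg_right
    rwa [neg_sub, sub_neg_eq_add, add_comm] at this

theorem pow_of_conj {M : Type*} [Group M] {A Φ : M} {u : ℕ} (h : Φ * A = A ^ u * Φ) (n : ℕ) :
    (A * Φ) ^ n = A ^ (∑ i ∈ Finset.range n, u ^ i) * Φ ^ n := by
  have h1 : ∀ m : ℕ, Φ * A ^ m = A ^ (u * m) * Φ := by
    intro m
    induction m with
    | zero => simp
    | succ m ih => rw [pow_succ, ← mul_assoc, ih, mul_assoc, h, ← mul_assoc, ← pow_add, mul_add, mul_one]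
  have h2 : ∀ n : ℕ, Φ ^ n * A = A ^ (u ^ n) * Φ ^ n := by
    intro n
    induction n with
    | zero => simp
    | succ n ih =>
      rw [pow_succ' Φ, mul_assoc, ih, ← mul_assoc, h1, mul_assoc, pow_succ' u]
  induction n with
  | zero => simp
  | succ n ih =>
    rw [pow_succ, ih, Finset.sum_range_succ, pow_add, pow_succ Φ]
    calc A ^ (∑ i ∈ Finset.range n, u ^ i) * Φ ^ n * (A * Φ)
        = A ^ (∑ i ∈ Finset.range n, u ^ i) * (Φ ^ n * A) * Φ := by group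
      _ = _ := by rw [h2]; group

section field

variable {F : Type*} [Field F]

/-- `dg` as a homomorphism -/
def dgHom (F : Type*) [Field F] : Fˣ →* Matrix.SpecialLinearGroup (Fin 2) F where
  toFun := dg
  map_one' := by
    refine Matrix.SpecialLinearGroup.ext _ _ ?_
    intro i j
    rw [dg_val]
    fin_cases i <;> fin_cases j <;> simp
  map_mul' l m := (dg_mul l m).symm

theorem dg_injective : Function.Injective (dg : Fˣ → Matrix.SpecialLinearGroup (Fin 2) F) := by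
  intro l m h
  have h1 : (dg l : Matrix.SpecialLinearGroup (Fin 2) F) 0 0 = dg m 0 0 := by rw [h]
  apply Units.ext
  simpa [dg] using h1

theorem dg_pow (l : Fˣ) (n : ℕ) : (dg l : Matrix.SpecialLinearGroup (Fin 2) F) ^ n = dg (l ^ n) :=
  (map_pow (dgHom F) l n).symm

theorem dg_zpow (l : Fˣ) (n : ℤ) : (dg l : Matrix.SpecialLinearGroup (Fin 2) F) ^ n = dg (l ^ n) :=
  (map_zpow (dgHom F) l n).symm

theorem orderOf_dg (l : Fˣ) : orderOf (dg l : Matrix.SpecialLinearGroup (Fin 2) F) = orderOf l :=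
  orderOf_injective (dgHom F) dg_injective l

theorem dg_neg_one_comm (M : Matrix.SpecialLinearGroup (Fin 2) F) : dg (-1 : Fˣ) * M = M * dg (-1 : Fˣ) := by
  refine Matrix.SpecialLinearGroup.ext _ _ ?_
  intro i j
  rw [Matrix.SpecialLinearGroup.coe_mul, Matrix.SpecialLinearGroup.coe_mul, dg_val]
  fin_cases i <;> fin_cases j <;> simp [mul_apply, Fin.sum_univ_two]

theorem vv_sq : vv F * vv F = dg (-1 : Fˣ) := by
  refine Matrix.SpecialLinearGroup.ext _ _ ?_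
  intro i j
  rw [vv_sq_val, dg_val]
  fin_cases i <;> fin_cases j <;> simp

theorem vv_dg (l : Fˣ) : vv F * dg l * (vv F)⁻¹ = (dg l)⁻¹ := by
  rw [mul_inv_eq_iff_eq_mul, dg_inv]
  refine Matrix.SpecialLinearGroup.ext _ _ ?_
  intro i j
  rw [Matrix.SpecialLinearGroup.coe_mul, Matrix.SpecialLinearGroup.coe_mul, dg_val, dg_val, vv_val]
  fin_cases i <;> fin_cases j <;> simp [mul_apply, Fin.sum_univ_two]

theorem vv_notMem (l : Fˣ) : vv F ∉ Subgroup.zpowers (dg l) := by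
  rintro ⟨i, hi⟩
  have hi' : dg l ^ i = vv F := hi
  rw [dg_zpow] at hi'
  have h1 : (dg (l ^ i) : Matrix.SpecialLinearGroup (Fin 2) F) 0 0 = vv F 0 0 := by rw [hi']
  have h2 : ((l ^ i : Fˣ) : F) = 0 := by simpa [dg, vv] using h1
  exact (l ^ i).ne_zero h2

theorem conj_vv_sq : (MulAut.conj (vv F)) ^ 2 = 1 := by
  rw [← map_pow, pow_two, vv_sq]
  refine MulEquiv.ext fun M => ?_
  rw [MulAut.conj_apply, dg_neg_one_comm, mul_inv_cancel_right]
  rfl

theorem exists_frob [Fintype F] {N : ℕ} (hF : Fintype.card F = 5 ^ N) :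
    ∃ φ : RingAut F, (∀ (i : ℕ) (a : F), (φ ^ i) a = a ^ 5 ^ i) ∧ φ ^ N = 1 := by
  have : Fact (Nat.Prime 5) := ⟨by norm_num⟩
  have hc : CharP F 5 := charP_of_card_eq_prime_pow hF
  let φ : RingAut F := frobeniusEquiv F 5
  have h1 : ∀ (i : ℕ) (a : F), (φ ^ i) a = a ^ 5 ^ i := by
    intro i
    induction i with
    | zero => intro a; simp
    | succ i ih =>
      intro a
      rw [pow_succ', RingAut.mul_apply, ih]
      show frobeniusEquiv F 5 (a ^ 5 ^ i) = _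
      rw [frobeniusEquiv_apply, frobenius_def, ← pow_mul, pow_succ]
  refine ⟨φ, h1, ?_⟩
  apply RingEquiv.ext
  intro a
  rw [h1, ← hF, FiniteField.pow_card]
  rfl

theorem exists_alpha [Fintype F] {K : ℕ} (hK : 2 ≤ K) (hF : Fintype.card F = 5 ^ 2 ^ (K - 2)) {ζ : Fˣ}
    (hζ : orderOf ζ = 2 ^ K) {u j n : ℕ} (hu : Odd u) (hn : Even n) (hun : u ^ n ≡ 1 [MOD 2 ^ K])
    (hs : ∑ i ∈ Finset.range n, u ^ i ≡ 2 * j [MOD 2 ^ K]) :
    ∃ α : MulAut (Matrix.SpecialLinearGroup (Fin 2) F), α (dg ζ) = dg ζ ^ u ∧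
      α (vv F) = dg ζ * vv F ∧ α ^ n = MulAut.conj (dg ζ ^ j) := by
  obtain ⟨φ, hφ, hφN⟩ := exists_frob hF
  obtain ⟨i, hi⟩ := exists_pm_five hK u hu
  set σ : RingAut F := φ ^ i with hσ
  have hσζ : Units.map (σ : F →* F) ζ = ζ ^ 5 ^ i := by
    apply Units.ext
    rw [Units.val_pow_eq_pow_val]
    exact hφ i ζ
  -- `σ ^ n = 1`
  have hσn : σ ^ n = 1 := by
    have h1 : (5 : ℤ) ^ (i * n) ≡ 1 [ZMOD 2 ^ K] := by
      have h2 : (u : ℤ) ^ n ≡ 1 [ZMOD 2 ^ K] := by exact_mod_cast (Int.natCast_modEq_iff.2 hun)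
      refine Int.ModEq.trans ?_ h2
      rw [pow_mul]
      rcases hi with h | h
      · exact (Int.modEq_iff_dvd.2 h).pow n
      · have h3 : (u : ℤ) ≡ -5 ^ i [ZMOD 2 ^ K] := by
          refine (Int.modEq_iff_dvd.2 ?_).symm
          rwa [sub_neg_eq_add]
        have h4 := h3.pow n
        rw [hn.neg_pow] at h4
        exact h4.symm
    have h5 : (5 : ZMod (2 ^ K)) ^ (i * n) = 1 := by
      have h6 := (ZMod.intCast_eq_intCast_iff ((5 : ℤ) ^ (i * n)) 1 (2 ^ K)).2 (by exact_mod_cast h1)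
      push_cast at h6
      exact h6
    have h7 := orderOf_dvd_of_pow_eq_one h5
    have h8 : orderOf (5 : ZMod (2 ^ K)) = 2 ^ (K - 2) := by
      have := ZMod.orderOf_five (K - 2)
      rwa [Nat.sub_add_cancel hK] at this
    rw [h8] at h7
    obtain ⟨t, ht⟩ := h7
    rw [hσ, ← pow_mul, ht, pow_mul, hφN, one_pow]
  have hζz : ∀ a : ℤ, (2 : ℤ) ^ K ∣ a → ζ ^ a = 1 := by
    intro a ha
    rw [← orderOf_dvd_iff_zpow_eq_one, hζ]
    exact_mod_cast ha
  -- the final computation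
  have hfin : ∀ Φ : MulAut (Matrix.SpecialLinearGroup (Fin 2) F), Φ * tw 1 ζ = tw 1 ζ ^ u * Φ →
      Φ ^ n = 1 → (tw 1 ζ * Φ) ^ n = MulAut.conj (dg ζ ^ j) := by
    intro Φ h1 h2
    rw [pow_of_conj h1, h2, mul_one, tw_one_pow, dg_pow, ← tw_sq, ← pow_add]
    congr 1
    rw [pow_eq_pow_iff_modEq, hζ, ← two_mul]
    exact hs
  rcases hi with h | h
  · have hζu : ζ ^ 5 ^ i = ζ ^ u := by
      have h1 := hζz _ h
      rw [_root_.zpow_sub, mul_inv_eq_one] at h1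
      have h2 : ζ ^ (u : ℤ) = ζ ^ (((5 ^ i : ℕ)) : ℤ) := by rw [h1]; push_cast; rfl
      rw [zpow_natCast, zpow_natCast] at h2
      exact h2.symm
    refine ⟨tw 1 ζ * tw σ 1, ?_, ?_, hfin _ ?_ ?_⟩
    · rw [MulAut.mul_apply, tw_dg, tw_dg, hσζ, hζu, dg_pow]
      rfl
    · have h1 : dg (1 : Fˣ) * vv F = vv F := by
        have : dg (1 : Fˣ) = 1 := (dgHom F).map_one'
        rw [this, one_mul]
      rw [MulAut.mul_apply, tw_vv, h1, tw_vv]
    · rw [tw_one_pow, tw_mul, tw_mul, hσζ, hζu, one_mul, mul_one, one_mul, map_one, mul_one]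
    · rw [tw_pow_one, hσn, tw_one]
  · have hζu : ζ⁻¹ ^ 5 ^ i = ζ ^ u := by
      have h1 := hζz _ h
      rw [_root_.zpow_add, mul_eq_one_iff_eq_inv] at h1
      have h2 : ζ ^ (u : ℤ) = (ζ ^ (((5 ^ i : ℕ)) : ℤ))⁻¹ := by rw [h1]; push_cast; rfl
      rw [zpow_natCast, zpow_natCast] at h2
      rw [inv_pow]; exact h2.symm
    have hσζ' : Units.map (σ : F →* F) ζ⁻¹ = ζ ^ u := by rw [map_inv, hσζ, ← hζu, inv_pow]
    refine ⟨tw 1 ζ * (tw σ 1 * MulAut.conj (vv F)), ?_, ?_, hfin _ ?_ ?_⟩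
    · rw [MulAut.mul_apply, MulAut.mul_apply, MulAut.conj_apply, vv_dg, dg_inv, tw_dg, tw_dg, hσζ', dg_pow]
      rfl
    · have h1 : dg (1 : Fˣ) * vv F = vv F := by
        have : dg (1 : Fˣ) = 1 := (dgHom F).map_one'
        rw [this, one_mul]
      rw [MulAut.mul_apply, MulAut.mul_apply, MulAut.conj_apply, mul_inv_cancel_right, tw_vv, h1, tw_vv]
    · rw [mul_assoc, conj_vv_tw, ← mul_assoc, tw_mul, hσζ', tw_one_pow, ← mul_assoc, tw_mul, one_mul,
        mul_one, one_mul, map_one, mul_one]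
    · have hcm : Commute (tw σ 1) (MulAut.conj (vv F)) := by
        have := conj_vv_tw σ (1 : Fˣ)
        rw [inv_one] at this
        exact this.symm
      obtain ⟨r, hr⟩ := hn
      rw [hcm.mul_pow, tw_pow_one, hσn, tw_one, one_mul, hr, ← two_mul, pow_mul, conj_vv_sq, one_pow]

end field

theorem exists_sl {K : ℕ} (hK : 2 ≤ K) :
    ∃ (L : Type) (_ : Group L) (_ : Finite L) (c v : L), orderOf c = 2 ^ K ∧ v * c * v⁻¹ = c⁻¹ ∧
      v ^ 2 = c ^ 2 ^ (K - 1) ∧ v ∉ Subgroup.zpowers c ∧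
      (∀ l, c ^ 2 ^ (K - 1) * l = l * c ^ 2 ^ (K - 1)) ∧ ¬ 2 ∣ (Subgroup.closure {c, v}).index ∧
      HasTri L ∧ ∀ u j n : ℕ, Odd u → Even n → u ^ n ≡ 1 [MOD 2 ^ K] →
        ∑ i ∈ Finset.range n, u ^ i ≡ 2 * j [MOD 2 ^ K] →
        ∃ α : MulAut L, α c = c ^ u ∧ α v = c * v ∧ α ^ n = MulAut.conj (c ^ j) := by
  have : Fact (Nat.Prime 5) := ⟨by norm_num⟩
  obtain ⟨F, _, _, hF⟩ := exists_field 5 (2 ^ (K - 2)) (by positivity)
  obtain ⟨o, ho, hqo⟩ := pow_two_pow_sub_one_five (K - 2)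
  rw [Nat.sub_add_cancel hK] at hqo
  have hcardU : Nat.card Fˣ = 2 ^ K * o := by
    rw [Nat.card_units, Nat.card_eq_fintype_card, hF, hqo]
  obtain ⟨ζ, hζ⟩ : ∃ ζ : Fˣ, orderOf ζ = 2 ^ K := by
    obtain ⟨g, hg⟩ := IsCyclic.exists_ofOrder_eq_natCard (α := Fˣ)
    rw [hcardU] at hg
    have ho0 : o ≠ 0 := by rintro rfl; exact absurd ho (by decide)
    refine ⟨g ^ o, ?_⟩
    rw [orderOf_pow_of_dvd ho0 (by rw [hg]; exact dvd_mul_left _ _), hg,
      Nat.mul_div_cancel _ (Nat.pos_of_ne_zero ho0)]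
  have hζh : ζ ^ 2 ^ (K - 1) = -1 := by
    have h1 : (ζ ^ 2 ^ (K - 1)) ^ 2 = 1 := by
      rw [← pow_mul, ← pow_succ, Nat.sub_add_cancel (by omega), ← hζ, pow_orderOf_eq_one]
    have h2 : ζ ^ 2 ^ (K - 1) ≠ 1 := by
      intro h
      have h3 := orderOf_dvd_of_pow_eq_one h
      rw [hζ, Nat.pow_dvd_pow_iff_le_right (by norm_num)] at h3
      omega
    apply Units.ext
    have h4 : ((ζ ^ 2 ^ (K - 1) : Fˣ) : F) * ((ζ ^ 2 ^ (K - 1) : Fˣ) : F) = 1 := by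
      rw [pow_two] at h1
      exact congrArg Units.val h1
    rcases mul_self_eq_one_iff.1 h4 with h5 | h5
    · exact absurd (Units.ext h5) h2
    · rw [h5]; simp
  have hodd : Odd (Fintype.card F) := by rw [hF]; exact (show Odd 5 by decide).pow
  have hv2 : (vv F) ^ 2 = dg ζ ^ 2 ^ (K - 1) := by rw [dg_pow, hζh, pow_two, vv_sq]
  have hc := vv_dg (F := F) ζ
  have hn := vv_notMem (F := F) ζ
  have hcard : Nat.card (Subgroup.closure {dg ζ, vv F}) = 2 ^ (K + 1) := by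
    rw [dih_card hc (by rw [hv2]; exact pow_mem (Subgroup.mem_zpowers _) _) hn, orderOf_dg, hζ,
      pow_succ']
  refine ⟨Matrix.SpecialLinearGroup (Fin 2) F, inferInstance, inferInstance, dg ζ, vv F,
    by rw [orderOf_dg, hζ], hc, hv2, hn, ?_, ?_, hasTri_sl hodd, ?_⟩
  · intro l
    rw [dg_pow, hζh, dg_neg_one_comm]
  · have h1 := (Subgroup.closure {dg ζ, vv F}).card_mul_index
    rw [hcard, ClassicalGeometry.PSL2Basic.card_SL2, hF] at h1
    set q := 5 ^ 2 ^ (K - 2) with hq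
    have hq1 : 1 ≤ q := Nat.one_le_pow _ _ (by norm_num)
    have hmod : q % 4 = 1 := by rw [hq, Nat.pow_mod]; norm_num
    have h2 : q ^ 2 - 1 = (q - 1) * (q + 1) := by
      zify [hq1, Nat.one_le_pow 2 q (by omega)]
      ring
    have h3 : q + 1 = 2 * ((q + 1) / 2) := by omega
    have h4 : Odd ((q + 1) / 2) := by rw [Nat.odd_iff]; omega
    have h5 : 2 ^ (K + 1) * (Subgroup.closure {dg ζ, vv F}).index =
        2 ^ (K + 1) * (q * o * ((q + 1) / 2)) := by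
      rw [h1, h2, hqo, h3, pow_succ]
      have h6 : (2 * ((q + 1) / 2)) / 2 = (q + 1) / 2 := by omega
      rw [h6]; ring
    have h7 := Nat.eq_of_mul_eq_mul_left (by positivity) h5
    rw [h7, ← even_iff_two_dvd, Nat.not_even_iff_odd]
    refine (Odd.mul ?_ ho).mul h4
    rw [Nat.odd_iff]; omega
  · intro u j n hu hn' hun hs
    exact exists_alpha hK hF hζ hu hn' hun hs

end Cfsg.Agent.H774
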