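import Cfsg.Agent.H774.Real
import Cfsg.Agent.H774.DatE

/-!
# The structure of the bicyclic 2-groups with cyclic commutator subgroup (helper774)
-/

set_option autoImplicit false
set_option linter.unusedSectionVars false

namespace Cfsg.Agent.H774

open Subgroup Cfsg.Agent.OddOrderLocal.Metacyclic
open scoped commutatorElement

section

variable {P : Type*} [Group P] [Finite P]

/-- conjugates in cyclic subgroups have odd exponent -/
theorem odd_of_conj (hP : IsPGroup 2 P) {c g : P} (hc : c ≠ 1) {s : ℤ} (h : g * c * g⁻¹ = c ^ s) :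
    Odd s := by
  by_contra hs
  rw [Int.not_odd_iff_even] at hs
  obtain ⟨t, ht⟩ := hs
  obtain ⟨k, hk⟩ := IsPGroup.iff_orderOf.1 hP c
  have hk0 : k ≠ 0 := by
    rintro rfl
    rw [pow_zero, orderOf_eq_one_iff] at hk
    exact hc hk
  obtain ⟨l, rfl⟩ := Nat.exists_eq_succ_of_ne_zero hk0
  have h1 : (g * c * g⁻¹) ^ 2 ^ l = 1 := by
    rw [h, ht]
    have h2 : (c ^ (t + t)) ^ 2 ^ l = (c ^ 2 ^ (l + 1)) ^ t := by
      rw [← zpow_natCast, ← zpow_natCast c (2 ^ (l + 1)), ← zpow_mul, ← zpow_mul]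
      congr 1; push_cast; ring
    rw [h2, ← Nat.succ_eq_add_one, ← hk, pow_orderOf_eq_one, one_zpow]
  rw [conj_pow] at h1
  have h2 : c ^ 2 ^ l = 1 := by
    calc c ^ 2 ^ l = g⁻¹ * (g * c ^ 2 ^ l * g⁻¹) * g := by group
      _ = 1 := by rw [h1]; group
  have h3 := orderOf_dvd_of_pow_eq_one h2
  rw [hk, Nat.pow_dvd_pow_iff_le_right (by norm_num)] at h3
  omega

/-- for cyclic `P'`, `KK P = Φ(P')` -/
theorem KK_le_of_isCyclic (hP : IsPGroup 2 P) (hc : IsCyclic (_root_.commutator P)) :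
    KK P ≤ Sq (_root_.commutator P) := by
  obtain ⟨⟨d, hd⟩, hgen⟩ := hc.exists_generator
  have hgen' : ∀ e ∈ _root_.commutator P, ∃ i : ℤ, e = d ^ i := by
    intro e he
    obtain ⟨i, hi⟩ := hgen ⟨e, he⟩
    exact ⟨i, (congrArg Subtype.val hi).symm⟩
  have hn : (_root_.commutator P).Normal := inferInstance
  unfold KK
  refine sup_le ?_ le_rfl
  rw [commutator_le]
  intro e he g _
  have key : ∀ g : P, ∀ e ∈ _root_.commutator P, g * e * g⁻¹ * e⁻¹ ∈ Sq (_root_.commutator P) := by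
    intro g e he
    by_cases hd1 : d = 1
    · obtain ⟨i, rfl⟩ := hgen' e he
      rw [hd1]; simp
    · obtain ⟨s, hs⟩ := hgen' _ (hn.conj_mem d hd g)
      obtain ⟨t, rfl⟩ := odd_of_conj hP hd1 hs
      obtain ⟨i, rfl⟩ := hgen' e he
      have h1 : g * d ^ i * g⁻¹ * (d ^ i)⁻¹ = (d ^ (t * i)) ^ 2 := by
        rw [← conj_zpow, hs, ← zpow_mul, ← zpow_natCast, ← zpow_mul, ← zpow_neg, ← zpow_add]
        congr 1; push_cast; ring
      rw [h1]
      exact sq_mem_Sq (zpow_mem hd _)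
  have h1 := inv_mem (key g e he)
  have h2 : ⁅e, g⁆ = (g * e * g⁻¹ * e⁻¹)⁻¹ := by rw [commutatorElement_def]; group
  rw [h2]
  exact h1

theorem isMetacyclic_of_mem_Sq (hP : IsPGroup 2 P) {x v : P} (hgen : Subgroup.closure {x, v} = ⊤)
    (hv : v ∈ Sq (⊤ : Subgroup P)) : Cfsg.IsMetacyclic P := by
  have h1 : zpowers x = ⊤ := by
    refine eq_of_le_sup_Sq (hP.to_subgroup ⊤) le_top ?_
    rw [← hgen, closure_le]
    rintro y (rfl | rfl)
    · exact mem_sup_left (mem_zpowers y)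
    · refine mem_sup_right ?_
      rw [hgen]; exact hv
  exact isMetacyclic_of_isCyclic ⟨x, fun g => by
    have h2 : g ∈ zpowers x := h1 ▸ mem_top g
    exact h2⟩

end

/-- The structure. -/
structure Str {P : Type*} [Group P] (x v c : P) (k m u j : ℕ) : Prop where
  hk : 1 ≤ k
  oc : orderOf c = 2 ^ k
  hm : 1 ≤ m
  hu : Odd u
  xc : x * c * x⁻¹ = c ^ u
  xv : x * v * x⁻¹ = c * v
  vc : v * c * v⁻¹ = c⁻¹
  v2 : v ^ 2 = 1 ∨ (2 ≤ k ∧ v ^ 2 = c ^ 2 ^ (k - 1))
  vn : v ∉ zpowers c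
  xn : x ^ 2 ^ m = c ^ j
  xd : ∀ i : ℤ, x ^ i ∈ Subgroup.closure {c, v} → ((2 ^ m : ℕ) : ℤ) ∣ i
  ju : j * u ≡ j [MOD 2 ^ k]
  su : ∑ i ∈ Finset.range (2 ^ m), u ^ i ≡ 2 * j [MOD 2 ^ k]
  gen : Subgroup.closure {x, v} = ⊤
  der : zpowers c = _root_.commutator P

theorem exists_str {P : Type*} [Group P] [Finite P] (hP : IsPGroup 2 P) (hm : ¬ Cfsg.IsMetacyclic P)
    (hcyc : IsCyclic (_root_.commutator P)) {x v : P} (hgen : Subgroup.closure {x, v} = ⊤)
    (hv : v ^ 2 ∈ Sq (_root_.commutator P)) : ∃ (c : P) (k m u j : ℕ), Str x v c k m u j := by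
  have : Fact (Nat.Prime 2) := ⟨Nat.prime_two⟩
  have hPS := commutator_le_Sq P
  have hn : (_root_.commutator P).Normal := inferInstance
  set c := x * v * x⁻¹ * v⁻¹ with hc
  have hcP : c ∈ _root_.commutator P := comm_mem_commutator x v
  -- `⟨c⟩ = P'`
  have hder : zpowers c = _root_.commutator P := by
    apply le_antisymm (zpowers_le.2 hcP)
    obtain ⟨⟨d, hd⟩, hdgen⟩ := hcyc.exists_generator
    have hdgen' : ∀ e ∈ _root_.commutator P, ∃ i : ℤ, e = d ^ i := by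
      intro e he
      obtain ⟨i, hi⟩ := hdgen ⟨e, he⟩
      exact ⟨i, (congrArg Subtype.val hi).symm⟩
    have hcn : (zpowers c).Normal := by
      refine ⟨?_⟩
      rintro _ ⟨l, rfl⟩ g
      show g * c ^ l * g⁻¹ ∈ zpowers c
      obtain ⟨i, hi⟩ := hdgen' c hcP
      obtain ⟨s, hs⟩ := hdgen' _ (hn.conj_mem d hd g)
      rw [← conj_zpow]
      refine zpow_mem ?_ l
      rw [hi, ← conj_zpow, hs, ← zpow_mul, mul_comm, zpow_mul]
      exact zpow_mem (mem_zpowers _) _
    have h1 := comm_mem_of_closure hgen (N := zpowers c) (by rw [← hc]; exact mem_zpowers c)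
    rw [_root_.commutator_def, commutator_le]
    intro a _ b _
    exact h1 a b
  have hcn : (zpowers c).Normal := by rw [hder]; infer_instance
  have hc1 : c ≠ 1 := by
    intro h
    apply hm
    refine isMetacyclic_of_comm_mem x v (fun a b => ?_) hgen
    have h1 := comm_mem_commutator a b
    rw [← hder, h, zpowers_one_eq_bot, mem_bot] at h1
    rw [h1]; exact one_mem _
  obtain ⟨k, hk⟩ := IsPGroup.iff_orderOf.1 hP c
  have hk0 : 1 ≤ k := by
    by_contra h
    have : k = 0 := by omega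
    subst this
    rw [pow_zero, orderOf_eq_one_iff] at hk
    exact hc1 hk
  have hnat : ∀ g ∈ zpowers c, ∃ i : ℕ, g = c ^ i := by
    intro g hg
    obtain ⟨i, hi⟩ := mem_powers_iff_mem_zpowers.2 hg
    exact ⟨i, hi.symm⟩
  obtain ⟨u, hu⟩ := hnat _ (hcn.conj_mem c (mem_zpowers c) x)
  obtain ⟨s, hs⟩ := hnat _ (hcn.conj_mem c (mem_zpowers c) v)
  have huodd : Odd u := by
    have := odd_of_conj hP hc1 (s := (u : ℤ)) (by rw [zpow_natCast]; exact hu)
    exact_mod_cast this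
  have hxv : x * v * x⁻¹ = c * v := by rw [hc]; group
  obtain ⟨r, hr⟩ : ∃ r : ℕ, v ^ 2 = c ^ (2 * r) := by
    have h1 : Sq (_root_.commutator P) ≤ zpowers (c ^ 2) := by
      rw [Sq_le_iff]
      intro h hh
      rw [← hder] at hh
      obtain ⟨i, rfl⟩ := hh
      refine ⟨i, ?_⟩
      show (c ^ 2) ^ i = (c ^ i) ^ 2
      rw [← zpow_natCast, ← zpow_natCast, ← zpow_mul, ← zpow_mul, mul_comm]
    obtain ⟨r, hr⟩ := mem_powers_iff_mem_zpowers.2 (h1 hv)
    exact ⟨r, by rw [pow_mul]; exact hr.symm⟩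
  have hmod : ∀ a b : ℤ, c ^ a = c ^ b → (2 : ℤ) ^ k ∣ b - a := by
    intro a b h
    have := (zpow_eq_zpow_iff_modEq.1 h)
    rw [hk] at this
    have h2 := Int.modEq_iff_dvd.1 this
    exact_mod_cast h2
  have hmod' : ∀ a b : ℤ, (2 : ℤ) ^ k ∣ b - a → c ^ a = c ^ b := by
    intro a b h
    rw [zpow_eq_zpow_iff_modEq, hk]
    exact Int.modEq_iff_dvd.2 (by exact_mod_cast h)
  -- the two congruences
  have e1 : (2 : ℤ) ^ k ∣ (1 + s + 2 * r) - 2 * r * u := by
    apply hmod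
    have h1 : x * v ^ 2 * x⁻¹ = c * (v * c * v⁻¹) * v ^ 2 := by
      rw [← conj_pow, hxv, pow_two, pow_two]; group
    rw [hr, hs, ← conj_pow, hu] at h1
    have h2 : (c ^ u) ^ (2 * r) = c ^ (2 * (r : ℤ) * u) := by
      rw [← pow_mul, ← zpow_natCast]; congr 1; push_cast; ring
    have h3 : c * c ^ s * c ^ (2 * r) = c ^ ((1 : ℤ) + s + 2 * r) := by
      rw [zpow_add, zpow_add, zpow_one, zpow_natCast]
      congr 1
      rw [← zpow_natCast]
      congr 1
    rw [← h2, h1, h3]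
  have e2 : (2 : ℤ) ^ k ∣ 2 * r - 2 * r * s := by
    apply hmod
    have h1 : v * v ^ 2 * v⁻¹ = v ^ 2 := by rw [pow_two]; group
    rw [hr, ← conj_pow, hs] at h1
    have h2 : (c ^ s) ^ (2 * r) = c ^ (2 * (r : ℤ) * s) := by
      rw [← pow_mul, ← zpow_natCast]; congr 1; push_cast; ring
    have h3 : c ^ (2 * r) = c ^ (2 * (r : ℤ)) := by
      rw [← zpow_natCast]; congr 1
    rw [← h2, h1, h3]
  obtain ⟨w, hw⟩ := huodd
  have e3 : (2 : ℤ) ^ k ∣ 4 * r := by
    have h1 : (2 : ℤ) ^ k ∣ (4 * r) * (2 * r * w - 1) := by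
      have h2 : (4 * r : ℤ) * (2 * r * w - 1) =
          -(2 * r) * ((1 + s + 2 * r) - 2 * r * u) - (2 * r - 2 * r * s) := by
        rw [hw]; push_cast; ring
      rw [h2]
      exact dvd_sub (Dvd.dvd.mul_left e1 _) e2
    have h3 : IsCoprime ((2 : ℤ) ^ k) (2 * r * w - 1) := by
      refine IsCoprime.pow_left ⟨r * w, -1, by ring⟩
    exact h3.dvd_of_dvd_mul_right h1
  have e4 : (2 : ℤ) ^ k ∣ 1 + s := by
    have h1 : (1 + s : ℤ) = ((1 + s + 2 * r) - 2 * r * u) + (4 * r) * w := by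
      rw [hw]; push_cast; ring
    rw [h1]
    exact dvd_add e1 (Dvd.dvd.mul_right e3 _)
  have hvc : v * c * v⁻¹ = c⁻¹ := by
    rw [hs, ← zpow_natCast, ← zpow_neg_one]
    apply hmod'
    have : (-1 : ℤ) - s = -(1 + s) := by ring
    rw [this]
    exact e4.neg_right
  have hv2 : v ^ 2 = 1 ∨ (2 ≤ k ∧ v ^ 2 = c ^ 2 ^ (k - 1)) := by
    rcases Nat.lt_or_ge k 2 with h | h
    · left
      have : k = 1 := by omega
      subst this
      rw [hr, pow_mul]
      rw [pow_one] at hk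
      rw [← hk, pow_orderOf_eq_one, one_pow]
    · obtain ⟨l, rfl⟩ : ∃ l, k = l + 2 := ⟨k - 2, by omega⟩
      obtain ⟨t, ht⟩ := e3
      have h1 : (r : ℤ) = 2 ^ l * t := by
        have h2 : (4 : ℤ) * r = 4 * (2 ^ l * t) := by rw [ht]; ring
        linarith
      have h3 : v ^ 2 = c ^ ((2 : ℤ) ^ (l + 1) * t) := by
        rw [hr, ← zpow_natCast]
        congr 1
        push_cast
        rw [h1]; ring
      rcases Int.even_or_odd t with ⟨t', ht'⟩ | ⟨t', ht'⟩
      · left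
        rw [h3, ← zpow_zero c]
        apply hmod'
        rw [ht']
        exact ⟨-t', by ring⟩
      · right
        refine ⟨h, ?_⟩
        rw [h3, ← zpow_natCast]
        apply hmod'
        rw [ht']
        refine ⟨-t', ?_⟩
        have : l + 2 - 1 = l + 1 := by omega
        rw [this]
        push_cast
        ring
  have hvS : v ∉ Sq (⊤ : Subgroup P) := fun h => hm (isMetacyclic_of_mem_Sq hP hgen h)
  have hcS : ∀ g ∈ zpowers c, g ∈ Sq (⊤ : Subgroup P) := fun g hg => by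
    rw [hder] at hg; exact hPS hg
  have hvn : v ∉ zpowers c := fun h => hvS (hcS v h)
  -- `D`
  set D := Subgroup.closure {c, v} with hD
  have hv2m : v ^ 2 ∈ zpowers c := by rw [hr]; exact pow_mem (mem_zpowers c) _
  have hDn : D.Normal := by
    have h1 : x ∈ normalizer (D : Set P) := by
      refine mem_normalizer_of_conj fun a ha => ?_
      have h2 : D ≤ D.comap (MulAut.conj x).toMonoidHom := by
        rw [hD, closure_le]
        rintro y (rfl | rfl)
        · show x * c * x⁻¹ ∈ Subgroup.closure _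
          rw [hu]; exact pow_mem c_mem_dih _
        · show x * y * x⁻¹ ∈ Subgroup.closure _
          rw [hxv]; exact mul_mem c_mem_dih v_mem_dih
      exact h2 ha
    have h2 : v ∈ normalizer (D : Set P) := le_normalizer v_mem_dih
    have h3 : normalizer (D : Set P) = ⊤ := by
      rw [← top_le_iff, ← hgen, closure_le]
      rintro y (rfl | rfl)
      · exact h1
      · exact h2
    exact normalizer_eq_top_iff.1 h3
  obtain ⟨m, hm'⟩ := IsPGroup.iff_orderOf.1 (hP.to_quotient D) (x : P ⧸ D)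
  have hxd : ∀ i : ℤ, x ^ i ∈ D ↔ ((2 ^ m : ℕ) : ℤ) ∣ i := by
    intro i
    rw [← hm', orderOf_dvd_iff_zpow_eq_one, ← QuotientGroup.mk_zpow, QuotientGroup.eq_one_iff]
  have hm1 : 1 ≤ m := by
    by_contra h
    have : m = 0 := by omega
    subst this
    have h1 : x ∈ D := by
      have := (hxd 1).2 (by simp)
      rwa [zpow_one] at this
    apply hm
    refine isMetacyclic_of_mem_Sq hP (x := v) (v := c) ?_ (hcS c (mem_zpowers c))
    rw [← top_le_iff, ← hgen, closure_le]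
    rintro y (rfl | rfl)
    · rw [Set.pair_comm]; exact h1
    · exact subset_closure (by simp)
  have hxnD : x ^ 2 ^ m ∈ D := by
    have := (hxd ((2 ^ m : ℕ) : ℤ)).2 (dvd_refl _)
    rwa [zpow_natCast] at this
  have hxn : x ^ 2 ^ m ∈ zpowers c := by
    obtain ⟨i, h | h⟩ := dih_cases hvc hv2m hxnD
    · rw [h]; exact zpow_mem (mem_zpowers c) i
    · exfalso
      apply hvS
      have h1 : v = (c ^ i)⁻¹ * x ^ 2 ^ m := by rw [h]; group
      rw [h1]
      refine mul_mem (inv_mem (hcS _ (zpow_mem (mem_zpowers c) i))) ?_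
      obtain ⟨l, rfl⟩ : ∃ l, m = l + 1 := ⟨m - 1, by omega⟩
      rw [pow_succ, pow_mul]
      exact sq_mem_Sq (mem_top _)
  obtain ⟨j, hj⟩ := hnat _ hxn
  have hju : j * u ≡ j [MOD 2 ^ k] := by
    rw [← hk, ← pow_eq_pow_iff_modEq]
    have h1 : x * x ^ 2 ^ m * x⁻¹ = x ^ 2 ^ m := by rw [← pow_succ', pow_succ]; group
    rw [hj, ← conj_pow, hu, ← pow_mul, mul_comm] at h1
    exact h1
  have hsum : ∀ i : ℕ, x ^ i * v * (x ^ i)⁻¹ = c ^ (∑ l ∈ Finset.range i, u ^ l) * v := by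
    intro i
    induction i with
    | zero => simp
    | succ i ih =>
      have h1 : x ^ (i + 1) * v * (x ^ (i + 1))⁻¹ = x * (x ^ i * v * (x ^ i)⁻¹) * x⁻¹ := by
        rw [pow_succ']; group
      have h2 : x * (c ^ (∑ l ∈ Finset.range i, u ^ l) * v) * x⁻¹ =
          (x * c ^ (∑ l ∈ Finset.range i, u ^ l) * x⁻¹) * (x * v * x⁻¹) := by group
      rw [h1, ih, h2, hxv, ← conj_pow, hu, ← mul_assoc, ← pow_mul, ← pow_succ, Finset.sum_range_succ',
        pow_zero, Finset.mul_sum]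
      simp only [pow_succ']
  have hsu : ∑ i ∈ Finset.range (2 ^ m), u ^ i ≡ 2 * j [MOD 2 ^ k] := by
    rw [← hk, ← pow_eq_pow_iff_modEq]
    have h1 := hsum (2 ^ m)
    rw [hj] at h1
    have h2 : c ^ j * v * (c ^ j)⁻¹ = c ^ (2 * j) * v := by
      have h3 := dih_conj hvc (-(j : ℤ))
      rw [neg_neg, zpow_neg, zpow_natCast] at h3
      rw [mul_assoc, h3, ← mul_assoc, ← pow_add, two_mul]
    rw [h2] at h1
    exact (mul_right_cancel h1).symm
  exact ⟨c, k, m, u, j, ⟨hk0, hk, hm1, ⟨w, hw⟩, hu, hxv, hvc, hv2, hvn, hj, fun i hi => (hxd i).1 hi,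
    hju, hsu, hgen, hder⟩⟩

end Cfsg.Agent.H774
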